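/-
Even permutations supported on small sets of points.
-/
import Mathlib

set_option autoImplicit false
set_option linter.unusedSectionVars false

namespace CfsgLib.AltGL

open Equiv

variable {X : Type*} [Fintype X] [DecidableEq X]

/-- A permutation of a few points as a permutation of all points. -/
noncomputable abbrev emb {m : ℕ} (ι : Fin m ↪ X) : Perm (Fin m) →* Perm X :=
  Perm.viaEmbeddingHom ι

theorem emb_apply {m : ℕ} (ι : Fin m ↪ X) (p : Perm (Fin m)) (i : Fin m) :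
    emb ι p (ι i) = ι (p i) := by
  rw [emb, Perm.viaEmbeddingHom_apply, Perm.viaEmbedding_apply]

theorem emb_fix {m : ℕ} (ι : Fin m ↪ X) (p : Perm (Fin m)) {x : X} (hx : x ∉ Set.range ι) :
    emb ι p x = x := by
  rw [emb, Perm.viaEmbeddingHom_apply, Perm.viaEmbedding_apply_of_notMem _ _ _ hx]

theorem emb_injective {m : ℕ} (ι : Fin m ↪ X) : Function.Injective (emb ι) :=
  Perm.viaEmbeddingHom_injective ι

theorem emb_ext {m : ℕ} (ι : Fin m ↪ X) (p : Perm (Fin m)) {σ : Perm X}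
    (h1 : ∀ i, σ (ι i) = ι (p i)) (h2 : ∀ x ∉ Set.range ι, σ x = x) : σ = emb ι p := by
  ext x
  by_cases hx : x ∈ Set.range ι
  · obtain ⟨i, rfl⟩ := hx
    rw [h1, emb_apply]
  · rw [h2 x hx, emb_fix ι p hx]

theorem emb_swap {m : ℕ} (ι : Fin m ↪ X) (a b : Fin m) : emb ι (swap a b) = swap (ι a) (ι b) :=
  (emb_ext ι _ (fun i => ι.injective.swap_apply a b i) fun x hx =>
    swap_apply_of_ne_of_ne (fun h => hx ⟨a, h.symm⟩) fun h => hx ⟨b, h.symm⟩).symm

theorem sign_emb {m : ℕ} (ι : Fin m ↪ X) (p : Perm (Fin m)) :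
    Perm.sign (emb ι p) = Perm.sign p := by
  induction p using Perm.swap_induction_on with
  | one => simp
  | swap_mul f a b hab ih =>
    rw [map_mul, map_mul, map_mul, ih, emb_swap, Perm.sign_swap (ι.injective.ne hab),
      Perm.sign_swap hab]

theorem emb_conj {m : ℕ} {σ : Perm X} {ι ι' : Fin m ↪ X} (h : ∀ i, σ (ι i) = ι' i)
    (p : Perm (Fin m)) : σ * emb ι p * σ⁻¹ = emb ι' p := by
  refine emb_ext ι' p (fun i => ?_) fun x hx => ?_
  · rw [← h, Perm.mul_apply, Perm.mul_apply, Perm.inv_def, Equiv.symm_apply_apply, emb_apply, h]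
  · rw [Perm.mul_apply, Perm.mul_apply, emb_fix, Perm.inv_def, Equiv.apply_symm_apply]
    rintro ⟨i, hi⟩
    exact hx ⟨i, by rw [← h, hi, Perm.inv_def, Equiv.apply_symm_apply]⟩

theorem emb_trans {m l : ℕ} (j : Fin l ↪ Fin m) (ι : Fin m ↪ X) (p : Perm (Fin l)) :
    emb ι (emb j p) = emb (j.trans ι) p := by
  refine emb_ext _ p (fun i => ?_) fun x hx => ?_
  · show emb ι (emb j p) (ι (j i)) = ι (j (p i))
    rw [emb_apply, emb_apply]
  · by_cases h : x ∈ Set.range ι
    · obtain ⟨i, rfl⟩ := h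
      rw [emb_apply, emb_fix j p]
      rintro ⟨a, rfl⟩
      exact hx ⟨a, rfl⟩
    · exact emb_fix ι _ h

theorem emb_comm {m l : ℕ} {ι : Fin m ↪ X} {ι' : Fin l ↪ X}
    (h : ∀ i j, ι i ≠ ι' j) (p : Perm (Fin m)) (p' : Perm (Fin l)) :
    emb ι p * emb ι' p' = emb ι' p' * emb ι p := by
  ext x
  rw [Perm.mul_apply, Perm.mul_apply]
  by_cases hx : x ∈ Set.range ι
  · obtain ⟨i, rfl⟩ := hx
    rw [emb_apply, emb_fix ι' p' (fun ⟨j, hj⟩ => h _ j hj.symm),
      emb_fix ι' p' (fun ⟨j, hj⟩ => h _ j hj.symm), emb_apply]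
  · by_cases hy : x ∈ Set.range ι'
    · obtain ⟨j, rfl⟩ := hy
      rw [emb_apply, emb_fix ι p hx, emb_fix ι p (fun ⟨i, hi⟩ => h i _ hi), emb_apply]
    · rw [emb_fix ι' p' hy, emb_fix ι p hx, emb_fix ι' p' hy]

/-- Even permutations move small ordered sets to each other. -/
theorem exists_even_map {m : ℕ} (f g : Fin m ↪ X) (h : m + 2 ≤ Fintype.card X) :
    ∃ σ : Perm X, Perm.sign σ = 1 ∧ ∀ i, σ (f i) = g i := by
  classical
  obtain ⟨e, he⟩ := Perm.exists_extending_pair f g f.injective g.injective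
  rcases Int.units_eq_one_or (Perm.sign e) with hs | hs
  · exact ⟨e, hs, he⟩
  · have hcard : 1 < (Finset.univ.image g)ᶜ.card := by
      rw [Finset.card_compl, Finset.card_image_of_injective _ g.injective, Finset.card_univ,
        Fintype.card_fin]
      omega
    obtain ⟨a, ha, b, hb, hab⟩ := Finset.one_lt_card.1 hcard
    simp only [Finset.mem_compl, Finset.mem_image, Finset.mem_univ, true_and, not_exists] at ha hb
    refine ⟨swap a b * e, by rw [map_mul, hs, Perm.sign_swap hab]; rfl, fun i => ?_⟩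
    rw [Perm.mul_apply, he, swap_apply_of_ne_of_ne (ha i) (hb i)]

/-- A list of points extends to a longer one. -/
theorem exists_extend {m l : ℕ} (f : Fin m ↪ X) (hml : m ≤ l) (h : l ≤ Fintype.card X) :
    ∃ g : Fin l ↪ X, ∀ i : Fin m, g (Fin.castLE hml i) = f i := by
  classical
  let e : Fin l ↪ X := ((Fin.castLEEmb h).trans (Fintype.equivFin X).symm.toEmbedding)
  obtain ⟨σ, hσ⟩ := Perm.exists_extending_pair (fun i : Fin m => e (Fin.castLE hml i)) f
    (e.injective.comp (Fin.castLE_injective hml)) f.injective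
  exact ⟨e.trans σ.toEmbedding, hσ⟩

/-- The even permutations fixing given points. -/
def fixGrp (S : Finset X) : Subgroup (Perm X) where
  carrier := {σ | Perm.sign σ = 1 ∧ ∀ x ∈ S, σ x = x}
  one_mem' := ⟨map_one _, fun _ _ => rfl⟩
  mul_mem' := fun {a b} ha hb => ⟨by rw [map_mul, ha.1, hb.1, one_mul],
    fun x hx => by rw [Perm.mul_apply, hb.2 x hx, ha.2 x hx]⟩
  inv_mem' := fun {a} ha => ⟨by rw [map_inv, ha.1, inv_one],
    fun x hx => Perm.inv_eq_iff_eq.2 (ha.2 x hx).symm⟩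

theorem fixGrp_mono {S T : Finset X} (h : S ⊆ T) : fixGrp T ≤ fixGrp S :=
  fun _ hσ => ⟨hσ.1, fun x hx => hσ.2 x (h hx)⟩

theorem emb_mem_fixGrp {m : ℕ} {ι : Fin m ↪ X} {p : Perm (Fin m)} (hp : Perm.sign p = 1)
    {S : Finset X} (h : ∀ i, ι i ∉ S) : emb ι p ∈ fixGrp S :=
  ⟨(sign_emb ι p).trans hp, fun x hx => emb_fix ι p (by rintro ⟨i, rfl⟩; exact h i hx)⟩

end CfsgLib.AltGL
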