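/-
Representations of groups with alternating quotient: eigenspaces and restriction to point fixers.
-/
import Mathlib
import Cfsg.Agent.Lib.Known.AltGL.Perms

set_option autoImplicit false
set_option linter.unusedSectionVars false

namespace CfsgLib.AltGL

open Equiv Module

/-- The least degree allowed for a section `A_r` in characteristic `p`. -/
def bnd (p r : ℕ) : ℕ := r - 1 - (if p ∣ r then 1 else 0)

theorem bnd_bounds (p r : ℕ) : r - 2 ≤ bnd p r ∧ bnd p r ≤ r - 1 := by
  simp only [bnd]; split_ifs <;> omega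

theorem bnd_of_not_dvd {p r : ℕ} (h : ¬ p ∣ r) : bnd p r = r - 1 := by simp [bnd, h]

theorem bnd_of_dvd {p r : ℕ} (h : p ∣ r) : bnd p r = r - 2 := by
  simp [bnd, h]; omega

/-- The bound in dimension `m` and characteristic `p`. -/
def BoundAt (p m : ℕ) : Prop :=
  ∀ (k : Type) [Field k] [IsAlgClosed k] [CharP k p] (V : Type) [AddCommGroup V] [Module k V]
    [FiniteDimensional k V] (Γ : Type) [Group Γ] [Finite Γ] (ρ : Representation k Γ V)
    (X : Type) [Fintype X] [DecidableEq X] (π : Γ →* Perm X), π.range = alternatingGroup X →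
    9 ≤ Fintype.card X → (∀ g, ρ g = 1 → π g = 1) → finrank k V = m → bnd p (Fintype.card X) ≤ m

/-- The bound in all dimensions below `n`, in every characteristic. -/
def BoundBelow (n : ℕ) : Prop := ∀ p, p.Prime → ∀ m < n, BoundAt p m

variable {k : Type} [Field k] {V : Type} [AddCommGroup V] [Module k V]
  {Γ : Type} [Group Γ] (ρ : Representation k Γ V)

theorem rep_mul_apply (g h : Γ) (v : V) : ρ (g * h) v = ρ g (ρ h v) := by rw [map_mul]; rfl

theorem rep_one_apply (v : V) : ρ 1 v = v := by rw [map_one]; rfl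

theorem rep_inv_apply (g : Γ) (v : V) : ρ g⁻¹ (ρ g v) = v := by
  rw [← rep_mul_apply, inv_mul_cancel, rep_one_apply]

theorem rep_inj (g : Γ) : Function.Injective (ρ g) := fun v w h => by
  rw [← rep_inv_apply ρ g v, h, rep_inv_apply ρ g w]

/-- An eigenspace of an element. -/
abbrev eig (g : Γ) (lam : k) : Submodule k V := Module.End.eigenspace (ρ g) lam

theorem mem_eig {g : Γ} {lam : k} {v : V} : v ∈ eig ρ g lam ↔ ρ g v = lam • v :=
  Module.End.mem_eigenspace_iff

theorem eig_conj_mem {g g' h : Γ} (e : h * g * h⁻¹ = g') {lam : k} {v : V}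
    (hv : v ∈ eig ρ g lam) : ρ h v ∈ eig ρ g' lam := by
  rw [mem_eig, ← e, rep_mul_apply, rep_mul_apply, rep_inv_apply, (mem_eig ρ).1 hv, map_smul]

theorem finrank_eig_conj [FiniteDimensional k V] {g g' h : Γ} (e : h * g * h⁻¹ = g') (lam : k) :
    finrank k (eig ρ g lam) = finrank k (eig ρ g' lam) := by
  refine le_antisymm ?_ ?_
  · exact LinearMap.finrank_le_finrank_of_injective
      (f := (ρ h).restrict fun v hv => eig_conj_mem ρ e hv)
      (fun v w hvw => Subtype.ext (rep_inj ρ h (congrArg Subtype.val hvw)))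
  · have e' : h⁻¹ * g' * h⁻¹⁻¹ = g := by rw [← e]; group
    exact LinearMap.finrank_le_finrank_of_injective
      (f := (ρ h⁻¹).restrict fun v hv => eig_conj_mem ρ e' hv)
      (fun v w hvw => Subtype.ext (rep_inj ρ h⁻¹ (congrArg Subtype.val hvw)))

theorem eig_comm_mem {g h : Γ} (e : h * g = g * h) {lam : k} {v : V} (hv : v ∈ eig ρ g lam) :
    ρ h v ∈ eig ρ g lam :=
  eig_conj_mem ρ (by rw [e, mul_inv_cancel_right]) hv

theorem eig_pow {g : Γ} {lam : k} {v : V} (hv : v ∈ eig ρ g lam) (j : ℕ) :
    v ∈ eig ρ (g ^ j) (lam ^ j) := by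
  rw [mem_eig] at hv ⊢
  induction j with
  | zero => simp
  | succ j ih => rw [pow_succ, rep_mul_apply, hv, map_smul, ih, smul_smul, pow_succ']

theorem eig_root {g : Γ} {l : ℕ} (hg : g ^ l = 1) {lam : k} (h : eig ρ g lam ≠ ⊥) :
    lam ^ l = 1 := by
  obtain ⟨v, hv, hv0⟩ := (Submodule.ne_bot_iff _).1 h
  have := (mem_eig ρ).1 (eig_pow ρ hv l)
  rw [hg, rep_one_apply] at this
  have h2 : (lam ^ l - 1) • v = 0 := by rw [sub_smul, one_smul, ← this, sub_self]
  exact sub_eq_zero.1 ((smul_eq_zero.1 h2).resolve_right hv0)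

/-- An element of order prime to the characteristic is diagonalisable. -/
theorem iSup_eig [IsAlgClosed k] [FiniteDimensional k V] {g : Γ} {l : ℕ} (hl : (l : k) ≠ 0)
    (hg : g ^ l = 1) : ⨆ lam : k, eig ρ g lam = ⊤ := by
  have hs : Module.End.IsSemisimple (ρ g) := by
    refine Module.End.isSemisimple_of_squarefree_aeval_eq_zero
      (Polynomial.separable_X_pow_sub_C (1 : k) hl one_ne_zero).squarefree ?_
    rw [map_sub, map_pow, Polynomial.aeval_X, Polynomial.aeval_C, map_one, ← map_pow, hg, map_one,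
      sub_self]
  rw [← Module.End.iSup_maxGenEigenspace_eq_top (ρ g)]
  exact iSup_congr fun lam => (hs.isFinitelySemisimple.maxGenEigenspace_eq_eigenspace lam).symm

/-- An element of order prime to the characteristic with trivial eigenspaces is trivial. -/
theorem eq_one_of_eig [IsAlgClosed k] [FiniteDimensional k V] {g : Γ} {l : ℕ} (hl : (l : k) ≠ 0)
    (hg : g ^ l = 1) (h : ∀ lam : k, lam ^ l = 1 → lam ≠ 1 → eig ρ g lam = ⊥) : ρ g = 1 := by
  have htop : eig ρ g 1 = ⊤ := by
    refine top_le_iff.1 ((iSup_eig ρ hl hg).symm.le.trans (iSup_le fun lam => ?_))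
    rcases eq_or_ne lam 1 with rfl | h1
    · exact le_rfl
    by_cases hb : eig ρ g lam = ⊥
    · rw [hb]; exact bot_le
    · exact absurd (h lam (eig_root ρ hg hb) h1) hb
  ext v
  have := (mem_eig ρ).1 (htop.ge (Submodule.mem_top : v ∈ ⊤))
  simpa using this

/-- Independent subspaces have small total dimension. -/
theorem card_mul_le [FiniteDimensional k V] {ι : Type*} (U : ι → Submodule k V) (hind : iSupIndep U)
    (e : ℕ) (s : Finset ι) (h : ∀ i ∈ s, e ≤ finrank k (U i)) :
    s.card * e ≤ finrank k (⨆ i ∈ s, U i : Submodule k V) := by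
  classical
  induction s using Finset.induction_on with
  | empty => simp
  | insert a s ha ih =>
    have hd : Disjoint (U a) (⨆ i ∈ s, U i) := (hind a).mono_right
      (iSup₂_le fun i hi => le_iSup₂_of_le i (fun h => ha (h ▸ hi : _)) le_rfl)
    rw [Finset.iSup_insert, Finset.card_insert_of_notMem ha, add_mul, one_mul]
    have e1 := Submodule.finrank_sup_add_finrank_inf_eq (U a) (⨆ i ∈ s, U i)
    rw [hd.eq_bot, finrank_bot, add_zero] at e1
    rw [e1, add_comm]
    exact add_le_add (h a (Finset.mem_insert_self _ _))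
      (ih fun i hi => h i (Finset.mem_insert_of_mem hi))

theorem card_mul_le' [FiniteDimensional k V] {ι : Type*} (U : ι → Submodule k V) (hind : iSupIndep U)
    (e : ℕ) (s : Finset ι) (h : ∀ i ∈ s, e ≤ finrank k (U i)) : s.card * e ≤ finrank k V :=
  (card_mul_le U hind e s h).trans (Submodule.finrank_le _)

theorem eig_indep (g : Γ) : iSupIndep fun lam : k => eig ρ g lam :=
  Module.End.eigenspaces_iSupIndep (ρ g)

variable {X : Type} [Fintype X] [DecidableEq X] (π : Γ →* Perm X)

/-- The preimage of the even permutations fixing the points of `S`. -/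
abbrev fixPre (S : Finset X) : Subgroup Γ := (fixGrp S).comap π

/-- The action on the points outside `S`. -/
def fixHom (S : Finset X) : fixPre π S →* Perm {x // x ∉ S} where
  toFun g := (π g).subtypePerm fun x => by
    constructor
    · intro hx hy
      exact hx (by rwa [g.2.2 x hy])
    · intro hx hy
      have := g.2.2 _ hy
      exact hx ((π g).injective this ▸ hy)
  map_one' := by ext; simp
  map_mul' a b := by
    ext x
    show (π ((a : Γ) * b)) (x : X) = π a (π b x)
    rw [map_mul]; rfl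

variable {π}

theorem fixHom_eq_one {S : Finset X} {g : fixPre π S} :
    fixHom π S g = 1 ↔ π g = 1 := by
  refine ⟨fun h => Perm.ext fun x => ?_, fun h => Perm.ext fun x => Subtype.ext ?_⟩
  · by_cases hx : x ∈ S
    · rw [g.2.2 x hx]; rfl
    · exact congrArg Subtype.val (Perm.ext_iff.1 h ⟨x, hx⟩)
  · simp [fixHom, h]

theorem fixHom_range (hπ : π.range = alternatingGroup X) (S : Finset X) :
    (fixHom π S).range = alternatingGroup {x // x ∉ S} := by
  ext τ
  rw [Perm.mem_alternatingGroup]
  constructor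
  · rintro ⟨g, rfl⟩
    have h2 : ∀ x, π g x ≠ x → x ∉ S := fun x hx hy => hx (g.2.2 x hy)
    simp only [fixHom, MonoidHom.coe_mk, OneHom.coe_mk]
    rw [Perm.sign_subtypePerm _ _ h2]
    exact g.2.1
  · intro hτ
    have hσ : Perm.ofSubtype τ ∈ π.range := by
      rw [hπ, Perm.mem_alternatingGroup, Perm.sign_ofSubtype]; exact hτ
    obtain ⟨g, hg⟩ := hσ
    refine ⟨⟨g, ?_⟩, ?_⟩
    · show π g ∈ fixGrp S
      rw [hg]
      exact ⟨(Perm.sign_ofSubtype τ).trans hτ,
        fun x hx => Perm.ofSubtype_apply_of_not_mem τ (fun h => h hx)⟩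
    · ext x
      show (π g) x = (τ x : X)
      rw [hg, Perm.ofSubtype_apply_coe]

theorem card_compl (S : Finset X) : Fintype.card {x // x ∉ S} = Fintype.card X - S.card := by
  rw [Fintype.card_subtype_compl, Fintype.card_coe]

theorem exists_preimage (hπ : π.range = alternatingGroup X) {σ : Perm X} (hσ : Perm.sign σ = 1) :
    ∃ g, π g = σ := by
  have : σ ∈ π.range := by rw [hπ, Perm.mem_alternatingGroup]; exact hσ
  exact this

variable (π)

/-- The representation of a subgroup on an invariant subspace. -/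
def subRep (H : Subgroup Γ) (U : Submodule k V) (hU : ∀ g ∈ H, ∀ v ∈ U, ρ g v ∈ U) :
    Representation k H U where
  toFun g := (ρ g).restrict (hU g g.2)
  map_one' := by ext v; simp
  map_mul' a b := by ext v; simp

/-- Either the representation on an invariant subspace of a point fixer detects all its alternating
quotient, or each of its elements has a lift acting trivially. -/
theorem dichotomy (hπ : π.range = alternatingGroup X) (S : Finset X)
    (h5 : 5 ≤ Fintype.card X - S.card) (U : Submodule k V)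
    (hU : ∀ g ∈ fixPre π S, ∀ v ∈ U, ρ g v ∈ U) :
    (∀ g ∈ fixPre π S, (∀ v ∈ U, ρ g v = v) → π g = 1) ∨
      (∀ σ ∈ fixGrp S, ∃ g, π g = σ ∧ ∀ v ∈ U, ρ g v = v) := by
  let f := fixHom π S
  have hr := fixHom_range hπ S
  let N : Subgroup (fixPre π S) := (subRep ρ _ U hU).ker
  let f' : fixPre π S →* alternatingGroup {x // x ∉ S} :=
    f.codRestrict _ fun g => hr ▸ ⟨g, rfl⟩
  have hf' : Function.Surjective f' := fun τ => by
    obtain ⟨g, hg⟩ : (τ : Perm {x // x ∉ S}) ∈ f.range := hr.symm ▸ τ.2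
    exact ⟨g, Subtype.ext hg⟩
  haveI : IsSimpleGroup (alternatingGroup {x // x ∉ S}) := alternatingGroup.isSimpleGroup (by
    rw [Nat.card_eq_fintype_card, card_compl]; exact h5)
  haveI hN : (N.map f').Normal := Subgroup.Normal.map inferInstance _ hf'
  rcases hN.eq_bot_or_eq_top with h | h
  · left
    intro g hg hv
    have hgN : (⟨g, hg⟩ : fixPre π S) ∈ N := by
      ext v; exact hv v v.2
    have : f' ⟨g, hg⟩ ∈ (⊥ : Subgroup _) := h ▸ ⟨_, hgN, rfl⟩
    exact fixHom_eq_one.1 (congrArg Subtype.val (Subgroup.mem_bot.1 this))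
  · right
    intro σ hσ
    obtain ⟨g₀, hg₀⟩ := exists_preimage hπ hσ.1
    have hg₀m : g₀ ∈ fixPre π S := by show π g₀ ∈ fixGrp S; rwa [hg₀]
    obtain ⟨n, hn, e⟩ : f' ⟨g₀, hg₀m⟩ ∈ N.map f' := h ▸ Subgroup.mem_top _
    have hn' : π n = π g₀ := by
      have e1 : f (n⁻¹ * ⟨g₀, hg₀m⟩) = 1 := by
        rw [map_mul, map_inv, show f n = f ⟨g₀, hg₀m⟩ from congrArg Subtype.val e, inv_mul_cancel]
      have := fixHom_eq_one.1 e1
      simpa [inv_mul_eq_one] using this
    exact ⟨n, hn'.trans hg₀, fun v hv =>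
      congrArg Subtype.val (LinearMap.congr_fun hn ⟨v, hv⟩)⟩

/-- The induction hypothesis applied to an invariant subspace of a point fixer. -/
theorem sub_bound {p n : ℕ} (hp : p.Prime) [IsAlgClosed k] [CharP k p] [FiniteDimensional k V]
    [Finite Γ] (hrec : BoundBelow n) (hπ : π.range = alternatingGroup X) (S : Finset X)
    (h9 : 9 ≤ Fintype.card X - S.card) (U : Submodule k V)
    (hU : ∀ g ∈ fixPre π S, ∀ v ∈ U, ρ g v ∈ U) (hn : finrank k U < n)
    (hker : ∀ g ∈ fixPre π S, (∀ v ∈ U, ρ g v = v) → π g = 1) :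
    bnd p (Fintype.card X - S.card) ≤ finrank k U := by
  rw [← card_compl S]
  refine hrec p hp _ hn k U (fixPre π S) (subRep ρ _ U hU) {x // x ∉ S} (fixHom π S)
    (fixHom_range hπ S) (by rw [card_compl]; exact h9) (fun g hg => ?_) rfl
  exact fixHom_eq_one.2 (hker g g.2 fun v hv =>
    congrArg Subtype.val (LinearMap.congr_fun hg ⟨v, hv⟩))

end CfsgLib.AltGL
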