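/-
Common eigenspaces of commuting operators.
-/
import Mathlib
import Cfsg.Agent.Lib.Known.AltGL.Rep

set_option autoImplicit false
set_option linter.unusedSectionVars false

namespace CfsgLib.AltGL

open Module

variable {k : Type*} [Field k] {V : Type*} [AddCommGroup V] [Module k V]
  {ι : Type*} (f : ι → Module.End k V)

/-- The common eigenspace for a function. -/
abbrev wt (χ : ι → k) : Submodule k V := ⨅ i, Module.End.eigenspace (f i) (χ i)

theorem mem_wt {χ : ι → k} {v : V} : v ∈ wt f χ ↔ ∀ i, f i v = χ i • v := by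
  simp [wt, Submodule.mem_iInf, Module.End.mem_eigenspace_iff]

theorem wt_indep (hc : ∀ i j, f i * f j = f j * f i) : iSupIndep (wt f) :=
  (Module.End.independent_iInf_maxGenEigenspace_of_forall_mapsTo f fun i j φ =>
    Module.End.mapsTo_maxGenEigenspace_of_comm (hc j i) φ).mono
    fun χ => iInf_mono fun i => Module.End.eigenspace_le_maxGenEigenspace

theorem exists_wt [IsAlgClosed k] (hc : ∀ i j, f i * f j = f j * f i) :
    ∀ (d : ℕ) (U : Submodule k V) [FiniteDimensional k U], U ≠ ⊥ → finrank k U ≤ d →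
      (∀ i, ∀ v ∈ U, f i v ∈ U) → ∃ χ : ι → k, ∃ v ∈ U, v ≠ 0 ∧ v ∈ wt f χ := by
  intro d
  induction d with
  | zero =>
    intro U _ hU hd _
    exact absurd (Submodule.finrank_eq_zero.1 (Nat.le_zero.1 hd)) hU
  | succ d ih =>
    intro U _ hU hd hinv
    by_cases hs : ∀ i, ∃ c : k, ∀ v ∈ U, f i v = c • v
    · choose c hcv using hs
      obtain ⟨v, hv, hv0⟩ := (Submodule.ne_bot_iff _).1 hU
      exact ⟨c, v, hv, hv0, (mem_wt f).2 fun i => hcv i v hv⟩
    · push Not at hs
      obtain ⟨i, hi⟩ := hs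
      haveI : Nontrivial U := Submodule.nontrivial_iff_ne_bot.2 hU
      obtain ⟨c, hc'⟩ := Module.End.exists_eigenvalue ((f i).restrict (hinv i))
      obtain ⟨w, hw⟩ := hc'.exists_hasEigenvector
      let U' : Submodule k V := U ⊓ Module.End.eigenspace (f i) c
      have hle : U' ≤ U := inf_le_left
      haveI : FiniteDimensional k U' := Submodule.finiteDimensional_of_le hle
      have hw' : (w : V) ∈ U' := ⟨w.2, Module.End.mem_eigenspace_iff.2
        (congrArg Subtype.val hw.apply_eq_smul)⟩
      have hU' : U' ≠ ⊥ := fun h => hw.2 (Subtype.ext ((Submodule.mem_bot k).1 (h ▸ hw')))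
      have hlt : finrank k U' < finrank k U := by
        refine Submodule.finrank_lt_finrank_of_lt (lt_of_le_of_ne hle fun h => ?_)
        obtain ⟨v, hv, hne⟩ := hi c
        exact hne (Module.End.mem_eigenspace_iff.1 ((h.symm ▸ hv : v ∈ U').2))
      obtain ⟨χ, v, hv, hv0, hvw⟩ := ih U' hU' (by omega) fun j v hv =>
        ⟨hinv j v hv.1, Module.End.mem_eigenspace_iff.2 (by
          have hvc : f i v = c • v := Module.End.mem_eigenspace_iff.1 hv.2
          have h2 : f i (f j v) = f j (f i v) := LinearMap.congr_fun (hc i j) v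
          rw [h2, hvc, map_smul])⟩
      exact ⟨χ, v, hle hv, hv0, hvw⟩

theorem card_wt_le [FiniteDimensional k V] (hc : ∀ i j, f i * f j = f j * f i)
    (s : Finset (ι → k)) (h : ∀ χ ∈ s, wt f χ ≠ ⊥) : s.card ≤ finrank k V := by
  classical
  have key : ∀ t : Finset (ι → k), t ⊆ s → t.card ≤ finrank k (⨆ χ ∈ t, wt f χ : Submodule k V) := by
    intro t
    induction t using Finset.induction_on with
    | empty => simp
    | insert a t ha ih =>
      intro hts
      have hd : Disjoint (wt f a) (⨆ χ ∈ t, wt f χ) := (wt_indep f hc a).mono_right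
        (iSup₂_le fun i hi => le_iSup₂_of_le i (fun h => ha (h ▸ hi : _)) le_rfl)
      rw [Finset.iSup_insert, Finset.card_insert_of_notMem ha]
      have e1 := Submodule.finrank_sup_add_finrank_inf_eq (wt f a) (⨆ χ ∈ t, wt f χ)
      rw [hd.eq_bot, finrank_bot, add_zero] at e1
      rw [e1, add_comm]
      exact add_le_add (Submodule.one_le_finrank_iff.2 (h a (hts (Finset.mem_insert_self _ _))))
        (ih fun x hx => hts (Finset.mem_insert_of_mem hx))
  exact (key s subset_rfl).trans (Submodule.finrank_le _)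

theorem finite_wt [FiniteDimensional k V] (hc : ∀ i j, f i * f j = f j * f i) :
    Finite {χ : ι → k // wt f χ ≠ ⊥} ∧ Nat.card {χ : ι → k // wt f χ ≠ ⊥} ≤ finrank k V := by
  classical
  have hb : ∀ t : Finset {χ : ι → k // wt f χ ≠ ⊥}, t.card ≤ finrank k V := fun t => by
    rw [← Finset.card_map (Function.Embedding.subtype _)]
    refine card_wt_le f hc _ fun χ hχ => ?_
    obtain ⟨a, -, rfl⟩ := Finset.mem_map.1 hχ
    exact a.2
  haveI hfin : Finite {χ : ι → k // wt f χ ≠ ⊥} := by
    by_contra h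
    haveI : Infinite {χ : ι → k // wt f χ ≠ ⊥} := not_finite_iff_infinite.1 h
    obtain ⟨t, ht⟩ := Infinite.exists_subset_card_eq {χ : ι → k // wt f χ ≠ ⊥} (finrank k V + 1)
    have := hb t
    omega
  refine ⟨hfin, ?_⟩
  haveI := Fintype.ofFinite {χ : ι → k // wt f χ ≠ ⊥}
  rw [Nat.card_eq_fintype_card]
  exact hb Finset.univ

end CfsgLib.AltGL
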