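/-
An irreducible group with alternating quotient and small degree has scalar kernel.
-/
import Mathlib
import Cfsg.Agent.Lib.Known.AltGL.Weights

set_option autoImplicit false
set_option linter.unusedSectionVars false

namespace CfsgLib.AltGL

open Equiv Module Subgroup

variable {k : Type} [Field k] [IsAlgClosed k] {V : Type} [AddCommGroup V] [Module k V]
  [FiniteDimensional k V] {Γ : Type} [Group Γ] [Finite Γ] (ρ : Representation k Γ V)

/-- The representation has no proper invariant subspace. -/
def Irr : Prop := ∀ W : Submodule k V, (∀ g, ∀ v ∈ W, ρ g v ∈ W) → W = ⊥ ∨ W = ⊤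

theorem scalar_of_comm [Nontrivial V] (hirr : Irr ρ) (A : Module.End k V)
    (h : ∀ g, A * ρ g = ρ g * A) : ∃ c : k, A = c • (1 : Module.End k V) := by
  obtain ⟨c, hc⟩ := Module.End.exists_eigenvalue A
  refine ⟨c, ?_⟩
  have htop : Module.End.eigenspace A c = ⊤ := by
    refine (hirr _ fun g v hv => ?_).resolve_left hc
    rw [Module.End.mem_eigenspace_iff] at hv ⊢
    have e : A (ρ g v) = ρ g (A v) := LinearMap.congr_fun (h g) v
    rw [e, hv, map_smul]
  ext v
  simpa using Module.End.mem_eigenspace_iff.1 (htop.ge (Submodule.mem_top : v ∈ ⊤))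

variable {X : Type} [Fintype X] [DecidableEq X] {π : Γ →* Perm X}

/-- A map killing only kernel elements has a large image. -/
theorem card_range_le {M : Type*} [Group M] [Finite M] (f : Γ →* M) (hf : f.ker ≤ π.ker) :
    Nat.card π.range ≤ Nat.card M := by
  refine le_trans ?_ (Subgroup.card_le_card_group f.range)
  rw [← Subgroup.index_ker, ← Subgroup.index_ker]
  exact Nat.le_of_dvd (Nat.pos_of_ne_zero Subgroup.index_ne_zero_of_finite)
    (Subgroup.index_dvd_of_le hf)

variable {n : ℕ} (hπ : π.range = alternatingGroup X) (h9 : 9 ≤ Fintype.card X)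
  (hsub : ∀ N : Subgroup Γ, N.Normal → N ≠ ⊤ → N ≤ π.ker) (hperf : commutator Γ = ⊤)
  (hirr : Irr ρ) (hinj : Function.Injective ρ) (hn : finrank k V = n) (hn0 : 0 < n)
  (hsmall : n + 2 ≤ Fintype.card X)

include hn0 hn hirr hinj in
theorem scalar_of_center {g : Γ} (hg : g ∈ center Γ) : ∃ c : k, ρ g = c • (1 : Module.End k V) := by
  haveI : Nontrivial V := Module.nontrivial_of_finrank_pos (R := k) (hn ▸ hn0)
  exact scalar_of_comm ρ hirr _ fun h => by rw [← map_mul, ← map_mul, mem_center_iff.1 hg h]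

include hinj in
theorem center_of_scalar {g : Γ} {c : k} (h : ∀ v, ρ g v = c • v) : g ∈ center Γ := by
  refine mem_center_iff.2 fun x => hinj (LinearMap.ext fun v => ?_)
  rw [rep_mul_apply, rep_mul_apply, h, h, map_smul]

include hπ h9 in
theorem card_range_eq : 2 * Nat.card π.range = (Fintype.card X).factorial := by
  haveI : Nontrivial X := Fintype.one_lt_card_iff_nontrivial.1 (by omega)
  rw [hπ, two_mul_nat_card_alternatingGroup, Nat.card_perm, Nat.card_eq_fintype_card]

theorem lt_factorial : ∀ r : ℕ, 9 ≤ r → ∀ m, m + 2 ≤ r → 2 * m.factorial < r.factorial := by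
  intro r hr m hm
  have h1 : m.factorial ≤ (r - 1).factorial := Nat.factorial_le (by omega)
  have h2 : r.factorial = r * (r - 1).factorial := (Nat.mul_factorial_pred (by omega)).symm
  have h3 := Nat.factorial_pos (r - 1)
  rw [h2]
  calc 2 * m.factorial ≤ 2 * (r - 1).factorial := Nat.mul_le_mul_left _ h1
    _ < r * (r - 1).factorial := Nat.mul_lt_mul_of_pos_right (by omega) h3

include hπ h9 hsub hirr hinj hn hn0 hsmall in
/-- Abelian normal subgroups of the kernel are central. -/
theorem abelian_central (M : Subgroup Γ) [M.Normal] (hab : ∀ x ∈ M, ∀ y ∈ M, x * y = y * x) :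
    M ≤ center Γ := by
  classical
  by_contra hM
  set f : M → Module.End k V := fun x => ρ x with hf
  have hc : ∀ i j, f i * f j = f j * f i := fun i j => by
    simp only [hf, ← map_mul, hab _ i.2 _ j.2]
  haveI : Nontrivial V := Module.nontrivial_of_finrank_pos (R := k) (hn ▸ hn0)
  -- the action on the characters
  have hconj : ∀ (g : Γ) (x : M), g⁻¹ * x * g ∈ M := fun g x => by
    simpa using Subgroup.Normal.conj_mem (inferInstance : M.Normal) _ x.2 g⁻¹
  let act : Γ → (M → k) → (M → k) := fun g χ x => χ ⟨g⁻¹ * x * g, hconj g x⟩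
  have hmap : ∀ g χ, ∀ v ∈ wt f χ, ρ g v ∈ wt f (act g χ) := by
    intro g χ v hv
    rw [mem_wt] at hv ⊢
    intro x
    have e : ρ (x : Γ) (ρ g v) = ρ g (ρ (g⁻¹ * x * g) v) := by
      rw [← rep_mul_apply, ← rep_mul_apply]; congr 2; group
    show ρ (x : Γ) (ρ g v) = _
    have h := hv ⟨g⁻¹ * x * g, hconj g x⟩
    simp only [hf] at h
    rw [e, h, map_smul]
  have hbot : ∀ g χ, wt f χ ≠ ⊥ → wt f (act g χ) ≠ ⊥ := by
    intro g χ h
    obtain ⟨v, hv, hv0⟩ := (Submodule.ne_bot_iff _).1 h
    exact (Submodule.ne_bot_iff _).2 ⟨_, hmap g χ v hv, fun e => hv0 (rep_inj ρ g (e.trans (map_zero _).symm))⟩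
  obtain ⟨hfin, hcard⟩ := finite_wt f hc
  let T := {χ : M → k // wt f χ ≠ ⊥}
  letI : MulAction Γ T :=
    { smul := fun g χ => ⟨act g χ.1, hbot g χ.1 χ.2⟩
      one_smul := fun χ => Subtype.ext (funext fun x => congrArg χ.1 (Subtype.ext (by simp)))
      mul_smul := fun g h χ => Subtype.ext (funext fun x => congrArg χ.1 (Subtype.ext (by
        show (g * h)⁻¹ * x * (g * h) = h⁻¹ * (g⁻¹ * x * g) * h
        group))) }
  set θ := MulAction.toPermHom Γ T
  have hker : θ.ker ≤ π.ker := by
    refine hsub _ inferInstance fun htop => hM ?_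
    have hfix : ∀ g (χ : T), act g χ.1 = χ.1 := fun g χ => by
      have : θ g = 1 := MonoidHom.mem_ker.1 (htop ▸ Subgroup.mem_top g)
      exact congrArg Subtype.val (Equiv.ext_iff.1 this χ)
    obtain ⟨χ, v, -, hv0, hv⟩ := exists_wt f hc _ (⊤ : Submodule k V) (by simp) le_rfl
      fun _ _ _ => Submodule.mem_top
    have hne : wt f χ ≠ ⊥ := (Submodule.ne_bot_iff _).2 ⟨v, hv, hv0⟩
    have hW : wt f χ = ⊤ := (hirr _ fun g w hw => by
      have := hmap g χ w hw
      rwa [hfix g ⟨χ, hne⟩] at this).resolve_left hne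
    intro x hx
    exact center_of_scalar ρ hinj fun w => (mem_wt f).1 (hW.ge Submodule.mem_top) ⟨x, hx⟩
  haveI : Finite T := hfin
  have h1 := card_range_le θ hker
  rw [Nat.card_perm] at h1
  have h2 := card_range_eq hπ h9
  have h3 : (Nat.card T).factorial ≤ n.factorial := Nat.factorial_le (hn ▸ hcard)
  have h4 := lt_factorial _ h9 n hsmall
  omega

include hπ h9 hsub hperf hirr hinj hn hn0 hsmall in
/-- Normal subgroups of the nilpotent kernel are central. -/
theorem kernel_central (hrec : BoundBelow n) (hnil : Group.IsNilpotent π.ker) :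
    π.ker ≤ center Γ := by
  classical
  by_contra hK
  have hex : ∃ d, ∃ M : Subgroup Γ, M.Normal ∧ M ≤ π.ker ∧ ¬ M ≤ center Γ ∧ Nat.card M = d :=
    ⟨_, π.ker, inferInstance, le_rfl, hK, rfl⟩
  obtain ⟨M, hMn, hMK, hMc, hMd⟩ := Nat.find_spec hex
  have hmin : ∀ N : Subgroup Γ, N.Normal → N ≤ M → N ≠ M → N ≤ center Γ := by
    intro N hN hle hne
    by_contra hNc
    refine Nat.find_min hex (m := Nat.card N) ?_ ⟨N, hN, hle.trans hMK, hNc, rfl⟩
    rw [← hMd]
    refine lt_of_le_of_ne (Subgroup.card_le_of_le hle) fun h => hne ?_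
    exact Subgroup.eq_of_le_of_card_ge hle h.ge
  haveI := hMn
  have hMne : M ≠ ⊥ := fun h => hMc (h ▸ bot_le)
  have hcomm : ⁅M, π.ker⁆ ≤ center Γ := by
    refine hmin _ inferInstance (Subgroup.commutator_le_left M _) fun h => hMne ?_
    obtain ⟨m, hm⟩ := (Subgroup.isNilpotent_iff_lowerCentralSeries _).1 hnil
    have hle : ∀ j, M ≤ (π.ker).lowerCentralSeries j := fun j => by
      induction j with
      | zero => exact hMK
      | succ j ih => rw [Subgroup.lowerCentralSeries_succ, ← h]; exact Subgroup.commutator_mono ih le_rfl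
    exact le_bot_iff.1 (hm ▸ hle m)
  set Zc := M ⊓ center Γ with hZc
  have hZnorm : Zc.Normal := inferInstance
  have hZne : Zc ≠ M := fun h => hMc (inf_eq_left.1 h)
  have hcm : ∀ x ∈ M, ∀ y ∈ M, x * y * x⁻¹ * y⁻¹ ∈ Zc := fun x hx y hy => by
    refine ⟨?_, hcomm (Subgroup.commutator_mem_commutator hx (hMK hy))⟩
    exact M.mul_mem (M.mul_mem (M.mul_mem hx hy) (M.inv_mem hx)) (M.inv_mem hy)
  -- elements commuting with `M` are central
  have hcent : ∀ x ∈ M, (∀ y ∈ M, x * y = y * x) → x ∈ center Γ := by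
    intro x hx h
    haveI : (M ⊓ centralizer (M : Set Γ)).Normal := inferInstance
    have hC := abelian_central ρ hπ h9 hsub hirr hinj hn hn0 hsmall (M ⊓ centralizer (M : Set Γ))
      (fun a ha b hb => (mem_centralizer_iff.1 hb.2 a ha.1))
    exact hC ⟨hx, mem_centralizer_iff.2 fun y hy => (h y hy).symm⟩
  -- the quotient has prime exponent
  let Zm := Zc.subgroupOf M
  let Q := M ⧸ Zm
  haveI : Nontrivial Q := by
    rw [QuotientGroup.nontrivial_iff]
    intro h
    exact hZne (le_antisymm inf_le_left (Subgroup.subgroupOf_eq_top.1 h))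
  letI : CommGroup Q :=
    { (inferInstance : Group Q) with
      mul_comm := fun a b => by
        induction a using QuotientGroup.induction_on with
        | H a => induction b using QuotientGroup.induction_on with
          | H b =>
            rw [← QuotientGroup.mk_mul, ← QuotientGroup.mk_mul, QuotientGroup.eq]
            show ((a * b)⁻¹ * (b * a) : M).1 ∈ Zc
            have := hcm _ (inv_mem b.2) _ (inv_mem a.2)
            simpa [mul_assoc] using this }
  obtain ⟨l, hl, hdvd⟩ := Nat.exists_prime_and_dvd (n := Nat.card Q) (Finite.one_lt_card).ne'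
  haveI : Fact l.Prime := ⟨hl⟩
  have hexp : ∀ q : Q, q ^ l = 1 := by
    let S : Subgroup Γ := Subgroup.closure ((fun x => x ^ l) '' (M : Set Γ) ∪ (Zc : Set Γ))
    have hSM : S ≤ M := (Subgroup.closure_le _).2 (by
      rintro y (⟨x, hx, rfl⟩ | hy)
      exacts [pow_mem hx l, hy.1])
    have hSn : S.Normal := ⟨fun y hy g => by
      have : S ≤ S.comap (MulAut.conj g).toMonoidHom := (Subgroup.closure_le _).2 (by
        rintro z (⟨x, hx, rfl⟩ | hz)
        · exact Subgroup.subset_closure (Or.inl ⟨g * x * g⁻¹, hMn.conj_mem x hx g, by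
            show (g * x * g⁻¹) ^ l = g * x ^ l * g⁻¹
            rw [conj_pow]⟩)
        · exact Subgroup.subset_closure (Or.inr (hZnorm.conj_mem z hz g)))
      exact this hy⟩
    have hSne : S ≠ M := by
      intro h
      obtain ⟨q, hq⟩ := exists_prime_orderOf_dvd_card' l hdvd
      have hsurj : Function.Surjective (powMonoidHom l : Q →* Q) := by
        intro a
        induction a using QuotientGroup.induction_on with
        | H a =>
          have : ∀ y ∈ S, ∀ hy : y ∈ M, (QuotientGroup.mk (⟨y, hy⟩ : M) : Q) ∈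
              (powMonoidHom l : Q →* Q).range := by
            intro y hy
            induction hy using Subgroup.closure_induction with
            | mem y hy =>
              intro hyM
              rcases hy with ⟨x, hx, rfl⟩ | hy
              · exact ⟨QuotientGroup.mk (⟨x, hx⟩ : M), rfl⟩
              · refine ⟨1, ?_⟩
                rw [map_one, eq_comm, QuotientGroup.eq_one_iff]
                exact hy
            | one => exact fun _ => ⟨1, map_one _⟩
            | mul a b ha hb iha ihb =>
              exact fun _ => mul_mem (iha (hSM ha)) (ihb (hSM hb))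
            | inv a ha iha => exact fun _ => inv_mem (iha (hSM ha))
          exact this a (h.symm ▸ a.2) a.2
      have hinjp := Finite.injective_iff_surjective.2 hsurj
      have h1 : q ^ l = 1 := hq ▸ pow_orderOf_eq_one q
      have := hinjp (a₁ := q) (a₂ := 1) (by simp [h1])
      rw [this, orderOf_one] at hq
      exact hl.one_lt.ne hq
    intro q
    induction q using QuotientGroup.induction_on with
    | H x =>
      rw [← QuotientGroup.mk_pow, QuotientGroup.eq_one_iff]
      show (x : Γ) ^ l ∈ Zc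
      exact ⟨pow_mem x.2 l, hmin S hSn hSM hSne (Subgroup.subset_closure (Or.inl ⟨x, x.2, rfl⟩))⟩
  -- the quotient is small
  have hcardQ : Nat.card Q ≤ n * n := by
    haveI : Nontrivial V := Module.nontrivial_of_finrank_pos (R := k) (hn ▸ hn0)
    let f : M → Module.End k (Module.End k V) := fun y =>
      LinearMap.mulLeft k (ρ (y : Γ)) * LinearMap.mulRight k (ρ (y : Γ)⁻¹)
    have hfa : ∀ (y : M) (A : Module.End k V), f y A = ρ (y : Γ) * (A * ρ (y : Γ)⁻¹) :=
      fun y A => rfl
    have hsc : ∀ y x : M, ∃ c : k, ρ ((y : Γ) * x * (y : Γ)⁻¹ * (x : Γ)⁻¹) =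
        c • (1 : Module.End k V) :=
      fun y x => scalar_of_center ρ hirr hinj hn hn0 (hcm _ y.2 _ x.2).2
    choose c hc using hsc
    have hfc : ∀ i j, f i * f j = f j * f i := by
      intro i j
      obtain ⟨d, hd⟩ := scalar_of_center ρ hirr hinj hn hn0 (hcm _ i.2 _ j.2).2
      obtain ⟨d', hd'⟩ := scalar_of_center ρ hirr hinj hn hn0 ((center Γ).inv_mem (hcm _ i.2 _ j.2).2)
      have hdd : d * d' = 1 := by
        have := congrArg (fun A : Module.End k V => A) (hd ▸ hd' ▸ (map_mul ρ
          ((i : Γ) * j * (i : Γ)⁻¹ * (j : Γ)⁻¹) ((i : Γ) * j * (i : Γ)⁻¹ * (j : Γ)⁻¹)⁻¹))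
        simp only [mul_inv_cancel, map_one, smul_mul_assoc, one_mul, smul_smul] at this
        obtain ⟨v, hv⟩ := exists_ne (0 : V)
        have h2 := LinearMap.congr_fun this v
        simp only [Module.End.one_apply, LinearMap.smul_apply] at h2
        exact (smul_left_injective k hv (by simpa using h2)).symm
      refine LinearMap.ext fun A => ?_
      show f i (f j A) = f j (f i A)
      rw [hfa, hfa, hfa, hfa]
      have e1 : ρ (i : Γ) * ρ (j : Γ) = d • (ρ (j : Γ) * ρ (i : Γ)) := by
        rw [← map_mul, ← map_mul, show (i : Γ) * j = (i * j * (i : Γ)⁻¹ * (j : Γ)⁻¹) * (j * i) by group,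
          map_mul, hd, smul_mul_assoc, one_mul]
      have e2 : ρ (j : Γ)⁻¹ * ρ (i : Γ)⁻¹ = d' • (ρ (i : Γ)⁻¹ * ρ (j : Γ)⁻¹) := by
        rw [← map_mul, ← map_mul, show (j : Γ)⁻¹ * (i : Γ)⁻¹ =
          ((i : Γ)⁻¹ * (j : Γ)⁻¹) * (i * j * (i : Γ)⁻¹ * (j : Γ)⁻¹)⁻¹ by group,
          map_mul, hd', mul_smul_comm, mul_one]
      calc ρ (i : Γ) * (ρ (j : Γ) * (A * ρ (j : Γ)⁻¹) * ρ (i : Γ)⁻¹)
          = (ρ (i : Γ) * ρ (j : Γ)) * A * (ρ (j : Γ)⁻¹ * ρ (i : Γ)⁻¹) := by simp only [mul_assoc]
        _ = (d * d') • ((ρ (j : Γ) * ρ (i : Γ)) * A * (ρ (i : Γ)⁻¹ * ρ (j : Γ)⁻¹)) := by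
          rw [e1, e2, smul_mul_assoc, smul_mul_assoc, mul_smul_comm, smul_smul]
        _ = _ := by rw [hdd, one_smul]; simp only [mul_assoc]
    have hwt : ∀ x : M, ρ (x : Γ) ∈ wt f (fun y => c y x) := fun x => (mem_wt f).2 fun y => by
      have h := hc y x
      rw [hfa, ← map_mul, ← map_mul,
        show (y : Γ) * ((x : Γ) * (y : Γ)⁻¹) = (y * x * (y : Γ)⁻¹ * (x : Γ)⁻¹) * x by group,
        map_mul, h, smul_mul_assoc, one_mul]
    let T := {χ : M → k // wt f χ ≠ ⊥}
    let g : Q → T := fun q => ⟨fun y => c y q.out, (Submodule.ne_bot_iff _).2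
      ⟨_, hwt q.out, fun h => by
        obtain ⟨v, hv⟩ := exists_ne (0 : V)
        exact hv (rep_inj ρ (q.out : Γ) (by rw [h]; simp))⟩⟩
    have hg : Function.Injective g := by
      intro q q' e
      have e' : ∀ y, c y q.out = c y q'.out := fun y => congrFun (congrArg Subtype.val e) y
      suffices ((q.out : Γ)⁻¹ * q'.out) ∈ center Γ by
        rw [← q.out_eq', ← q'.out_eq', QuotientGroup.eq]
        exact ⟨M.mul_mem (M.inv_mem q.out.2) q'.out.2, this⟩
      refine hcent _ (mul_mem (inv_mem q.out.2) q'.out.2) fun y hy => ?_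
      have h1 : (y * q.out * y⁻¹ * (q.out : Γ)⁻¹) = y * q'.out * y⁻¹ * (q'.out : Γ)⁻¹ :=
        hinj (by rw [hc ⟨y, hy⟩, hc ⟨y, hy⟩, e'])
      obtain ⟨a, ha⟩ : ∃ a, a = y * q.out * y⁻¹ * (q.out : Γ)⁻¹ := ⟨_, rfl⟩
      have hac : a ∈ center Γ := ha ▸ (hcm _ hy _ q.out.2).2
      have p1 : y * (q.out : Γ) * y⁻¹ = a * q.out := by rw [ha]; group
      have p2 : y * (q'.out : Γ) * y⁻¹ = a * q'.out := by rw [ha, h1]; group
      have p3 : y * ((q.out : Γ)⁻¹ * q'.out) * y⁻¹ = (q.out : Γ)⁻¹ * q'.out := by
        calc y * ((q.out : Γ)⁻¹ * q'.out) * y⁻¹ = (y * q.out * y⁻¹)⁻¹ * (y * q'.out * y⁻¹) := by group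
          _ = _ := by rw [p1, p2]; group
      exact (mul_inv_eq_iff_eq_mul.1 p3).symm
    obtain ⟨hfinT, hcardT⟩ := finite_wt f hfc
    haveI : Finite T := hfinT
    refine (Nat.card_le_card_of_injective g hg).trans (hcardT.trans (le_of_eq ?_))
    rw [Module.finrank_linearMap, hn]
  -- the action on the quotient
  let A := Additive Q
  letI : Module (ZMod l) A := AddCommGroup.zmodModule (n := l) fun a => hexp a
  let e := Module.finrank (ZMod l) A
  have hcardA : Nat.card Q = l ^ e := by
    rw [show Nat.card Q = Nat.card A from Nat.card_congr (Additive.ofMul : Q ≃ A),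
      Module.natCard_eq_pow_finrank (K := ZMod l) (V := A), Nat.card_zmod]
  let cj : Γ → Q →* Q := fun g => QuotientGroup.map Zm Zm
    (((MulAut.conj g).toMonoidHom.comp M.subtype).codRestrict M fun x => hMn.conj_mem x x.2 g)
    (fun x hx => hZnorm.conj_mem (x : Γ) hx g)
  have hcj : ∀ g (x : M), cj g (QuotientGroup.mk x) =
      QuotientGroup.mk (⟨g * x * g⁻¹, hMn.conj_mem x x.2 g⟩ : M) := fun g x => rfl
  let α : Γ →* Module.End (ZMod l) A :=
    { toFun := fun g => (MonoidHom.toAdditive (cj g)).toZModLinearMap l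
      map_one' := by
        refine LinearMap.ext fun a => ?_
        show Additive.ofMul (cj 1 (Additive.toMul a)) = Additive.ofMul (Additive.toMul a)
        generalize Additive.toMul a = q
        induction q using QuotientGroup.induction_on with
        | H x => simp [hcj]
      map_mul' := fun g h => by
        refine LinearMap.ext fun a => ?_
        show Additive.ofMul (cj (g * h) (Additive.toMul a)) =
          Additive.ofMul (cj g (cj h (Additive.toMul a)))
        generalize Additive.toMul a = q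
        induction q using QuotientGroup.induction_on with
        | H x => rw [hcj, hcj, hcj]; congr 3; group }
  let αu : Γ →* (Module.End (ZMod l) A)ˣ := α.toHomUnits
  have hker : αu.ker ≤ π.ker := by
    refine hsub _ inferInstance fun htop => hMc fun x hx => ?_
    have hZ : ∀ g : Γ, g * x * g⁻¹ * x⁻¹ ∈ center Γ := fun g => by
      have h0 : αu g = 1 := MonoidHom.mem_ker.1 (htop ▸ Subgroup.mem_top g)
      have h1 := LinearMap.congr_fun (congrArg Units.val h0)
        (Additive.ofMul (QuotientGroup.mk (⟨x, hx⟩ : M) : Q))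
      have h2 : cj g (QuotientGroup.mk (⟨x, hx⟩ : M)) = QuotientGroup.mk (⟨x, hx⟩ : M) :=
        congrArg Additive.toMul h1
      rw [hcj, eq_comm, QuotientGroup.eq] at h2
      have h3 : x⁻¹ * (g * x * g⁻¹) ∈ center Γ := h2.2
      have h4 := Subgroup.Normal.conj_mem (inferInstance : (center Γ).Normal) _ h3 x
      simpa [mul_assoc] using h4
    let ψ : Γ →* center Γ := MonoidHom.mk' (fun g => ⟨_, hZ g⟩) fun g h => Subtype.ext (by
      show g * h * x * (g * h)⁻¹ * x⁻¹ = g * x * g⁻¹ * x⁻¹ * (h * x * h⁻¹ * x⁻¹)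
      calc g * h * x * (g * h)⁻¹ * x⁻¹ = g * (h * x * h⁻¹ * x⁻¹) * x * g⁻¹ * x⁻¹ := by group
        _ = (h * x * h⁻¹ * x⁻¹) * g * x * g⁻¹ * x⁻¹ := by rw [mem_center_iff.1 (hZ h) g]
        _ = (h * x * h⁻¹ * x⁻¹) * (g * x * g⁻¹ * x⁻¹) := by group
        _ = _ := (mem_center_iff.1 (hZ h) _).symm)
    refine mem_center_iff.2 fun g => ?_
    have hψ : ψ g = 1 := by
      letI : CommGroup (center Γ) := { (inferInstance : Group (center Γ)) with
        mul_comm := fun a b => Subtype.ext (mem_center_iff.1 b.2 a) }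
      have h : commutator Γ ≤ ψ.ker := Abelianization.commutator_subset_ker ψ
      exact MonoidHom.mem_ker.1 (h (hperf ▸ Subgroup.mem_top g))
    have := congrArg Subtype.val hψ
    simp only [ψ, MonoidHom.mk'_apply, OneMemClass.coe_one, mul_inv_eq_one] at this
    exact mul_inv_eq_iff_eq_mul.1 this
  haveI : Finite A := inferInstanceAs (Finite (Additive Q))
  let b := Module.finBasis (ZMod l) A
  let toM : Module.End (ZMod l) A ≃ₐ[ZMod l] Matrix (Fin e) (Fin e) (ZMod l) :=
    LinearMap.toMatrixAlgEquiv b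
  have hrange : 2 * Nat.card π.range = (Fintype.card X).factorial := card_range_eq hπ h9
  rcases Nat.lt_or_ge e n with he | he
  · -- induction
    let k' := AlgebraicClosure (ZMod l)
    let φ : Module.End (ZMod l) A →* Module.End k' (Fin e → k') :=
      ((Matrix.toLinAlgEquiv' : Matrix (Fin e) (Fin e) k' ≃ₐ[k'] _).toMonoidHom.comp
        ((algebraMap (ZMod l) k').mapMatrix.toMonoidHom.comp toM.toMonoidHom))
    have hφ : Function.Injective φ := fun a a' h => toM.injective (by
      have := Matrix.toLinAlgEquiv'.injective h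
      exact Matrix.map_injective (algebraMap (ZMod l) k').injective this)
    haveI : CharP k' l := charP_of_injective_algebraMap (algebraMap (ZMod l) k').injective l
    have hb := hrec l hl e he k' (Fin e → k') Γ (φ.comp α) X π hπ h9 (fun g hg => by
      refine hker ?_
      refine MonoidHom.mem_ker.2 (Units.ext (hφ ?_))
      exact hg.trans (map_one φ).symm) (Module.finrank_fin_fun k')
    have h1 := (bnd_bounds l (Fintype.card X)).1
    have h2 : 2 ^ e ≤ n * n := (Nat.pow_le_pow_left hl.two_le e).trans (hcardA ▸ hcardQ)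
    have h3 : n * n < 2 ^ n := by
      have : ∀ m, 5 ≤ m → m * m < 2 ^ m := fun m hm => by
        induction m, hm using Nat.le_induction with
        | base => norm_num
        | succ m hm ih => rw [pow_succ]; nlinarith
      exact this n (by omega)
    have h4 : 2 ^ n ≤ 2 ^ e := Nat.pow_le_pow_right (by norm_num) (by omega)
    omega
  · -- small degree
    have h2 : l ^ e ≤ n * n := hcardA ▸ hcardQ
    have hn4 : n ≤ 4 := by
      by_contra hn4
      have : ∀ m, 5 ≤ m → m * m < 2 ^ m := fun m hm => by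
        induction m, hm using Nat.le_induction with
        | base => norm_num
        | succ m hm ih => rw [pow_succ]; nlinarith
      have := this n (by omega)
      have h5 : 2 ^ n ≤ l ^ e :=
        (Nat.pow_le_pow_left hl.two_le n).trans (Nat.pow_le_pow_right hl.pos he)
      omega
    have he4 : e ≤ 4 := by
      by_contra he4
      have h5 : 2 ^ 5 ≤ l ^ e :=
        (Nat.pow_le_pow_left hl.two_le 5).trans (Nat.pow_le_pow_right hl.pos (by omega))
      nlinarith
    have hM : Nat.card (Matrix (Fin e) (Fin e) (ZMod l)) ≤ 65536 := by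
      rw [Nat.card_eq_fintype_card, show Fintype.card (Matrix (Fin e) (Fin e) (ZMod l)) = (l ^ e) ^ e by
        show Fintype.card (Fin e → Fin e → ZMod l) = _; simp [Fintype.card_fun]]
      exact (Nat.pow_le_pow_left (h2.trans (by nlinarith : n * n ≤ 16)) e).trans
        ((Nat.pow_le_pow_right (by norm_num) he4).trans (by norm_num))
    haveI : Finite (Module.End (ZMod l) A) := Finite.of_equiv _ toM.toEquiv.symm
    have h6 := card_range_le αu hker
    have h7 : Nat.card (Module.End (ZMod l) A)ˣ ≤ 65536 := by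
      refine (Nat.card_le_card_of_injective
        (fun u : (Module.End (ZMod l) A)ˣ => toM (u : Module.End (ZMod l) A)) ?_).trans hM
      exact fun a a' h => Units.ext (toM.injective h)
    have h8 : (9 : ℕ).factorial ≤ (Fintype.card X).factorial := Nat.factorial_le h9
    norm_num [Nat.factorial] at h8
    omega

end CfsgLib.AltGL
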