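/-
Reduction to irreducible groups whose kernel is a group of signs.
-/
import Mathlib
import Cfsg.Agent.Lib.Known.AltGL.Nilpotent
import Cfsg.Agent.Lib.Schur.AlternatingBound
import Cfsg.Agent.Lib.Presentations.AltCarmichael

set_option autoImplicit false
set_option linter.unusedSectionVars false

namespace CfsgLib.AltGL

open Equiv Module

/-- An irreducible representation of small degree of a cover of an alternating group. -/
structure Data (p n : ℕ) (k V Γ X : Type) [Field k] [IsAlgClosed k] [CharP k p] [AddCommGroup V]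
    [Module k V] [FiniteDimensional k V] [Group Γ] [Finite Γ] [Fintype X] [DecidableEq X] where
  ρ : Representation k Γ V
  π : Γ →* Perm X
  hp : p.Prime
  hrec : BoundBelow n
  hπ : π.range = alternatingGroup X
  h9 : 9 ≤ Fintype.card X
  hker : ∀ g, ρ g = 1 → π g = 1
  hn : finrank k V = n
  hn0 : 0 < n
  hirr : Irr ρ
  hsmall : n < bnd p (Fintype.card X)

/-- The case of a trivial kernel is impossible. -/
def PlainOK : Prop := ∀ (p n : ℕ) (k V Γ X : Type) [Field k] [IsAlgClosed k] [CharP k p]
  [AddCommGroup V] [Module k V] [FiniteDimensional k V] [Group Γ] [Finite Γ] [Fintype X]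
  [DecidableEq X] (D : Data p n k V Γ X), (∀ g, D.π g = 1 → D.ρ g = 1) → False

/-- The case of a sign kernel is impossible. -/
def DoubleOK : Prop := ∀ (p n : ℕ) (k V Γ X : Type) [Field k] [IsAlgClosed k] [CharP k p]
  [AddCommGroup V] [Module k V] [FiniteDimensional k V] [Group Γ] [Finite Γ] [Fintype X]
  [DecidableEq X] (D : Data p n k V Γ X), p ≠ 2 → (∀ g, D.π g = 1 → D.ρ g = 1 ∨ D.ρ g = -1) →
  (∀ (ι : Fin 4 ↪ X) (g : Γ), D.π g = emb ι (swap 0 1 * swap 2 3) → D.ρ (g * g) = -1) → False

theorem perm_cube : ∀ q : Perm (Fin 3), Perm.sign q = 1 → q ^ 3 = 1 := by decide +kernel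

/-- Double transpositions lift to elements of order four in a proper cover. -/
theorem dt_sq {Γ : Type} [Group Γ] [Finite Γ] {X : Type} [Fintype X] [DecidableEq X]
    (π : Γ →* Perm X) (hπ : π.range = alternatingGroup X) (h9 : 9 ≤ Fintype.card X)
    (hmin : ∀ H : Subgroup Γ, H.map π = alternatingGroup X → H = ⊤) {z : Γ} (hz1 : z ≠ 1)
    (hzk : ∀ g, π g = 1 → g = 1 ∨ g = z) (hz : π z = 1) (hzc : ∀ g, g * z = z * g)
    (hz2 : z * z = 1) (ι : Fin 4 ↪ X) (g : Γ) (hg : π g = emb ι (swap 0 1 * swap 2 3)) :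
    g * g = z := by
  classical
  have hgg : π (g * g) = 1 := by
    rw [map_mul, hg, ← map_mul, show (swap 0 1 * swap 2 3 : Perm (Fin 4)) * (swap 0 1 * swap 2 3) = 1
      by decide, map_one]
  rcases hzk _ hgg with h | h
  swap
  · exact h
  exfalso
  -- all lifts of double transpositions are involutions
  have hall : ∀ (ι' : Fin 4 ↪ X) (x : Γ), π x = emb ι' (swap 0 1 * swap 2 3) → x * x = 1 := by
    intro ι' x hx
    obtain ⟨σ, hσ, hσι⟩ := exists_even_map ι ι' (by omega)
    obtain ⟨s, hs⟩ := exists_preimage hπ hσ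
    have e : π (s * g * s⁻¹) = π x := by
      rw [map_mul, map_mul, map_inv, hs, hg, hx]; exact emb_conj hσι _
    have hsq : s * g * s⁻¹ * (s * g * s⁻¹) = 1 := by
      rw [show s * g * s⁻¹ * (s * g * s⁻¹) = s * (g * g) * s⁻¹ by group, h]; group
    have hk : π ((s * g * s⁻¹)⁻¹ * x) = 1 := by rw [map_mul, map_inv, e, inv_mul_cancel]
    rcases hzk _ hk with hu | hu
    · rw [← inv_mul_eq_one.1 hu]; exact hsq
    · rw [inv_mul_eq_iff_eq_mul] at hu
      rw [hu]
      calc s * g * s⁻¹ * z * (s * g * s⁻¹ * z) = s * g * s⁻¹ * (z * (s * g * s⁻¹)) * z := by group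
        _ = s * g * s⁻¹ * ((s * g * s⁻¹) * z) * z := by rw [← hzc (s * g * s⁻¹)]
        _ = (s * g * s⁻¹ * (s * g * s⁻¹)) * (z * z) := by group
        _ = 1 := by rw [hsq, hz2, one_mul]
  -- lifts of three-cycles satisfy Carmichael's relations
  obtain ⟨c₁, c₂, hc⟩ : ∃ c₁ c₂ : X, c₁ ≠ c₂ := Fintype.exists_pair_of_one_lt_card (by omega)
  have hgen : ∀ i : Presentations.Carmichael.Idx c₁ c₂,
      ∃ y, π y = Presentations.Carmichael.cyc c₁ c₂ i.1 ∧ y ^ 3 = 1 := by
    intro i
    obtain ⟨y, hy⟩ := exists_preimage hπ (σ := Presentations.Carmichael.cyc c₁ c₂ i.1) (by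
      have := (Presentations.Carmichael.gen hc i).2
      rwa [Perm.mem_alternatingGroup] at this)
    have hy3 : π (y ^ 3) = 1 := by
      rw [map_pow, hy]
      exact congrArg Subtype.val ((Presentations.Carmichael.gen_rels hc).cube i)
    rcases hzk _ hy3 with h3 | h3
    · exact ⟨y, hy, h3⟩
    · refine ⟨y * z, by rw [map_mul, hy, hz, mul_one], ?_⟩
      rw [(show Commute y z from hzc y).mul_pow, h3, show z ^ 3 = z * z * z by rw [pow_three'],
        hz2, one_mul, hz2]
  choose y hy hy3 using hgen
  have hrels : Presentations.Carmichael.CRels y := by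
    refine ⟨hy3, fun i j hij => ?_⟩
    have hne : i.1 ≠ j.1 := fun e => hij (Subtype.ext e)
    let ι' : Fin 4 ↪ X := ⟨![c₂, j.1, c₁, i.1], by
      intro a b e
      fin_cases a <;> fin_cases b <;>
        simp_all [hc, hc.symm, i.2.1, i.2.2, i.2.1.symm, i.2.2.symm, j.2.1, j.2.2, j.2.1.symm,
          j.2.2.symm, hne.symm]⟩
    rw [sq]
    refine hall ι' _ ?_
    rw [map_mul, hy, hy]
    refine emb_ext ι' _ (fun a => ?_) fun x hx => ?_
    · obtain ⟨i1, i2, i3, i4⟩ := Presentations.Carmichael.cyc_apply hc i.2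
      obtain ⟨j1, j2, j3, j4⟩ := Presentations.Carmichael.cyc_apply hc j.2
      fin_cases a
      · show Presentations.Carmichael.cyc c₁ c₂ i.1 (Presentations.Carmichael.cyc c₁ c₂ j.1 c₂) = _
        rw [j2, i4 _ j.2.1 j.2.2 hne.symm]; rfl
      · show Presentations.Carmichael.cyc c₁ c₂ i.1 (Presentations.Carmichael.cyc c₁ c₂ j.1 j.1) = _
        rw [j3, i1]; rfl
      · show Presentations.Carmichael.cyc c₁ c₂ i.1 (Presentations.Carmichael.cyc c₁ c₂ j.1 c₁) = _
        rw [j1, i2]; rfl
      · show Presentations.Carmichael.cyc c₁ c₂ i.1 (Presentations.Carmichael.cyc c₁ c₂ j.1 i.1) = _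
        rw [j4 _ i.2.1 i.2.2 hne, i3]; rfl
    · have h0 : x ≠ c₂ := fun e => hx ⟨0, e.symm⟩
      have h1 : x ≠ j.1 := fun e => hx ⟨1, e.symm⟩
      have h2 : x ≠ c₁ := fun e => hx ⟨2, e.symm⟩
      have h3 : x ≠ i.1 := fun e => hx ⟨3, e.symm⟩
      simp [Presentations.Carmichael.cyc, swap_apply_of_ne_of_ne, h0, h1, h2, h3]
  obtain ⟨Ψ, hΨ⟩ := Presentations.Carmichael.exists_hom hc y hrels
  have hcomp : π.comp Ψ = (alternatingGroup X).subtype := by
    refine MonoidHom.eq_of_eqOn_dense (Presentations.Carmichael.gen_closure hc) ?_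
    rintro _ ⟨i, rfl⟩
    show π (Ψ _) = _
    rw [hΨ, hy]; rfl
  have htop : Ψ.range = ⊤ := hmin _ (by
    rw [← MonoidHom.range_comp, hcomp, Subgroup.range_subtype])
  obtain ⟨a, ha⟩ : z ∈ Ψ.range := htop ▸ Subgroup.mem_top z
  have : (a : Perm X) = 1 := by
    have := DFunLike.congr_fun hcomp a
    rw [MonoidHom.comp_apply, ha, hz] at this
    exact this.symm
  rw [show a = 1 from Subtype.ext this, map_one] at ha
  exact hz1 ha.symm

theorem reduce (hplain : PlainOK) (hdouble : DoubleOK) :
    ∀ n p, p.Prime → BoundAt p n := by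
  intro n
  induction n using Nat.strong_induction_on with
  | _ n ihn =>
  intro p hp k _ _ _ V _ _ _ Γ _ _ ρ X _ _ π hπ h9 hker hn
  have hrec : BoundBelow n := fun p' hp' m hm => ihn m hm p' hp'
  suffices ∀ (d : ℕ) (Γ : Type) [Group Γ] [Finite Γ] (ρ : Representation k Γ V) (π : Γ →* Perm X),
      Nat.card Γ = d → π.range = alternatingGroup X → (∀ g, ρ g = 1 → π g = 1) →
      bnd p (Fintype.card X) ≤ n from this _ Γ ρ π rfl hπ hker
  clear hker hπ
  intro d
  induction d using Nat.strong_induction_on with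
  | _ d ihd =>
  intro Γ _ _ ρ π hd hπ hker
  classical
  by_contra hlt
  rw [not_le] at hlt
  have hsmall2 : n + 2 ≤ Fintype.card X := by
    have := (bnd_bounds p (Fintype.card X)).2
    omega
  -- no proper subgroup maps onto the alternating group
  have hmin : ∀ H : Subgroup Γ, H.map π = alternatingGroup X → H = ⊤ := by
    intro H hH
    by_contra hne
    have hcard : Nat.card H < d := hd ▸ lt_of_le_of_ne (Subgroup.card_le_card_group H)
      fun e => hne (Subgroup.eq_top_of_card_eq H e)
    have := ihd _ hcard H (ρ.comp H.subtype) (π.comp H.subtype) rfl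
      (by rw [MonoidHom.range_comp, Subgroup.range_subtype, hH]) fun g hg => hker g hg
    omega
  have hinj : Function.Injective ρ := by
    by_contra hni
    let K := MonoidHom.ker (ρ : Γ →* Module.End k V)
    have hK : K ≠ ⊥ := fun h => hni (by
      intro a b e
      have : a⁻¹ * b ∈ K := by
        rw [MonoidHom.mem_ker, map_mul, ← e, ← map_mul, inv_mul_cancel, map_one]
      rw [h, Subgroup.mem_bot, inv_mul_eq_one] at this
      exact this)
    have hKπ : K ≤ π.ker := fun g hg => hker g hg
    have hcard : Nat.card (Γ ⧸ K) < d := by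
      rw [← hd, Subgroup.card_eq_card_quotient_mul_card_subgroup K]
      exact lt_mul_of_one_lt_right Nat.card_pos
        (by
          haveI : Nontrivial K := (Subgroup.nontrivial_iff_ne_bot K).2 hK
          exact Finite.one_lt_card)
    have := ihd _ hcard (Γ ⧸ K) (QuotientGroup.lift K ρ le_rfl) (QuotientGroup.lift K π hKπ) rfl
      (by
        rw [← hπ]
        ext σ
        constructor
        · rintro ⟨q, rfl⟩
          induction q using QuotientGroup.induction_on with
          | H g => exact ⟨g, rfl⟩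
        · rintro ⟨g, rfl⟩
          exact ⟨g, rfl⟩)
      (fun q hq => by
        induction q using QuotientGroup.induction_on with
        | H g => exact hker g hq)
    omega
  haveI : IsSimpleGroup (alternatingGroup X) :=
    alternatingGroup.isSimpleGroup (by rw [Nat.card_eq_fintype_card]; omega)
  have h5 : 5 ≤ Nat.card X := by rw [Nat.card_eq_fintype_card]; omega
  have hperf : commutator Γ = ⊤ := hmin _ (by
    rw [commutator_def, Subgroup.map_commutator, ← MonoidHom.range_eq_map, hπ,
      commutator_alternatingGroup_eq_self h5])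
  let π' : Γ →* alternatingGroup X := π.codRestrict _ fun g => hπ ▸ ⟨g, rfl⟩
  have hπ's : Function.Surjective π' := fun τ => by
    obtain ⟨g, hg⟩ : (τ : Perm X) ∈ π.range := hπ.symm ▸ τ.2
    exact ⟨g, Subtype.ext hg⟩
  have hsub : ∀ N : Subgroup Γ, N.Normal → N ≠ ⊤ → N ≤ π.ker := by
    intro N hN hne g hg
    haveI : (N.map π').Normal := Subgroup.Normal.map hN _ hπ's
    rcases (inferInstance : (N.map π').Normal).eq_bot_or_eq_top with h | h
    · have : π' g ∈ (⊥ : Subgroup (alternatingGroup X)) := h ▸ ⟨g, hg, rfl⟩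
      exact congrArg Subtype.val (Subgroup.mem_bot.1 this)
    · refine absurd (hmin N ?_) hne
      rw [show N.map π = (N.map π').map (alternatingGroup X).subtype from
        by rw [Subgroup.map_map]; rfl, h, ← MonoidHom.range_eq_map, Subgroup.range_subtype]
  have hnil : Group.IsNilpotent π.ker := by
    have hle : π.ker ≤ frattini Γ := by
      refine le_iInf₂ fun M hM => ?_
      by_contra hnle
      have hsup : M ⊔ π.ker = ⊤ := hM.2 _ (lt_of_le_of_ne le_sup_left fun e =>
        hnle (le_sup_right.trans_eq e.symm))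
      refine hM.1 (hmin M ?_)
      rw [← hπ, MonoidHom.range_eq_map, ← hsup, Subgroup.map_sup,
        (Subgroup.map_eq_bot_iff (f := π) π.ker).2 le_rfl, sup_bot_eq]
    haveI := frattini_nilpotent (G := Γ)
    exact nilpotent_of_mulEquiv (Subgroup.subgroupOfEquivOfLe hle)
  -- the degree is positive
  have hn0 : 0 < n := by
    by_contra h0
    haveI : Subsingleton V := Module.finrank_zero_iff.1 (hn.trans (by omega) : finrank k V = 0)
    have h1 : ∀ g, π g = 1 := fun g => hker g (Subsingleton.elim _ _)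
    have h2 := card_range_eq hπ h9
    rw [show π.range = ⊥ from MonoidHom.range_eq_bot_iff.2 (MonoidHom.ext h1), Subgroup.card_bot] at h2
    have h8 : (9 : ℕ).factorial ≤ (Fintype.card X).factorial := Nat.factorial_le h9
    norm_num [Nat.factorial] at h8
    omega
  -- irreducibility
  have hirr : Irr ρ := by
    intro W hW
    by_contra hcon
    rw [not_or] at hcon
    obtain ⟨hW0, hW1⟩ := hcon
    let ρ₁ : Representation k Γ W :=
      (subRep ρ ⊤ W fun g _ => hW g).comp Subgroup.topEquiv.symm.toMonoidHom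
    let ρ₂ : Representation k Γ (V ⧸ W) :=
      { toFun := fun g => W.mapQ W (ρ g) (fun v hv => hW g v hv)
        map_one' := by ext v; simp
        map_mul' := fun a b => by ext v; simp }
    have hd1 : finrank k W < n := hn ▸ Submodule.finrank_lt hW1
    have hd2 : finrank k (V ⧸ W) < n := by
      have := W.finrank_quotient_add_finrank
      have : 0 < finrank k W := Submodule.one_le_finrank_iff.2 hW0
      omega
    by_cases h1 : ∀ g, ρ₁ g = 1 → π g = 1
    · have := hrec p hp _ hd1 k W Γ ρ₁ X π hπ h9 h1 rfl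
      omega
    by_cases h2 : ∀ g, ρ₂ g = 1 → π g = 1
    · have := hrec p hp _ hd2 k (V ⧸ W) Γ ρ₂ X π hπ h9 h2 rfl
      omega
    push Not at h1 h2
    have k1 : ∀ g, ∀ v ∈ W, ρ g v = v := by
      have : (MonoidHom.ker (ρ₁ : Γ →* Module.End k W)) = ⊤ := by
        by_contra hne
        obtain ⟨g, hg, hg'⟩ := h1
        exact hg' (hsub _ inferInstance hne hg)
      intro g v hv
      have hg : ρ₁ g = 1 := MonoidHom.mem_ker.1 (this ▸ Subgroup.mem_top g)
      exact congrArg Subtype.val (LinearMap.congr_fun hg ⟨v, hv⟩)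
    have k2 : ∀ g v, ρ g v - v ∈ W := by
      have : (MonoidHom.ker (ρ₂ : Γ →* Module.End k (V ⧸ W))) = ⊤ := by
        by_contra hne
        obtain ⟨g, hg, hg'⟩ := h2
        exact hg' (hsub _ inferInstance hne hg)
      intro g v
      have hg : ρ₂ g = 1 := MonoidHom.mem_ker.1 (this ▸ Subgroup.mem_top g)
      exact (Submodule.Quotient.eq W).1 (LinearMap.congr_fun hg (Submodule.Quotient.mk v))
    have hab : ∀ g h : Γ, g * h = h * g := fun g h => hinj (LinearMap.ext fun v => by
      rw [rep_mul_apply, rep_mul_apply]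
      obtain ⟨w, hw, ew⟩ : ∃ w ∈ W, ρ h v = v + w := ⟨_, k2 h v, by abel⟩
      obtain ⟨u, hu, eu⟩ : ∃ u ∈ W, ρ g v = v + u := ⟨_, k2 g v, by abel⟩
      rw [ew, eu, map_add, map_add, k1 g w hw, k1 h u hu, ew, eu]
      abel)
    have hc : commutator Γ = ⊥ := by
      rw [commutator_def, Subgroup.commutator_eq_bot_iff_le_centralizer]
      exact fun a _ => Subgroup.mem_centralizer_iff.2 fun b _ => hab b a
    have h2' := card_range_eq hπ h9
    have htriv : π.range = ⊥ := MonoidHom.range_eq_bot_iff.2 (MonoidHom.ext fun g => by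
      have : g ∈ commutator Γ := hperf ▸ Subgroup.mem_top g
      rw [hc, Subgroup.mem_bot] at this
      rw [this, map_one, MonoidHom.one_apply])
    rw [htriv, Subgroup.card_bot] at h2'
    have h8 : (9 : ℕ).factorial ≤ (Fintype.card X).factorial := Nat.factorial_le h9
    norm_num [Nat.factorial] at h8
    omega
  have hcent := kernel_central ρ hπ h9 hsub hperf hirr hinj hn hn0 hsmall2 hrec hnil
  have hsc : ∀ g, π g = 1 → ∃ c : k, ρ g = c • (1 : Module.End k V) := fun g hg =>
    scalar_of_center ρ hirr hinj hn hn0 (hcent hg)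
  let e := Fintype.equivFin X
  have hcard2 : Nat.card π.ker ≤ 2 := by
    let f : Γ →* Perm (Fin (Fintype.card X)) := e.permCongrHom.toMonoidHom.comp π
    have hf : f.ker = π.ker := by
      ext g
      rw [MonoidHom.mem_ker, MonoidHom.mem_ker]
      exact ⟨fun h => e.permCongrHom.injective (h.trans (map_one _).symm),
        fun h => by rw [MonoidHom.comp_apply, h, map_one]⟩
    rw [← hf]
    refine CfsgLib.Schur.AltBound.card_ker_le_two (by omega) (by omega) (by omega) f (hf ▸ hcent)
      ?_ (by rw [hperf]; exact le_top)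
    ext σ
    rw [MonoidHom.range_comp, hπ, Perm.mem_alternatingGroup]
    constructor
    · rintro ⟨τ, hτ, rfl⟩
      rw [← Perm.mem_alternatingGroup.1 hτ]
      exact Perm.sign_permCongr e τ
    · intro hσ
      refine ⟨e.symm.permCongr σ, ?_, ?_⟩
      · show _ ∈ alternatingGroup X
        rw [Perm.mem_alternatingGroup, Perm.sign_permCongr, hσ]
      · exact Equiv.ext fun x => by simp [Equiv.permCongrHom]
  let D : Data p n k V Γ X := ⟨ρ, π, hp, hrec, hπ, h9, hker, hn, hn0, hirr, hlt⟩
  rcases Nat.lt_or_ge (Nat.card π.ker) 2 with h1 | h2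
  · refine hplain p n k V Γ X D fun g hg => ?_
    have hb : π.ker = ⊥ := (Subgroup.card_le_one_iff_eq_bot _).1 (by omega)
    have : g = 1 := Subgroup.mem_bot.1 (hb ▸ hg)
    show ρ g = 1
    rw [this, map_one]
  · have hc2 : Nat.card π.ker = 2 := le_antisymm hcard2 h2
    obtain ⟨z, hz, hz1⟩ : ∃ z, π z = 1 ∧ z ≠ 1 := by
      by_contra hcon
      push Not at hcon
      have : π.ker = ⊥ := (Subgroup.eq_bot_iff_forall _).2 hcon
      rw [this, Subgroup.card_bot] at hc2
      omega
    have hzk : ∀ g, π g = 1 → g = 1 ∨ g = z := by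
      intro g hg
      by_contra hcon
      rw [not_or] at hcon
      haveI := Fintype.ofFinite π.ker
      have h3 : ({1, ⟨g, hg⟩, ⟨z, hz⟩} : Finset π.ker).card ≤ 2 := by
        rw [← hc2, Nat.card_eq_fintype_card]; exact Finset.card_le_univ _
      rw [Finset.card_insert_of_notMem (by simp [Subtype.ext_iff, Ne.symm hcon.1, hz1.symm]),
        Finset.card_pair (by simp [Subtype.ext_iff, hcon.2])] at h3
      omega
    have hz2 : z * z = 1 := by
      rcases hzk (z * z) (by rw [map_mul, hz, mul_one]) with h | h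
      · exact h
      · exact absurd (mul_eq_left.1 h) hz1
    have hzc : ∀ g, g * z = z * g := fun g => Subgroup.mem_center_iff.1 (hcent hz) g
    obtain ⟨c, hc⟩ := hsc z hz
    haveI : Nontrivial V := Module.nontrivial_of_finrank_pos (R := k) (hn ▸ hn0)
    obtain ⟨v, hv⟩ := exists_ne (0 : V)
    have hcc : c * c = 1 := by
      have := LinearMap.congr_fun (congrArg ρ hz2) v
      rw [map_mul, hc, map_one] at this
      simp only [Module.End.mul_apply, LinearMap.smul_apply, Module.End.one_apply, smul_smul] at this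
      exact smul_left_injective k hv (this.trans (one_smul k v).symm)
    have hc1 : c ≠ 1 := fun h => hz1 (hinj (by rw [hc, h, one_smul, map_one]))
    have hcm : c = -1 := by
      have : (c - 1) * (c + 1) = 0 := by linear_combination hcc
      exact eq_neg_of_add_eq_zero_left ((mul_eq_zero.1 this).resolve_left (sub_ne_zero.2 hc1))
    refine hdouble p n k V Γ X D ?_ ?_ ?_
    · rintro rfl
      exact hc1 (by rw [hcm, CharTwo.neg_eq])
    · intro g hg
      rcases hzk g hg with rfl | rfl
      · exact Or.inl (map_one _)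
      · exact Or.inr (by show ρ g = -1; rw [hc, hcm, neg_smul, one_smul])
    · intro ι g hg
      show ρ (g * g) = -1
      rw [dt_sq π hπ h9 hmin hz1 hzk hz hzc hz2 ι g hg, hc, hcm, neg_smul, one_smul]

end CfsgLib.AltGL
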