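/-
Lifts of elements of odd prime order and their eigenspaces.
-/
import Mathlib
import Cfsg.Agent.Lib.Known.AltGL.Reduce

set_option autoImplicit false
set_option linter.unusedSectionVars false

namespace CfsgLib.AltGL

open Equiv Module

variable {k : Type} [Field k] [IsAlgClosed k] {V : Type} [AddCommGroup V] [Module k V]
  [FiniteDimensional k V] {Γ : Type} [Group Γ] [Finite Γ] (ρ : Representation k Γ V)
  {X : Type} [Fintype X] [DecidableEq X] {π : Γ →* Perm X}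

/-- The kernel of the action on the points acts by signs. -/
def Sgn (π : Γ →* Perm X) : Prop := ∀ g, π g = 1 → ρ g = 1 ∨ ρ g = -1

theorem sgn_eq (hs : Sgn ρ π) {l : ℕ} (hl : Odd l) {g g' : Γ} (e : π g = π g')
    (hg : ρ (g ^ l) = 1) (hg' : ρ (g' ^ l) = 1) : ρ g = ρ g' := by
  have hu : π (g⁻¹ * g') = 1 := by rw [map_mul, map_inv, e, inv_mul_cancel]
  have hg'' : ρ g' = ρ g * ρ (g⁻¹ * g') := by rw [← map_mul]; congr 1; group
  rcases hs _ hu with h | h
  · rw [hg'', h, mul_one]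
  · rw [h, mul_neg_one] at hg''
    have : (1 : Module.End k V) = -1 := by
      calc (1 : Module.End k V) = ρ g' ^ l := by rw [← map_pow, hg']
        _ = -1 := by rw [hg'', hl.neg_pow, ← map_pow, hg]
    rw [hg'']
    calc ρ g = ρ g * 1 := (mul_one _).symm
      _ = ρ g * -1 := by rw [← this]
      _ = -ρ g := mul_neg_one _

/-- A lift of an element of odd order, of the same order up to the action. -/
structure IsLift (π : Γ →* Perm X) (l : ℕ) (σ : Perm X) (g : Γ) : Prop where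
  map : π g = σ
  pow : ρ (g ^ l) = 1

theorem exists_lift (hπ : π.range = alternatingGroup X) (hs : Sgn ρ π) {l : ℕ} (hl : Odd l)
    {σ : Perm X} (hσ : Perm.sign σ = 1) (hσl : σ ^ l = 1) : ∃ g, IsLift ρ π l σ g := by
  obtain ⟨g, hg⟩ := exists_preimage hπ hσ
  have h1 : π (g ^ l) = 1 := by rw [map_pow, hg, hσl]
  rcases hs _ h1 with h | h
  · exact ⟨g, hg, h⟩
  · refine ⟨g * g ^ l, by rw [map_mul, h1, hg, mul_one], ?_⟩
    rw [map_pow, map_mul, h, mul_neg_one, hl.neg_pow, ← map_pow, h, neg_neg]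

theorem lift_conj (hs : Sgn ρ π) {l : ℕ} (hl : Odd l) {σ σ' : Perm X} {g g' h : Γ}
    (hg : IsLift ρ π l σ g) (hg' : IsLift ρ π l σ' g') (e : π h * σ * (π h)⁻¹ = σ') :
    ρ (h * g * h⁻¹) = ρ g' :=
  sgn_eq ρ hs hl (by rw [map_mul, map_mul, map_inv, hg.map, hg'.map, e])
    (by rw [conj_pow, map_mul, map_mul, hg.pow, mul_one, ← map_mul, mul_inv_cancel, map_one])
    hg'.pow

theorem eig_map {g g' h : Γ} (e : ρ (h * g * h⁻¹) = ρ g') {lam : k} {v : V}
    (hv : v ∈ eig ρ g lam) : ρ h v ∈ eig ρ g' lam := by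
  have := eig_conj_mem ρ (g' := h * g * h⁻¹) rfl hv
  rwa [mem_eig, e, ← mem_eig] at this

theorem eig_le {g g' h : Γ} (e : ρ (h * g * h⁻¹) = ρ g') (lam : k) :
    finrank k (eig ρ g lam) ≤ finrank k (eig ρ g' lam) :=
  LinearMap.finrank_le_finrank_of_injective
    (f := (ρ h).restrict fun _ hv => eig_map ρ e hv)
    (fun v w hvw => Subtype.ext (rep_inj ρ h (congrArg Subtype.val hvw)))

theorem lift_pow {l : ℕ} {σ : Perm X} {g : Γ} (hg : IsLift ρ π l σ g) (a : ℕ) :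
    IsLift ρ π l (σ ^ a) (g ^ a) :=
  ⟨by rw [map_pow, hg.map], by rw [← pow_mul, mul_comm, pow_mul, map_pow, hg.pow, one_pow]⟩

theorem eig_root' {g : Γ} {l : ℕ} (hg : ρ (g ^ l) = 1) {lam : k} (h : eig ρ g lam ≠ ⊥) :
    lam ^ l = 1 := by
  obtain ⟨v, hv, hv0⟩ := (Submodule.ne_bot_iff _).1 h
  have := (mem_eig ρ).1 (eig_pow ρ hv l)
  rw [hg] at this
  have h2 : (lam ^ l - 1) • v = 0 := by rw [sub_smul, one_smul, ← this]; simp
  exact sub_eq_zero.1 ((smul_eq_zero.1 h2).resolve_right hv0)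

/-- A nontrivially acting element has a nontrivial eigenvalue on an invariant subspace. -/
theorem exists_eig {g : Γ} {l : ℕ} (hl : (l : k) ≠ 0) (hg : ρ (g ^ l) = 1) (U : Submodule k V)
    (hU : ∀ v ∈ U, ρ g v ∈ U) (hne : ∃ v ∈ U, ρ g v ≠ v) :
    ∃ lam : k, lam ^ l = 1 ∧ lam ≠ 1 ∧ U ⊓ eig ρ g lam ≠ ⊥ := by
  by_contra hcon
  push Not at hcon
  set f : Module.End k U := (ρ g).restrict hU
  have hfp : f ^ l = 1 := by
    ext v
    rw [Module.End.pow_restrict, LinearMap.restrict_apply]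
    show (ρ g ^ l) (v : V) = _
    rw [← map_pow, hg]; rfl
  have hs : Module.End.IsSemisimple f := by
    refine Module.End.isSemisimple_of_squarefree_aeval_eq_zero
      (Polynomial.separable_X_pow_sub_C (1 : k) hl one_ne_zero).squarefree ?_
    rw [map_sub, map_pow, Polynomial.aeval_X, Polynomial.aeval_C, map_one, hfp, sub_self]
  have htop : Module.End.eigenspace f 1 = ⊤ := by
    rw [← top_le_iff, ← Module.End.iSup_maxGenEigenspace_eq_top f]
    refine iSup_le fun lam => ?_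
    rw [hs.isFinitelySemisimple.maxGenEigenspace_eq_eigenspace lam]
    rcases eq_or_ne lam 1 with rfl | h1
    · exact le_rfl
    intro v hv
    rw [Module.End.mem_eigenspace_iff] at hv
    have hv' : (v : V) ∈ U ⊓ eig ρ g lam := ⟨v.2, (mem_eig ρ).2 (congrArg Subtype.val hv)⟩
    have hv0 : v = 0 := by
      by_contra hv0
      have hne' : eig ρ g lam ≠ ⊥ := (Submodule.ne_bot_iff _).2
        ⟨v, hv'.2, fun h => hv0 (Subtype.ext h)⟩
      have := hcon lam (eig_root' ρ hg hne') h1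
      exact hv0 (Subtype.ext ((Submodule.mem_bot k).1 (this ▸ hv')))
    rw [hv0]; exact Submodule.zero_mem _
  obtain ⟨v, hv, hne⟩ := hne
  refine hne ?_
  have := Module.End.mem_eigenspace_iff.1 (htop.ge (Submodule.mem_top : (⟨v, hv⟩ : U) ∈ ⊤))
  simpa [f] using congrArg Subtype.val this

/-- A nontrivially acting element has a nontrivial eigenvalue. -/
theorem exists_eig_top {g : Γ} {l : ℕ} (hl : (l : k) ≠ 0) (hg : ρ (g ^ l) = 1) (hne : ρ g ≠ 1) :
    ∃ lam : k, lam ^ l = 1 ∧ lam ≠ 1 ∧ eig ρ g lam ≠ ⊥ := by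
  obtain ⟨lam, h1, h2, h3⟩ := exists_eig ρ hl hg ⊤ (fun _ _ => Submodule.mem_top) (by
    by_contra h
    push Not at h
    exact hne (LinearMap.ext fun v => h v Submodule.mem_top))
  rw [top_inf_eq] at h3
  exact ⟨lam, h1, h2, h3⟩

theorem orderOf_root {l : ℕ} [Fact l.Prime] {lam : k} (h : lam ^ l = 1) (h1 : lam ≠ 1) :
    orderOf lam = l :=
  orderOf_eq_prime h h1

theorem pow_eq_iff {l : ℕ} [Fact l.Prime] {lam : k} (h : lam ^ l = 1) (h1 : lam ≠ 1) {a b : ℕ} :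
    lam ^ a = lam ^ b ↔ a % l = b % l := by
  have hfin : IsOfFinOrder lam := isOfFinOrder_iff_pow_eq_one.2 ⟨l, (Fact.out : l.Prime).pos, h⟩
  rw [hfin.pow_eq_pow_iff_modEq, orderOf_root h h1]
  rfl

/-- The eigenspaces for conjugate nontrivial eigenvalues fill at least `(l-1)` times their size. -/
theorem count_eig (hs : Sgn ρ π) {l : ℕ} [Fact l.Prime] (hlo : Odd l) {σ : Perm X} {g h : Γ}
    (hg : IsLift ρ π l σ g) {a : ℕ} (hconj : π h * σ * (π h)⁻¹ = σ ^ a)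
    (hgen : ∀ i < l - 1, ∀ j < l - 1, a ^ i % l = a ^ j % l → i = j)
    (ha : ∃ b, a * b % l = 1) {lam : k} (hlam : lam ^ l = 1) (h1 : lam ≠ 1) :
    (l - 1) * finrank k (eig ρ g lam) + finrank k (eig ρ g 1) ≤ finrank k V := by
  classical
  obtain ⟨b, hb⟩ := ha
  have hsq : ρ ((g ^ a) ^ b) = ρ g := by
    rw [← pow_mul, ← Nat.div_add_mod (a * b) l, hb, pow_add, pow_one, pow_mul, map_mul, map_pow,
      hg.pow, one_pow, one_mul]
  have hstep : ∀ μ : k, μ ^ l = 1 → finrank k (eig ρ g μ) ≤ finrank k (eig ρ g (μ ^ b)) := by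
    intro μ hμ
    have e := lift_conj ρ hs hlo hg (lift_pow ρ hg a) hconj
    refine (eig_le ρ e μ).trans ?_
    refine Submodule.finrank_mono fun v hv => ?_
    have := eig_pow ρ hv b
    rwa [mem_eig, hsq, ← mem_eig] at this
  have hall : ∀ i, finrank k (eig ρ g lam) ≤ finrank k (eig ρ g (lam ^ (b ^ i))) := by
    intro i
    induction i with
    | zero => rw [pow_zero, pow_one]
    | succ i ih =>
      rw [pow_succ, pow_mul]
      exact ih.trans (hstep _ (by rw [← pow_mul, mul_comm, pow_mul, hlam, one_pow]))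
  have hbgen : ∀ i < l - 1, ∀ j < l - 1, b ^ i % l = b ^ j % l → i = j := by
    intro i hi j hj e
    have e1 : ∀ i, (a ^ i * b ^ i) % l = 1 := fun i => by
      rw [← mul_pow, Nat.pow_mod, hb, one_pow, Nat.mod_eq_of_lt (Fact.out : l.Prime).one_lt]
    refine hgen i hi j hj ?_
    calc a ^ i % l = a ^ i * (a ^ j * b ^ j) % l := by rw [Nat.mul_mod, e1, mul_one, Nat.mod_mod]
      _ = a ^ j * (a ^ i * b ^ j) % l := by rw [mul_left_comm]
      _ = a ^ j * (a ^ i * b ^ i) % l := Nat.ModEq.mul_left _ (Nat.ModEq.mul_left _ e.symm)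
      _ = a ^ j % l := by rw [Nat.mul_mod, e1, mul_one, Nat.mod_mod]
  let s : Finset k := (Finset.range (l - 1)).image fun i => lam ^ (b ^ i)
  have hcard : s.card = l - 1 := by
    rw [Finset.card_image_of_injOn, Finset.card_range]
    intro i hi j hj e
    exact hbgen i (Finset.mem_range.1 hi) j (Finset.mem_range.1 hj) ((pow_eq_iff hlam h1).1 e)
  have hs1 : (1 : k) ∉ s := by
    intro h
    obtain ⟨i, -, hi⟩ := Finset.mem_image.1 h
    have h0 := (pow_eq_iff hlam h1 (b := 0)).1 (hi.trans (pow_zero lam).symm)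
    rw [Nat.zero_mod] at h0
    have e1 : (a ^ i * b ^ i) % l = 1 := by
      rw [← mul_pow, Nat.pow_mod, hb, one_pow, Nat.mod_eq_of_lt (Fact.out : l.Prime).one_lt]
    rw [Nat.mul_mod, h0] at e1
    simp at e1
  have h2 := card_mul_le (fun μ : k => eig ρ g μ) (eig_indep ρ g) (finrank k (eig ρ g lam)) s
    fun μ hμ => by
      obtain ⟨i, -, rfl⟩ := Finset.mem_image.1 hμ
      exact hall i
  rw [hcard] at h2
  have hd : Disjoint (eig ρ g 1) (⨆ μ ∈ s, eig ρ g μ) := (eig_indep ρ g 1).mono_right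
    (iSup₂_le fun μ hμ => le_iSup₂_of_le μ (fun h => hs1 (h ▸ hμ : _)) le_rfl)
  have h3 := Submodule.finrank_sup_add_finrank_inf_eq (eig ρ g 1) (⨆ μ ∈ s, eig ρ g μ)
  rw [hd.eq_bot, finrank_bot, add_zero] at h3
  have h4 := Submodule.finrank_le (eig ρ g 1 ⊔ ⨆ μ ∈ s, eig ρ g μ)
  omega

/-- The fixer of the support of an element preserves the eigenspaces of its lift. -/
theorem fix_invariant (hs : Sgn ρ π) {l : ℕ} (hlo : Odd l) {σ : Perm X} {g : Γ}
    (hg : IsLift ρ π l σ g) {S : Finset X} (hS : ∀ x ∉ S, σ x = x) (lam : k) :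
    ∀ h ∈ fixPre π S, ∀ v ∈ eig ρ g lam, ρ h v ∈ eig ρ g lam := by
  intro h hh v hv
  refine eig_map ρ (lift_conj ρ hs hlo hg hg ?_) hv
  rw [mul_inv_eq_iff_eq_mul]
  refine Perm.ext fun x => ?_
  by_cases hx : x ∈ S
  · by_cases hσ : σ x ∈ S
    · rw [Perm.mul_apply, Perm.mul_apply, hh.2 x hx, hh.2 _ hσ]
    · have : σ x = x := σ.injective (hS _ hσ)
      exact absurd (this.symm ▸ hx) hσ
  · rw [Perm.mul_apply, Perm.mul_apply, hS x hx, hS]
    intro hy
    have := hh.2 _ hy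
    exact hx ((π h).injective this ▸ hy)

/-- Points avoiding a given set. -/
theorem exists_pts (S : Finset X) (m : ℕ) (h : S.card + m ≤ Fintype.card X) :
    ∃ ι : Fin m ↪ X, ∀ i, ι i ∉ S := by
  have hm : Fintype.card (Fin m) ≤ Fintype.card {x // x ∉ S} := by
    rw [Fintype.card_fin, card_compl]; omega
  obtain ⟨e⟩ := Function.Embedding.nonempty_of_card_le hm
  exact ⟨e.trans (Function.Embedding.subtype _), fun i => (e i).2⟩

theorem six_tables :
    let d1 : Perm (Fin 6) := swap 0 1 * swap 1 2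
    let d2 : Perm (Fin 6) := swap 3 4 * swap 4 5
    let p : Perm (Fin 6) := swap 0 3 * swap 1 2 * (swap 1 4 * swap 2 5)
    (Perm.sign d1 = 1 ∧ Perm.sign d2 = 1 ∧ Perm.sign p = 1) ∧
      d1 ^ 3 = 1 ∧ d2 ^ 3 = 1 ∧ d1 * d2 = d2 * d1 ∧ p * d1 * p⁻¹ = d2 ∧
      p * d2 * p⁻¹ = d1 ^ 2 := by
  decide +kernel

/-- On a subspace invariant under the even permutations of six points, where a three-cycle of them
acts nontrivially, there are at least four dimensions. -/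
theorem six_bound (hπ : π.range = alternatingGroup X) (hs : Sgn ρ π) (h3 : ((3 : ℕ) : k) ≠ 0)
    (ι : Fin 6 ↪ X) {S : Finset X} (hS : ∀ i, ι i ∉ S) (U : Submodule k V)
    (hU : ∀ g ∈ fixPre π S, ∀ v ∈ U, ρ g v ∈ U) {g₁ : Γ}
    (hg₁ : IsLift ρ π 3 (emb ι (swap 0 1 * swap 1 2)) g₁) (hne : ∃ v ∈ U, ρ g₁ v ≠ v) :
    4 ≤ finrank k U := by
  classical
  obtain ⟨⟨s1, s2, sp⟩, c1, c2, hc, hp1, hp2⟩ := six_tables
  set d1 : Perm (Fin 6) := swap 0 1 * swap 1 2
  set d2 : Perm (Fin 6) := swap 3 4 * swap 4 5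
  set p : Perm (Fin 6) := swap 0 3 * swap 1 2 * (swap 1 4 * swap 2 5)
  have hodd : Odd 3 := ⟨1, rfl⟩
  have hmem : ∀ {q : Perm (Fin 6)} {g : Γ}, Perm.sign q = 1 → π g = emb ι q → g ∈ fixPre π S :=
    fun hq hg => by show π _ ∈ fixGrp S; rw [hg]; exact emb_mem_fixGrp hq hS
  obtain ⟨g₂, hg₂⟩ := exists_lift ρ hπ hs hodd (σ := emb ι d2) ((sign_emb ι _).trans s2)
    (by rw [← map_pow, c2, map_one])
  obtain ⟨h, hh⟩ := exists_preimage hπ (σ := emb ι p) ((sign_emb ι _).trans sp)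
  have hm1 := hmem s1 hg₁.map
  have hm2 := hmem s2 hg₂.map
  have hmh := hmem sp hh
  obtain ⟨α, hα, hα1, hαU⟩ := exists_eig ρ h3 hg₁.pow U (hU _ hm1) hne
  have hcomm : ρ (g₂ * g₁ * g₂⁻¹) = ρ g₁ := lift_conj ρ hs hodd hg₁ hg₁ (by
    rw [hg₂.map, ← map_inv, ← map_mul, ← map_mul, ← hc, mul_inv_cancel_right])
  -- a common eigenvector
  let W := U ⊓ eig ρ g₁ α
  have hW : ∀ v ∈ W, ρ g₂ v ∈ W := fun v hv => ⟨hU _ hm2 v hv.1, eig_map ρ hcomm hv.2⟩
  haveI : Nontrivial W := Submodule.nontrivial_iff_ne_bot.2 hαU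
  obtain ⟨β, hβ'⟩ := Module.End.exists_eigenvalue ((ρ g₂).restrict hW)
  obtain ⟨v, hv⟩ := hβ'.exists_hasEigenvector
  have hvβ : (v : V) ∈ eig ρ g₂ β := (mem_eig ρ).2 (congrArg Subtype.val hv.apply_eq_smul)
  have hv0 : (v : V) ≠ 0 := fun e => hv.2 (Subtype.ext e)
  have hβ : β ^ 3 = 1 := eig_root' ρ hg₂.pow ((Submodule.ne_bot_iff _).2 ⟨v, hvβ, hv0⟩)
  -- the joint eigenspaces
  let f : Fin 2 → Module.End k V := fun i => ρ (![g₁, g₂] i)
  have hfc : ∀ i j, f i * f j = f j * f i := by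
    have hc12 : ρ g₂ * ρ g₁ = ρ g₁ * ρ g₂ := by
      rw [← map_mul, show g₂ * g₁ = g₂ * g₁ * g₂⁻¹ * g₂ by group, map_mul, hcomm]
    intro i j
    fin_cases i <;> fin_cases j <;> simp [f, hc12]
  let Wt : k × k → Submodule k V := fun x => U ⊓ wt f ![x.1, x.2]
  have hind : iSupIndep Wt := by
    refine ((wt_indep f hfc).comp ?_).mono fun x => inf_le_right
    intro x y e
    exact Prod.ext (congrFun e 0) (congrFun e 1)
  have hmemW : ∀ {x : k × k} {w : V}, w ∈ Wt x ↔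
      w ∈ U ∧ w ∈ eig ρ g₁ x.1 ∧ w ∈ eig ρ g₂ x.2 := by
    intro x w
    simp [Wt, mem_wt, f]
  have e1 : ρ (h * g₁ * h⁻¹) = ρ g₂ := lift_conj ρ hs hodd hg₁ hg₂ (by
    rw [hh, ← map_inv, ← map_mul, ← map_mul, hp1])
  have e2 : ρ (h * g₂ * h⁻¹) = ρ (g₁ ^ 2) := lift_conj ρ hs hodd hg₂ (lift_pow ρ hg₁ 2) (by
    rw [hh, ← map_inv, ← map_mul, ← map_mul, hp2, map_pow])
  have hstep : ∀ x, Wt x ≠ ⊥ → Wt (x.2 ^ 2, x.1) ≠ ⊥ := by
    intro x hx
    obtain ⟨w, hw, hw0⟩ := (Submodule.ne_bot_iff _).1 hx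
    rw [hmemW] at hw
    refine (Submodule.ne_bot_iff _).2 ⟨ρ h w, hmemW.2 ⟨hU _ hmh _ hw.1, ?_, eig_map ρ e1 hw.2.1⟩,
      fun e => hw0 (rep_inj ρ h (e.trans (map_zero _).symm))⟩
    have h4 := eig_pow ρ (eig_map ρ e2 hw.2.2) 2
    have : ρ ((g₁ ^ 2) ^ 2) = ρ g₁ := by
      rw [← pow_mul, show 2 * 2 = 3 + 1 from rfl, pow_succ, map_mul, hg₁.pow, one_mul]
    rwa [mem_eig, this, ← mem_eig] at h4
  have h0 : Wt (α, β) ≠ ⊥ := (Submodule.ne_bot_iff _).2 ⟨v, hmemW.2 ⟨v.2.1, v.2.2, hvβ⟩, hv0⟩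
  have h4 : ∀ a : k, a ^ 3 = 1 → (a ^ 2) ^ 2 = a := fun a ha => by
    rw [← pow_mul, show 2 * 2 = 3 + 1 from rfl, pow_succ, ha, one_mul]
  have h1 := hstep _ h0
  have h2 := hstep _ h1
  have h3' := hstep _ h2
  simp only [h4 β hβ] at h3'
  let s : Finset (k × k) := {(α, β), (β ^ 2, α), (α ^ 2, β ^ 2), (β, α ^ 2)}
  have hne2 : α ^ 2 ≠ α := fun e => hα1 (by
    have hα0 : α ≠ 0 := fun h => by simp [h] at hα
    exact mul_left_cancel₀ hα0 (by rw [mul_one, ← sq]; exact e))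
  have hcard : s.card = 4 := by
    have d12 : ((α, β) : k × k) ≠ (β ^ 2, α) := fun e => by
      obtain ⟨a, b⟩ := Prod.mk.inj e; rw [b] at a; exact hne2 a.symm
    have d13 : ((α, β) : k × k) ≠ (α ^ 2, β ^ 2) := fun e => hne2 (Prod.mk.inj e).1.symm
    have d14 : ((α, β) : k × k) ≠ (β, α ^ 2) := fun e => by
      obtain ⟨a, b⟩ := Prod.mk.inj e; exact hne2 (b.symm.trans a.symm)
    have d23 : ((β ^ 2, α) : k × k) ≠ (α ^ 2, β ^ 2) := fun e => by
      obtain ⟨a, b⟩ := Prod.mk.inj e; exact hne2 (a.symm.trans b.symm)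
    have d24 : ((β ^ 2, α) : k × k) ≠ (β, α ^ 2) := fun e => hne2 (Prod.mk.inj e).2.symm
    have d34 : ((α ^ 2, β ^ 2) : k × k) ≠ (β, α ^ 2) := fun e => by
      obtain ⟨a, b⟩ := Prod.mk.inj e
      rw [← a, h4 α hα] at b
      exact hne2 b.symm
    simp [s, d12, d13, d14, d23, d24, d34]
  have hle := card_mul_le Wt hind 1 s fun x hx => by
    refine Submodule.one_le_finrank_iff.2 ?_
    simp only [s, Finset.mem_insert, Finset.mem_singleton] at hx
    rcases hx with rfl | rfl | rfl | rfl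
    exacts [h0, h1, h2, h3']
  have hU' : (⨆ x ∈ s, Wt x) ≤ U := iSup₂_le fun x _ => inf_le_left
  have := Submodule.finrank_mono hU'
  omega

end CfsgLib.AltGL
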