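/-
Proper covers of alternating groups have no representation of small degree.
-/
import Mathlib
import Cfsg.Agent.Lib.Known.AltGL.Common

set_option autoImplicit false
set_option linter.unusedSectionVars false

namespace CfsgLib.AltGL

open Equiv Module

/-- A cycle on the first `l` of `m` points and a permutation conjugating it to its `a`-th power. -/
structure CycData (l m a : ℕ) (s q : Perm (Fin m)) : Prop where
  sgn : Perm.sign s = 1
  sgnq : Perm.sign q = 1
  pow : s ^ l = 1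
  conj : q * s * q⁻¹ = s ^ a
  fix : ∀ i : Fin m, l ≤ i.val → s i = i
  ne : s ≠ 1
  gen : ∀ i < l - 1, ∀ j < l - 1, a ^ i % l = a ^ j % l → i = j
  inv : ∃ b < l, a * b % l = 1
  le : l ≤ m

/-- A three-cycle. -/
abbrev s3 : Perm (Fin 5) := swap 0 1 * swap 1 2

/-- A five-cycle. -/
abbrev s5 : Perm (Fin 7) := swap 0 1 * swap 1 2 * swap 2 3 * swap 3 4

/-- A seven-cycle. -/
abbrev s7 : Perm (Fin 9) :=
  swap 0 1 * swap 1 2 * swap 2 3 * swap 3 4 * swap 4 5 * swap 5 6

theorem cyc3 : CycData 3 5 2 s3 (swap 1 2 * swap 3 4) := by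
  constructor <;> decide +kernel

theorem cyc5 : CycData 5 7 2 s5 (swap 1 2 * swap 2 4 * swap 4 3 * swap 5 6) := by
  constructor <;> decide +kernel

theorem cyc7 : CycData 7 9 3 s7
    (swap 1 3 * swap 3 2 * swap 2 6 * swap 6 4 * swap 4 5 * swap 7 8) := by
  constructor <;> decide +kernel

variable {k : Type} [Field k] [IsAlgClosed k] {V : Type} [AddCommGroup V] [Module k V]
  [FiniteDimensional k V] {Γ : Type} [Group Γ] [Finite Γ] (ρ : Representation k Γ V)
  {X : Type} [Fintype X] [DecidableEq X] {π : Γ →* Perm X}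

/-- An eigenspace of a cycle, with the counting bound and the invariance under the fixer. -/
theorem cycle_eig (hπ : π.range = alternatingGroup X) (hs : Sgn ρ π)
    (hker : ∀ g, ρ g = 1 → π g = 1) {l m a : ℕ} [Fact l.Prime] (hlo : Odd l) (hl : (l : k) ≠ 0)
    {s q : Perm (Fin m)} (hc : CycData l m a s q) (hm : m ≤ Fintype.card X) :
    ∃ (S : Finset X) (U : Submodule k V), S.card = l ∧ U ≠ ⊥ ∧
      (∀ g ∈ fixPre π S, ∀ v ∈ U, ρ g v ∈ U) ∧ (l - 1) * finrank k U ≤ finrank k V := by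
  classical
  obtain ⟨ι, -⟩ := exists_pts (∅ : Finset X) m (by simpa using hm)
  obtain ⟨g, hg⟩ := exists_lift ρ hπ hs hlo (σ := emb ι s) ((sign_emb ι _).trans hc.sgn)
    (by rw [← map_pow, hc.pow, map_one])
  obtain ⟨h, hh⟩ := exists_preimage hπ (σ := emb ι q) ((sign_emb ι _).trans hc.sgnq)
  have hne : ρ g ≠ 1 := fun e => hc.ne (emb_injective ι (by rw [← hg.map, hker g e, map_one]))
  obtain ⟨lam, hlam, h1, hU⟩ := exists_eig_top ρ hl hg.pow hne
  refine ⟨(Finset.univ.image fun i : Fin l => ι (Fin.castLE hc.le i)), eig ρ g lam, ?_, hU,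
    fix_invariant ρ hs hlo hg ?_ lam, ?_⟩
  · exact (Finset.card_image_of_injective _ (ι.injective.comp (Fin.castLE_injective _))).trans
      (by simp)
  · intro x hx
    by_cases hr : x ∈ Set.range ι
    · obtain ⟨i, rfl⟩ := hr
      rw [emb_apply]
      congr 1
      refine hc.fix i ?_
      by_contra hi
      exact hx (Finset.mem_image.2 ⟨⟨i, by omega⟩, Finset.mem_univ _, rfl⟩)
    · exact emb_fix ι s hr
  · obtain ⟨b, -, hb⟩ := hc.inv
    have := count_eig ρ hs hlo hg (h := h)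
      (by rw [hh, ← map_inv, ← map_mul, ← map_mul, hc.conj, map_pow]) hc.gen ⟨b, hb⟩ hlam h1
    omega

variable (hπ : π.range = alternatingGroup X) (hs : Sgn ρ π) (h2 : (2 : k) ≠ 0)
  (hdt : ∀ (ι : Fin 4 ↪ X) (g : Γ), π g = emb ι (swap 0 1 * swap 2 3) → ρ (g * g) = -1)
  (S : Finset X) (U : Submodule k V) (hU : ∀ g ∈ fixPre π S, ∀ v ∈ U, ρ g v ∈ U)

include hπ hs h2 hdt hU in
/-- Outside four points the invariant subspaces have even dimension. -/
theorem even_dim (h4 : S.card + 4 ≤ Fintype.card X) : Even (finrank k U) := by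
  classical
  obtain ⟨ι, hι⟩ := exists_pts S 4 h4
  set a : Perm (Fin 4) := swap 0 1 * swap 2 3
  set b : Perm (Fin 4) := swap 0 2 * swap 1 3
  obtain ⟨g, hg⟩ := exists_preimage hπ (σ := emb ι a) ((sign_emb ι _).trans (by decide))
  obtain ⟨h, hh⟩ := exists_preimage hπ (σ := emb ι b) ((sign_emb ι _).trans (by decide))
  have hsq : ∀ (c : Perm (Fin 4)) (x : Γ), π x = emb ι (c * a * c⁻¹) → ρ x * ρ x = -1 := by
    intro c x hx
    rw [← map_mul]
    refine hdt (c.toEmbedding.trans ι) x ?_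
    rw [hx, map_mul, map_mul, map_inv]
    exact emb_conj (fun i => emb_apply ι c i) a
  have hgg := hsq 1 g (by rw [hg]; simp)
  have hhh := hsq (swap 1 2) h (by
    rw [hh, show swap 1 2 * a * (swap (1 : Fin 4) 2)⁻¹ = b by decide])
  have hgh := hsq (swap 1 3 * swap 3 2) (g * h) (by
    rw [map_mul, hg, hh, ← map_mul,
      show swap 1 3 * swap 3 2 * a * (swap (1 : Fin 4) 3 * swap 3 2)⁻¹ = a * b by decide])
  have hanti : ρ h * ρ g = -(ρ g * ρ h) := by
    rw [map_mul] at hgh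
    calc ρ h * ρ g = (ρ g * ρ g) * (ρ h * ρ g) * (ρ h * ρ h) := by rw [hgg, hhh]; simp
      _ = ρ g * ((ρ g * ρ h) * (ρ g * ρ h)) * ρ h := by simp only [mul_assoc]
      _ = -(ρ g * ρ h) := by rw [hgh]; simp
  have hmg : g ∈ fixPre π S := by
    show π g ∈ fixGrp S; rw [hg]; exact emb_mem_fixGrp (by decide) hι
  have hmh : h ∈ fixPre π S := by
    show π h ∈ fixGrp S; rw [hh]; exact emb_mem_fixGrp (by decide) hι
  set F : Module.End k U := (ρ g).restrict (hU g hmg) with hF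
  set G : Module.End k U := (ρ h).restrict (hU h hmh) with hG
  have hFF : F * F = (-1 : k) • (1 : Module.End k U) := by
    ext v; simpa [hF] using LinearMap.congr_fun hgg v
  have hGG : G * G = (-1 : k) • (1 : Module.End k U) := by
    ext v; simpa [hG] using LinearMap.congr_fun hhh v
  have hGF : G * F = (-1 : k) • (F * G) := by
    ext v; simpa [hF, hG] using LinearMap.congr_fun hanti v
  have d1 := congrArg LinearMap.det hFF
  have d2 := congrArg LinearMap.det hGG
  have d3 := congrArg LinearMap.det hGF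
  rw [map_mul, LinearMap.det_smul, map_one, mul_one] at d1 d2
  rw [map_mul, LinearMap.det_smul, map_mul, mul_comm (LinearMap.det G)] at d3
  have hne : LinearMap.det F * LinearMap.det G ≠ 0 := by
    intro h0
    rcases mul_eq_zero.1 h0 with h0 | h0
    · rw [h0, zero_mul] at d1
      exact pow_ne_zero _ (neg_ne_zero.2 one_ne_zero) d1.symm
    · rw [h0, zero_mul] at d2
      exact pow_ne_zero _ (neg_ne_zero.2 one_ne_zero) d2.symm
  have h1 : ((-1 : k)) ^ finrank k U = 1 := (mul_right_cancel₀ hne (by rw [one_mul]; exact d3)).symm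
  have hm1 : (-1 : k) ≠ 1 := fun e => h2 (by linear_combination -e)
  exact (neg_one_pow_eq_one_iff_even hm1).1 h1

include hπ h2 hdt hU in
/-- Nonzero invariant subspaces detect the alternating group outside five points. -/
theorem faithful_on (h5 : 5 ≤ Fintype.card X - S.card) (hne : U ≠ ⊥) :
    ∀ g ∈ fixPre π S, (∀ v ∈ U, ρ g v = v) → π g = 1 := by
  refine (dichotomy ρ π hπ S h5 U hU).resolve_right fun hr => ?_
  obtain ⟨ι, hι⟩ := exists_pts S 4 (by omega)
  obtain ⟨g, hg, hv⟩ := hr _ (emb_mem_fixGrp (ι := ι) (p := swap 0 1 * swap 2 3) (by decide) hι)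
  obtain ⟨v, hvU, hv0⟩ := (Submodule.ne_bot_iff _).1 hne
  have := LinearMap.congr_fun (hdt ι g hg) v
  rw [rep_mul_apply, hv v hvU, hv v hvU] at this
  refine hv0 ((smul_eq_zero.1 (show (2 : k) • v = 0 from ?_)).resolve_left h2)
  rw [two_smul]
  exact add_eq_zero_iff_eq_neg.2 this

include hπ hs h2 hdt hU in
/-- Six points outside give four dimensions. -/
theorem six_bound' (h3 : ((3 : ℕ) : k) ≠ 0) (h6 : S.card + 6 ≤ Fintype.card X) (hne : U ≠ ⊥) :
    4 ≤ finrank k U := by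
  obtain ⟨ι, hι⟩ := exists_pts S 6 h6
  obtain ⟨g, hg⟩ := exists_lift ρ hπ hs (l := 3) ⟨1, rfl⟩ (σ := emb ι (swap 0 1 * swap 1 2))
    ((sign_emb ι _).trans (by decide)) (by
      rw [← map_pow, show (swap 0 1 * swap 1 2 : Perm (Fin 6)) ^ 3 = 1 by decide +kernel, map_one])
  refine six_bound ρ hπ hs h3 ι hι U hU hg ?_
  by_contra hcon
  push Not at hcon
  have hgm : g ∈ fixPre π S := by
    show π g ∈ fixGrp S; rw [hg.map]; exact emb_mem_fixGrp (by decide) hι
  have := faithful_on ρ hπ h2 hdt S U hU (by omega) hne g hgm hcon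
  rw [hg.map] at this
  exact absurd (emb_injective ι (this.trans (map_one _).symm)) (by decide)

theorem five_tables :
    let d : Perm (Fin 10) := swap 0 1 * swap 1 2 * swap 2 3 * swap 3 4
    let d' : Perm (Fin 10) := swap 5 6 * swap 6 7 * swap 7 8 * swap 8 9
    let q : Perm (Fin 10) := swap 1 2 * swap 2 4 * swap 4 3 * swap 5 6
    let w : Perm (Fin 10) :=
      swap 0 5 * (swap 1 7 * swap 7 2 * swap 2 9 * swap 9 4 * swap 4 8 * swap 8 3 * swap 3 6)
    let i : Perm (Fin 10) := swap 6 9 * swap 7 8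
    (Perm.sign d = 1 ∧ Perm.sign d' = 1 ∧ Perm.sign q = 1 ∧ Perm.sign w = 1 ∧ Perm.sign i = 1) ∧
      d ^ 5 = 1 ∧ d' ^ 5 = 1 ∧ d ≠ 1 ∧ (∀ j : Fin 10, 5 ≤ j.val → d j = j) ∧
      d * d' = d' * d ∧ q * d * q⁻¹ = d ^ 2 ∧ w * d * w⁻¹ = d' ^ 2 ∧ w * d' * w⁻¹ = d ∧
      i * d * i⁻¹ = d ∧ i * d' * i⁻¹ = d' ^ 4 := by
  decide +kernel

set_option maxHeartbeats 800000 in
include hπ hs h2 hdt in
/-- Two disjoint five-cycles among ten points need more than eight dimensions. -/
theorem two_fives (hker : ∀ g, ρ g = 1 → π g = 1) (h5 : ((5 : ℕ) : k) ≠ 0)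
    (h10 : Fintype.card X = 10) : 8 < finrank k V := by
  classical
  by_contra hle
  rw [not_lt] at hle
  haveI : Fact (Nat.Prime 5) := ⟨by norm_num⟩
  have hodd : Odd 5 := ⟨2, rfl⟩
  obtain ⟨⟨sd, sd', sq, sw, si⟩, pd, pd', dne, dfix, dcomm, qd, wd, wd', id1, id2⟩ := five_tables
  set d : Perm (Fin 10) := swap 0 1 * swap 1 2 * swap 2 3 * swap 3 4
  set d' : Perm (Fin 10) := swap 5 6 * swap 6 7 * swap 7 8 * swap 8 9
  set w : Perm (Fin 10) :=
    swap 0 5 * (swap 1 7 * swap 7 2 * swap 2 9 * swap 9 4 * swap 4 8 * swap 8 3 * swap 3 6)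
  obtain ⟨ι, -⟩ := exists_pts (∅ : Finset X) 10 (by simp [h10])
  obtain ⟨g, hg⟩ := exists_lift ρ hπ hs hodd (σ := emb ι d) ((sign_emb ι _).trans sd)
    (by rw [← map_pow, pd, map_one])
  obtain ⟨g', hg'⟩ := exists_lift ρ hπ hs hodd (σ := emb ι d') ((sign_emb ι _).trans sd')
    (by rw [← map_pow, pd', map_one])
  obtain ⟨u, hu⟩ := exists_preimage hπ ((sign_emb ι _).trans sq)
  obtain ⟨h, hh⟩ := exists_preimage hπ (σ := emb ι w) ((sign_emb ι _).trans sw)
  obtain ⟨j, hj⟩ := exists_preimage hπ ((sign_emb ι _).trans si)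
  have hconj : ∀ {x : Γ} {a b c : Perm (Fin 10)}, π x = emb ι a → a * b * a⁻¹ = c →
      π x * emb ι b * (π x)⁻¹ = emb ι c := fun hx e => by
    rw [hx, ← map_inv, ← map_mul, ← map_mul, e]
  have hcount : ∀ lam : k, lam ^ 5 = 1 → lam ≠ 1 →
      4 * finrank k (eig ρ g lam) + finrank k (eig ρ g 1) ≤ finrank k V := fun lam hl h1 =>
    count_eig ρ hs hodd hg (a := 2) (h := u) ((hconj hu qd).trans (map_pow _ _ _))
      (by decide) ⟨3, rfl⟩ hl h1
  have hne : ρ g ≠ 1 := fun e => dne (emb_injective ι (by rw [← hg.map, hker g e, map_one]))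
  obtain ⟨lam, hlam, hlam1, hU0⟩ := exists_eig_top ρ h5 hg.pow hne
  have hprim : IsPrimitiveRoot lam 5 := orderOf_root hlam hlam1 ▸ IsPrimitiveRoot.orderOf lam
  -- the fixed space is zero and the eigenspaces have at most two dimensions
  set S : Finset X := Finset.univ.image fun i : Fin 5 => ι (Fin.castLE (by norm_num) i)
  have hS : ∀ x ∉ S, emb ι d x = x := by
    intro x hx
    by_cases hr : x ∈ Set.range ι
    · obtain ⟨i, rfl⟩ := hr
      rw [emb_apply]
      congr 1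
      refine dfix i ?_
      by_contra hi
      exact hx (Finset.mem_image.2 ⟨⟨i, by omega⟩, Finset.mem_univ _, rfl⟩)
    · exact emb_fix ι d hr
  have hScard : S.card ≤ 5 := Finset.card_image_le.trans (by simp)
  have heven := even_dim ρ hπ hs h2 hdt S _ (fix_invariant ρ hs hodd hg hS lam) (by omega)
  have hpos : 0 < finrank k (eig ρ g lam) := Submodule.one_le_finrank_iff.2 hU0
  have hfix : finrank k (eig ρ g 1) = 0 := by
    have := hcount lam hlam hlam1
    obtain ⟨t, ht⟩ := heven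
    omega
  have hfix' : eig ρ g' 1 = ⊥ := by
    refine Submodule.finrank_eq_zero.1 (Nat.le_zero.1 (hfix ▸ eig_le ρ (h := h) ?_ 1))
    exact lift_conj ρ hs hodd hg' hg (hconj hh wd')
  have hsmall : ∀ x : Fin 5, x ≠ 0 → finrank k (eig ρ g (lam ^ x.val)) ≤ 2 := by
    intro x hx
    have := hcount (lam ^ x.val) (by rw [← pow_mul, mul_comm, pow_mul, hlam, one_pow]) fun e =>
      hx (Fin.ext (Nat.eq_zero_of_dvd_of_lt (hprim.pow_eq_one_iff_dvd _ |>.1 e) x.2))
    omega
  -- the joint eigenspaces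
  let f : Fin 2 → Module.End k V := fun i => ρ (![g, g'] i)
  have hfc : ∀ i j, f i * f j = f j * f i := by
    have e : ρ (g' * g * g'⁻¹) = ρ g := lift_conj ρ hs hodd hg hg (by
      rw [hg'.map, ← map_inv, ← map_mul, ← map_mul, ← dcomm, mul_inv_cancel_right])
    have hc12 : ρ g' * ρ g = ρ g * ρ g' := by
      rw [← map_mul, show g' * g = g' * g * g'⁻¹ * g' by group, map_mul, e]
    intro i j
    fin_cases i <;> fin_cases j <;> simp [f, hc12]
  let W : Fin 5 → Fin 5 → Prop := fun x y =>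
    ∃ v, v ≠ 0 ∧ v ∈ eig ρ g (lam ^ x.val) ∧ v ∈ eig ρ g' (lam ^ y.val)
  have hmod : ∀ (c : ℕ) (x : Fin 5), (lam ^ x.val) ^ c = lam ^ (c * x.val % 5) := fun c x => by
    rw [← pow_mul, mul_comm, ← pow_eq_pow_mod _ hlam]
  have hW1 : ∀ x y z, 3 * x = z → W x y → W y z := by
    rintro x y _ rfl ⟨v, hv0, hvx, hvy⟩
    refine ⟨ρ h v, fun e => hv0 (rep_inj ρ h (e.trans (map_zero _).symm)),
      eig_map ρ (lift_conj ρ hs hodd hg' hg (hconj hh wd')) hvy, ?_⟩
    have e := eig_pow ρ (eig_map ρ (lift_conj ρ hs hodd hg (lift_pow ρ hg' 2)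
      ((hconj hh wd).trans (map_pow _ _ _))) hvx) 3
    have e' : ρ ((g' ^ 2) ^ 3) = ρ g' := by
      rw [← pow_mul, show 2 * 3 = 5 + 1 from rfl, pow_succ, map_mul, hg'.pow, one_mul]
    rw [mem_eig, e', hmod, ← mem_eig] at e
    rwa [Fin.val_mul]
  have hW2 : ∀ x y z, 4 * y = z → W x y → W x z := by
    rintro x y _ rfl ⟨v, hv0, hvx, hvy⟩
    refine ⟨ρ j v, fun e => hv0 (rep_inj ρ j (e.trans (map_zero _).symm)),
      eig_map ρ (lift_conj ρ hs hodd hg hg (hconj hj id1)) hvx, ?_⟩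
    have e := eig_pow ρ (eig_map ρ (lift_conj ρ hs hodd hg' (lift_pow ρ hg' 4)
      ((hconj hj id2).trans (map_pow _ _ _))) hvy) 4
    have e' : ρ ((g' ^ 4) ^ 4) = ρ g' := by
      rw [← pow_mul, show 4 * 4 = 5 * 3 + 1 from rfl, pow_succ, pow_mul, map_mul, map_pow, hg'.pow,
        one_pow, one_mul]
    rw [mem_eig, e', hmod, ← mem_eig] at e
    rwa [Fin.val_mul]
  have hthree : ∀ x y₁ y₂ y₃ : Fin 5, x ≠ 0 → y₁ ≠ y₂ → y₁ ≠ y₃ → y₂ ≠ y₃ →
      W x y₁ → W x y₂ → W x y₃ → False := by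
    intro x y₁ y₂ y₃ hx n12 n13 n23 w1 w2 w3
    let U : Fin 5 → Submodule k V := fun y => wt f ![lam ^ x.val, lam ^ y.val]
    have hind : iSupIndep U := (wt_indep f hfc).comp fun y y' e =>
      Fin.ext (hprim.pow_inj y.2 y'.2 (congrFun e 1))
    have hb := card_mul_le U hind 1 {y₁, y₂, y₃} fun y hy => by
      have hw : W x y := by
        simp only [Finset.mem_insert, Finset.mem_singleton] at hy
        rcases hy with rfl | rfl | rfl <;> assumption
      obtain ⟨v, hv0, hvx, hvy⟩ := hw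
      refine Submodule.one_le_finrank_iff.2 ((Submodule.ne_bot_iff _).2 ⟨v, ?_, hv0⟩)
      rw [mem_wt]
      intro i
      fin_cases i
      · exact (mem_eig ρ).1 hvx
      · exact (mem_eig ρ).1 hvy
    rw [Finset.card_eq_three.2 ⟨_, _, _, n12, n13, n23, rfl⟩] at hb
    have hsub : (⨆ y ∈ ({y₁, y₂, y₃} : Finset (Fin 5)), U y) ≤ eig ρ g (lam ^ x.val) :=
      iSup₂_le fun y _ => iInf_le (fun i => Module.End.eigenspace (f i) _) 0
    have := Submodule.finrank_mono hsub
    have := hsmall x hx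
    omega
  -- a starting weight
  have hW : ∀ v ∈ eig ρ g lam, ρ g' v ∈ eig ρ g lam := fun v hv => by
    rw [mem_eig] at hv ⊢
    have := LinearMap.congr_fun (hfc 0 1) v
    simp only [f, Matrix.cons_val_zero, Matrix.cons_val_one, Module.End.mul_apply] at this
    rw [this, hv, map_smul]
  haveI : Nontrivial (eig ρ g lam) := Submodule.nontrivial_iff_ne_bot.2 hU0
  obtain ⟨μ, hμ'⟩ := Module.End.exists_eigenvalue ((ρ g').restrict hW)
  obtain ⟨v, hv⟩ := hμ'.exists_hasEigenvector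
  have hvμ : (v : V) ∈ eig ρ g' μ := (mem_eig ρ).2 (congrArg Subtype.val hv.apply_eq_smul)
  have hv0 : (v : V) ≠ 0 := fun e => hv.2 (Subtype.ext e)
  obtain ⟨a, ha5, rfl⟩ := hprim.eq_pow_of_pow_eq_one
    (eig_root' ρ hg'.pow ((Submodule.ne_bot_iff _).2 ⟨v, hvμ, hv0⟩))
  have hst : W 1 ⟨a, ha5⟩ := ⟨v, hv0, by simpa using v.2, hvμ⟩
  have ha0 : a ≠ 0 := by
    rintro rfl
    rw [pow_zero, hfix', Submodule.mem_bot] at hvμ
    exact hv0 hvμ
  have case1 : W 1 1 → False := fun h11 =>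
    hthree 1 1 4 3 (by decide) (by decide) (by decide) (by decide) h11
      (hW2 1 1 4 (by decide) h11) (hW1 1 1 3 (by decide) h11)
  have case2 : W 1 2 → False := fun h12 => by
    have h23 : W 2 3 := hW1 1 2 3 (by decide) h12
    have h22 : W 2 2 := hW2 2 3 2 (by decide) h23
    have h21 : W 2 1 := hW1 2 2 1 (by decide) h22
    exact hthree 2 3 2 1 (by decide) (by decide) (by decide) (by decide) h23 h22 h21
  obtain h | h | h | h | h : (⟨a, ha5⟩ : Fin 5) = 0 ∨ (⟨a, ha5⟩ : Fin 5) = 1 ∨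
      (⟨a, ha5⟩ : Fin 5) = 2 ∨ (⟨a, ha5⟩ : Fin 5) = 3 ∨ (⟨a, ha5⟩ : Fin 5) = 4 :=
    (by decide : ∀ b : Fin 5, b = 0 ∨ b = 1 ∨ b = 2 ∨ b = 3 ∨ b = 4) _
  · exact ha0 (congrArg Fin.val h)
  all_goals rw [h] at hst
  · exact case1 hst
  · exact case2 hst
  · exact case2 (hW2 1 3 2 (by decide) hst)
  · exact case1 (hW2 1 4 1 (by decide) hst)

/-- No proper cover has a small faithful representation. -/
theorem double_ok : DoubleOK := by
  intro p n k V Γ X _ _ _ _ _ _ _ _ _ _ D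
  obtain ⟨ρ, π, hp, hrec, hπ, h9, hker, hn, hn0, -, hsmall⟩ := D
  intro hp2 hs hdt
  haveI := Fact.mk hp
  have hcast : ∀ l : ℕ, l.Prime → p ≠ l → (l : k) ≠ 0 := fun l hl hne e =>
    hne ((Nat.prime_dvd_prime_iff_eq hp hl).1 ((CharP.cast_eq_zero_iff k p l).1 e))
  have h2 : (2 : k) ≠ 0 := by exact_mod_cast hcast 2 Nat.prime_two hp2
  have hb := bnd_bounds p (Fintype.card X)
  haveI : Fact (Nat.Prime 3) := ⟨Nat.prime_three⟩
  haveI : Fact (Nat.Prime 5) := ⟨by norm_num⟩
  haveI : Fact (Nat.Prime 7) := ⟨by norm_num⟩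
  -- the three kinds of cycles
  have e7 : p ≠ 7 → 11 ≤ Fintype.card X → 12 ≤ n := fun h7 h11 => by
    obtain ⟨S, U, hS, hU0, hU, hle⟩ :=
      cycle_eig ρ hπ hs hker ⟨3, rfl⟩ (hcast 7 (by norm_num) h7) cyc7 (by omega)
    have := even_dim ρ hπ hs h2 hdt S U hU (by omega)
    have : 0 < finrank k U := Submodule.one_le_finrank_iff.2 hU0
    obtain ⟨t, ht⟩ := ‹Even _›
    omega
  by_cases h12 : 12 ≤ Fintype.card X
  · by_cases h3 : p = 3
    · have := e7 (by omega) (by omega)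
      by_cases h14 : 14 ≤ Fintype.card X
      · obtain ⟨S, U, hS, hU0, hU, hle⟩ :=
          cycle_eig ρ hπ hs hker ⟨2, rfl⟩ (hcast 5 (by norm_num) (by omega)) cyc5 (by omega)
        have : 0 < finrank k U := Submodule.one_le_finrank_iff.2 hU0
        have := sub_bound ρ π hp hrec hπ S (by omega) U hU (by omega)
          (faithful_on ρ hπ h2 hdt S U hU (by omega) hU0)
        have := bnd_bounds p (Fintype.card X - S.card)
        omega
      · subst h3
        simp only [bnd] at hsmall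
        obtain h | h : Fintype.card X = 12 ∨ Fintype.card X = 13 := by omega
        all_goals rw [h] at hsmall; norm_num at hsmall; omega
    · obtain ⟨S, U, hS, hU0, hU, hle⟩ :=
        cycle_eig ρ hπ hs hker ⟨1, rfl⟩ (hcast 3 Nat.prime_three h3) cyc3 (by omega)
      have : 0 < finrank k U := Submodule.one_le_finrank_iff.2 hU0
      have := sub_bound ρ π hp hrec hπ S (by omega) U hU (by omega)
        (faithful_on ρ hπ h2 hdt S U hU (by omega) hU0)
      have := bnd_bounds p (Fintype.card X - S.card)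
      omega
  by_cases h11 : Fintype.card X = 11
  · by_cases h7 : p = 7
    · obtain ⟨S, U, hS, hU0, hU, hle⟩ :=
        cycle_eig ρ hπ hs hker ⟨2, rfl⟩ (hcast 5 (by norm_num) (by omega)) cyc5 (by omega)
      have := six_bound' ρ hπ hs h2 hdt S U hU (hcast 3 Nat.prime_three (by omega)) (by omega) hU0
      omega
    · have := e7 h7 (by omega)
      omega
  by_cases h5 : p = 5
  · obtain ⟨S, U, hS, hU0, hU, hle⟩ :=
      cycle_eig ρ hπ hs hker ⟨1, rfl⟩ (hcast 3 Nat.prime_three (by omega)) cyc3 (by omega)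
    have := six_bound' ρ hπ hs h2 hdt S U hU (hcast 3 Nat.prime_three (by omega)) (by omega) hU0
    subst h5
    obtain h | h : Fintype.card X = 9 ∨ Fintype.card X = 10 := by omega
    all_goals rw [h] at hsmall; norm_num [bnd] at hsmall; omega
  · obtain h | h : Fintype.card X = 9 ∨ Fintype.card X = 10 := by omega
    · obtain ⟨S, U, hS, hU0, hU, hle⟩ :=
        cycle_eig ρ hπ hs hker ⟨2, rfl⟩ (hcast 5 (by norm_num) h5) cyc5 (by omega)
      have : 0 < finrank k U := Submodule.one_le_finrank_iff.2 hU0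
      obtain ⟨t, ht⟩ := even_dim ρ hπ hs h2 hdt S U hU (by omega)
      omega
    · have := two_fives ρ hπ hs h2 hdt hker (hcast 5 (by norm_num) h5) h
      omega

end CfsgLib.AltGL
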