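/-
Images of the permutation module.
-/
import Mathlib
import Cfsg.Agent.Lib.Known.AltGL.Nilpotent

set_option autoImplicit false
set_option linter.unusedSectionVars false

namespace CfsgLib.AltGL

open Equiv Module

variable {k : Type} [Field k] [IsAlgClosed k] {V : Type} [AddCommGroup V] [Module k V]
  [FiniteDimensional k V] {Γ : Type} [Group Γ] [Finite Γ] (ρ : Representation k Γ V)
  {X : Type} [Fintype X] [DecidableEq X] {π : Γ →* Perm X}

/-- Two points as an ordered pair. -/
def pairEmb {a b : X} (h : a ≠ b) : Fin 2 ↪ X :=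
  ⟨![a, b], fun i j e => by
    fin_cases i <;> fin_cases j <;> first | rfl | exact absurd e h | exact absurd e.symm h⟩

/-- An equivariant cocycle on pairs of points forces the bound. -/
theorem perm_module_bound {p : ℕ} [CharP k p] {n : ℕ} (hπ : π.range = alternatingGroup X)
    (h9 : 9 ≤ Fintype.card X) (hirr : Irr ρ) (hn : finrank k V = n) (u : X → X → V)
    (hdiag : ∀ a, u a a = 0) (hanti : ∀ a b, u b a = -u a b)
    (hco : ∀ a b c, a ≠ b → b ≠ c → c ≠ a → u a b + u b c + u c a = 0)
    (heq : ∀ g a b, ρ g (u a b) = u (π g a) (π g b))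
    (hne : ∃ a b, u a b ≠ 0) : bnd p (Fintype.card X) ≤ n := by
  classical
  have hco' : ∀ a b c, u a c = u a b + u b c := by
    intro a b c
    by_cases hab : a = b
    · subst hab; rw [hdiag, zero_add]
    by_cases hbc : b = c
    · subst hbc; rw [hdiag, add_zero]
    by_cases hca : c = a
    · subst hca; rw [hdiag, hanti c b, add_neg_cancel]
    have := hco a b c hab hbc hca
    rw [hanti a c] at this
    exact (add_neg_eq_zero.1 this).symm
  obtain ⟨a₀, b₀, h0⟩ := hne
  let o : X := a₀
  let sumF : (X → k) →ₗ[k] k := Fintype.linearCombination k (fun _ => (1 : k))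
  let Φ : (X → k) →ₗ[k] V := Fintype.linearCombination k (fun a => u a o)
  have hsum : ∀ x, sumF x = ∑ a, x a := fun x => by
    simp [sumF, Fintype.linearCombination_apply]
  have hΦ : ∀ x, Φ x = ∑ a, x a • u a o := fun x => by simp [Φ, Fintype.linearCombination_apply]
  let A := LinearMap.ker sumF
  have hind : ∀ x ∈ A, ∀ o', Φ x = ∑ a, x a • u a o' := by
    intro x hx o'
    rw [hΦ]
    have hx' : ∑ a, x a = 0 := (hsum x).symm.trans (LinearMap.mem_ker.1 hx)
    have : ∀ a, x a • u a o = x a • u a o' + x a • u o' o := fun a => by rw [← smul_add, ← hco']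
    rw [Finset.sum_congr rfl fun a _ => this a, Finset.sum_add_distrib, ← Finset.sum_smul, hx',
      zero_smul, add_zero]
  have hperm : ∀ (g : Γ), ∀ x ∈ A, (fun a => x ((π g)⁻¹ a)) ∈ A := by
    intro g x hx
    refine LinearMap.mem_ker.2 ?_
    rw [hsum, Equiv.sum_comp (π g)⁻¹ x, ← hsum]
    exact LinearMap.mem_ker.1 hx
  have hΦg : ∀ (g : Γ), ∀ x ∈ A, Φ (fun a => x ((π g)⁻¹ a)) = ρ g (Φ x) := by
    intro g x hx
    rw [hind _ (hperm g x hx) (π g o), hΦ, map_sum]
    rw [← Equiv.sum_comp (π g)]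
    refine Finset.sum_congr rfl fun a _ => ?_
    rw [map_smul, heq, Perm.inv_def, Equiv.symm_apply_apply]
  have hdelta : ∀ a b, (Pi.single a (1 : k) - Pi.single b 1 : X → k) ∈ A ∧
      Φ (Pi.single a 1 - Pi.single b 1) = u a b := by
    intro a b
    refine ⟨LinearMap.mem_ker.2 (by simp [hsum, Finset.sum_sub_distrib]), ?_⟩
    rw [map_sub, show Φ (Pi.single a 1) = u a o by simp [Φ],
      show Φ (Pi.single b 1) = u b o by simp [Φ], hco' a b o]
    abel
  let R := A.map Φ
  have hR : R = ⊤ := by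
    refine (hirr R ?_).resolve_left fun h => h0 ?_
    · rintro g _ ⟨x, hx, rfl⟩
      exact ⟨_, hperm g x hx, hΦg g x hx⟩
    · have : u a₀ b₀ ∈ R := ⟨_, (hdelta a₀ b₀).1, (hdelta a₀ b₀).2⟩
      rwa [h, Submodule.mem_bot] at this
  let N := LinearMap.ker (Φ.domRestrict A)
  have hrk : n + finrank k N = Fintype.card X - 1 := by
    have h1 := LinearMap.finrank_range_add_finrank_ker (Φ.domRestrict A)
    rw [show LinearMap.range (Φ.domRestrict A) = R from LinearMap.range_domRestrict A Φ, hR,
      finrank_top, hn] at h1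
    have h2 := LinearMap.finrank_range_add_finrank_ker sumF
    rw [LinearMap.range_eq_top.2 (fun c => ⟨Pi.single o c, by simp [hsum]⟩), finrank_top,
      Module.finrank_self, Module.finrank_fintype_fun_eq_card] at h2
    have hA : 1 + finrank k A = Fintype.card X := h2
    have h1' : n + finrank k N = finrank k A := h1
    omega
  have hconst : ∀ x ∈ A, Φ x = 0 → ∀ a b, x a = x b := by
    intro x hx hx0 a b
    by_contra hab'
    have hab : a ≠ b := fun h => hab' (by rw [h])
    obtain ⟨c, hc⟩ : ∃ c : Fin 6 ↪ X, c 0 = a ∧ c 1 = b := by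
      obtain ⟨g, hg⟩ := exists_extend (pairEmb hab)
        (show 2 ≤ 6 by norm_num) (by omega)
      exact ⟨g, hg 0, hg 1⟩
    obtain ⟨g, hg⟩ := exists_preimage hπ (σ := emb c (swap 0 1 * swap 2 3))
      ((sign_emb c _).trans (by decide))
    obtain ⟨g', hg'⟩ := exists_preimage hπ (σ := emb c (swap 0 4 * swap 4 5))
      ((sign_emb c _).trans (by decide))
    let y : X → k := x - fun w => x ((π g)⁻¹ w)
    let z : X → k := y - fun w => y ((π g')⁻¹ w)
    have hy : y ∈ A ∧ Φ y = 0 := ⟨A.sub_mem hx (hperm g x hx), by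
      rw [map_sub, hΦg g x hx, hx0, map_zero, sub_zero]⟩
    have hz : z ∈ A ∧ Φ z = 0 := ⟨A.sub_mem hy.1 (hperm g' y hy.1), by
      rw [map_sub, hΦg g' y hy.1, hy.2, map_zero, sub_zero]⟩
    have hginv : ∀ i, (π g)⁻¹ (c i) = c ((swap 0 1 * swap 2 3 : Perm (Fin 6)) i) := fun i => by
      rw [hg, ← map_inv, emb_apply]
      congr 1
      revert i; decide
    have hg'inv : ∀ i, (π g')⁻¹ (c i) = c (((swap 0 4 * swap 4 5 : Perm (Fin 6))⁻¹) i) := fun i => by
      rw [hg', ← map_inv, emb_apply]
    have hyv : ∀ i, y (c i) = x (c i) - x (c ((swap 0 1 * swap 2 3 : Perm (Fin 6)) i)) := fun i => by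
      show x (c i) - x ((π g)⁻¹ (c i)) = _
      rw [hginv]
    have hzv : ∀ i, z (c i) = y (c i) - y (c (((swap 0 4 * swap 4 5 : Perm (Fin 6))⁻¹) i)) :=
      fun i => by
        show y (c i) - y ((π g')⁻¹ (c i)) = _
        rw [hg'inv]
    have hyout : ∀ w ∉ Set.range c, y w = 0 := fun w hw => by
      show x w - x ((π g)⁻¹ w) = 0
      rw [hg, ← map_inv, emb_fix c _ hw, sub_self]
    have hzeq : z = (x a - x b) • (Pi.single a 1 - Pi.single (c 4) 1) := by
      funext w
      by_cases hw : w ∈ Set.range c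
      · obtain ⟨i, rfl⟩ := hw
        rw [hzv, hyv, hyv, ← hc.1, ← hc.2]
        fin_cases i <;> simp [Pi.single_apply, c.injective.eq_iff, swap_apply_def]
      · have h1 : w ≠ a := fun h => hw ⟨0, by rw [h, hc.1]⟩
        have h2 : w ≠ c 4 := fun h => hw ⟨4, h.symm⟩
        show y w - y ((π g')⁻¹ w) = _
        rw [hg', ← map_inv, emb_fix c _ hw, sub_self]
        simp [h1, h2]
    have hu : u a (c 4) = 0 := by
      have := hz.2
      rw [hzeq, map_smul, (hdelta a (c 4)).2] at this
      exact (smul_eq_zero.1 this).resolve_left (sub_ne_zero.2 hab')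
    have hac : a ≠ c 4 := hc.1 ▸ c.injective.ne (by decide)
    have hab0 : a₀ ≠ b₀ := fun h => h0 (h ▸ hdiag _)
    obtain ⟨σ, hσ, hσv⟩ := exists_even_map (pairEmb hac) (pairEmb hab0) (by omega)
    obtain ⟨s, hs⟩ := exists_preimage hπ hσ
    refine h0 ?_
    have e0 : σ a = a₀ := hσv 0
    have e1 : σ (c 4) = b₀ := hσv 1
    have := heq s a (c 4)
    rw [hu, map_zero, hs, e0, e1] at this
    exact this.symm
  let one : X → k := fun _ => 1
  have hle : finrank k N ≤ 1 := by
    let ev : N →ₗ[k] k := (LinearMap.proj o).comp (A.subtype.comp N.subtype)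
    have : Function.Injective ev := by
      intro v w e
      refine Subtype.ext (Subtype.ext (funext fun i => ?_))
      rw [hconst _ v.1.2 (LinearMap.mem_ker.1 v.2) i o, hconst _ w.1.2 (LinearMap.mem_ker.1 w.2) i o]
      exact e
    exact (LinearMap.finrank_le_finrank_of_injective this).trans (Module.finrank_self k).le
  by_cases hp : p ∣ Fintype.card X
  · rw [bnd_of_dvd hp]; omega
  · have : N = ⊥ := by
      refine (Submodule.eq_bot_iff _).2 fun v hv => Subtype.ext (funext fun i => ?_)
      have hs := (hsum v.1).symm.trans (LinearMap.mem_ker.1 v.2)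
      rw [Finset.sum_congr rfl fun a _ => hconst _ v.2 (LinearMap.mem_ker.1 hv) a i,
        Finset.sum_const, Finset.card_univ, nsmul_eq_mul] at hs
      exact (mul_eq_zero.1 hs).resolve_left fun h => hp ((CharP.cast_eq_zero_iff k p _).1 h)
    rw [this, finrank_bot] at hrk
    rw [bnd_of_not_dvd hp]; omega

end CfsgLib.AltGL
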