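/-
Representations of alternating groups: operators of permutations and lines attached to pairs.
-/
import Mathlib
import Cfsg.Agent.Lib.Known.AltGL.Double
import Cfsg.Agent.Lib.Known.AltGL.PermModule

set_option autoImplicit false
set_option linter.unusedSectionVars false

namespace CfsgLib.AltGL

open Equiv Module

variable {k : Type} [Field k] [IsAlgClosed k] {V : Type} [AddCommGroup V] [Module k V]
  [FiniteDimensional k V] {Γ : Type} [Group Γ] [Finite Γ] (ρ : Representation k Γ V)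
  {X : Type} [Fintype X] [DecidableEq X] {π : Γ →* Perm X}

theorem disjoint_finrank_add {A B C : Submodule k V} (hA : A ≤ C) (hB : B ≤ C)
    (h : ∀ v ∈ A, v ∈ B → v = 0) : finrank k A + finrank k B ≤ finrank k C := by
  have e := Submodule.finrank_sup_add_finrank_inf_eq A B
  rw [show A ⊓ B = ⊥ from (Submodule.eq_bot_iff _).2 fun v hv => h v hv.1 hv.2, finrank_bot,
    add_zero] at e
  rw [← e]
  exact Submodule.finrank_mono (sup_le hA hB)

/-- A relabelled ordered set of points. -/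
abbrev rl {m : ℕ} (ι : Fin m ↪ X) (c : Perm (Fin m)) : Fin m ↪ X := c.toEmbedding.trans ι

theorem emb_rl {m : ℕ} (ι : Fin m ↪ X) (c p : Perm (Fin m)) :
    emb (rl ι c) p = emb ι (c * p * c⁻¹) := by
  rw [map_mul, map_mul, map_inv]
  exact (emb_conj (fun i => emb_apply ι c i) p).symm

/-- The points of an ordered set. -/
abbrev pts {m : ℕ} (ι : Fin m ↪ X) : Finset X := Finset.univ.image ι

theorem mem_pts {m : ℕ} {ι : Fin m ↪ X} (i : Fin m) : ι i ∈ pts ι :=
  Finset.mem_image_of_mem _ (Finset.mem_univ i)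

theorem card_pts {m : ℕ} (ι : Fin m ↪ X) : (pts ι).card = m :=
  (Finset.card_image_of_injective _ ι.injective).trans (by simp)

theorem emb_fix_pts {m : ℕ} (ι : Fin m ↪ X) (p : Perm (Fin m)) {x : X} (hx : x ∉ pts ι) :
    emb ι p x = x :=
  emb_fix ι p (by rintro ⟨i, rfl⟩; exact hx (mem_pts i))

theorem fix_comm {S : Finset X} {σ τ : Perm X} (hτ : ∀ x ∈ S, τ x = x)
    (hσ : ∀ x ∉ S, σ x = x) : τ * σ * τ⁻¹ = σ := by
  rw [mul_inv_eq_iff_eq_mul]
  refine Perm.ext fun x => ?_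
  by_cases hx : x ∈ S
  · by_cases h : σ x ∈ S
    · rw [Perm.mul_apply, Perm.mul_apply, hτ x hx, hτ _ h]
    · exact absurd ((σ.injective (hσ _ h)).symm ▸ hx) h
  · rw [Perm.mul_apply, Perm.mul_apply, hσ x hx, hσ]
    intro hy
    exact hx (τ.injective (hτ _ hy) ▸ hy)

/-- Three points as an ordered triple. -/
def triEmb {a b c : X} (hab : a ≠ b) (hbc : b ≠ c) (hca : c ≠ a) : Fin 3 ↪ X :=
  ⟨![a, b, c], by
    intro i j
    fin_cases i <;> fin_cases j <;> simp [hab, hbc, hca, hab.symm, hbc.symm, hca.symm]⟩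

variable (π) in
/-- The operator of an even permutation. -/
noncomputable def op (σ : Perm X) : Module.End k V :=
  open Classical in if h : ∃ g, π g = σ then ρ h.choose else 1

/-- An eigenspace of the operator of a permutation. -/
noncomputable abbrev peig (π : Γ →* Perm X) (σ : Perm X) (c : k) : Submodule k V :=
  Module.End.eigenspace (op ρ π σ) c

theorem mem_peig {σ : Perm X} {c : k} {v : V} : v ∈ peig ρ π σ c ↔ op ρ π σ v = c • v :=
  Module.End.mem_eigenspace_iff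

variable (hπ : π.range = alternatingGroup X) (hp0 : ∀ g, π g = 1 → ρ g = 1)

include hp0 in
theorem op_eq {σ : Perm X} {g : Γ} (hg : π g = σ) : op ρ π σ = ρ g := by
  have h : ∃ g, π g = σ := ⟨g, hg⟩
  rw [op, dif_pos h]
  have e : π (g⁻¹ * h.choose) = 1 := by rw [map_mul, map_inv, h.choose_spec, hg, inv_mul_cancel]
  calc ρ h.choose = ρ (g * (g⁻¹ * h.choose)) := by rw [mul_inv_cancel_left]
    _ = ρ g := by rw [map_mul, hp0 _ e, mul_one]

include hπ hp0 in
theorem op_mul {σ τ : Perm X} (hσ : Perm.sign σ = 1) (hτ : Perm.sign τ = 1) :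
    op ρ π (σ * τ) = op ρ π σ * op ρ π τ := by
  obtain ⟨g, hg⟩ := exists_preimage hπ hσ
  obtain ⟨h, hh⟩ := exists_preimage hπ hτ
  rw [op_eq ρ hp0 hg, op_eq ρ hp0 hh, op_eq ρ hp0 (g := g * h) (by rw [map_mul, hg, hh]), map_mul]

include hp0 in
theorem op_one : op ρ π 1 = 1 := (op_eq ρ hp0 (map_one π)).trans (map_one ρ)

include hπ hp0 in
theorem op_mul_apply {σ τ : Perm X} (hσ : Perm.sign σ = 1) (hτ : Perm.sign τ = 1) (v : V) :
    op ρ π (σ * τ) v = op ρ π σ (op ρ π τ v) := by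
  rw [op_mul ρ hπ hp0 hσ hτ]; rfl

include hπ hp0 in
theorem op_inj {σ : Perm X} (hσ : Perm.sign σ = 1) : Function.Injective (op ρ π σ) := by
  obtain ⟨g, hg⟩ := exists_preimage hπ hσ
  rw [op_eq ρ hp0 hg]
  exact rep_inj ρ g

include hπ hp0 in
/-- Conjugation moves eigenspaces. -/
theorem op_peig {σ τ : Perm X} (hσ : Perm.sign σ = 1) (hτ : Perm.sign τ = 1) {τ' : Perm X}
    (e : σ * τ * σ⁻¹ = τ') {c : k} {v : V} (hv : v ∈ peig ρ π τ c) :
    op ρ π σ v ∈ peig ρ π τ' c := by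
  rw [mem_peig] at hv ⊢
  have hτ' : Perm.sign τ' = 1 := by rw [← e]; simp [hσ, hτ]
  rw [← op_mul_apply ρ hπ hp0 hτ' hσ, ← e, inv_mul_cancel_right, op_mul_apply ρ hπ hp0 hσ hτ, hv,
    map_smul]

theorem fixPre_mem {S : Finset X} {g : Γ} : g ∈ fixPre π S ↔ π g ∈ fixGrp S := Iff.rfl

include hπ hp0 in
/-- A line invariant under the fixer of two points is fixed by it. -/
theorem stab_fix (h9 : 9 ≤ Fintype.card X) (L : Submodule k V) (hdim : finrank k L ≤ 1) (a b : X)
    (hinv : ∀ g ∈ fixPre π {a, b}, ∀ v ∈ L, ρ g v ∈ L) :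
    ∀ g ∈ fixPre π {a, b}, ∀ v ∈ L, ρ g v = v := by
  have hc : ({a, b} : Finset X).card ≤ 2 := Finset.card_le_two
  rcases dichotomy ρ π hπ {a, b} (by omega) L hinv with hl | hr
  swap
  · intro g hg v hv
    obtain ⟨g', hg', hv'⟩ := hr (π g) hg
    rw [← op_eq ρ hp0 (rfl : π g = π g), op_eq ρ hp0 hg']
    exact hv' v hv
  exfalso
  obtain ⟨ι, hι⟩ := exists_pts {a, b} 5 (by omega)
  set s : Perm (Fin 5) := swap 0 1 * swap 1 2
  set t : Perm (Fin 5) := swap 0 3 * swap 3 4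
  obtain ⟨g, hg⟩ := exists_preimage hπ (σ := emb ι s) ((sign_emb ι _).trans (by decide))
  obtain ⟨h, hh⟩ := exists_preimage hπ (σ := emb ι t) ((sign_emb ι _).trans (by decide))
  have hgm : g ∈ fixPre π {a, b} := by
    rw [fixPre_mem, hg]; exact emb_mem_fixGrp (by decide) hι
  have hhm : h ∈ fixPre π {a, b} := by
    rw [fixPre_mem, hh]; exact emb_mem_fixGrp (by decide) hι
  obtain ⟨u, hu⟩ := finrank_le_one_iff.1 hdim
  have hsc : ∀ x ∈ fixPre π {a, b}, ∃ c : k, ∀ v ∈ L, ρ x v = c • v := by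
    intro x hx
    obtain ⟨c, hc⟩ := hu ⟨_, hinv x hx _ u.2⟩
    refine ⟨c, fun v hv => ?_⟩
    obtain ⟨d, hd⟩ := hu ⟨v, hv⟩
    have hd' : d • (u : V) = v := congrArg Subtype.val hd
    have hc' : c • (u : V) = ρ x u := congrArg Subtype.val hc
    rw [← hd', map_smul, ← hc', smul_comm]
  obtain ⟨c, hc'⟩ := hsc g hgm
  obtain ⟨d, hd'⟩ := hsc h hhm
  have hcomm := hl ((g * h) * (h * g)⁻¹) (mul_mem (mul_mem hgm hhm) (inv_mem (mul_mem hhm hgm)))
    fun v hv => by
      have e : ∀ w ∈ L, ρ (g * h) w = ρ (h * g) w := fun w hw => by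
        rw [rep_mul_apply, rep_mul_apply, hd' w hw, hc' w hw, map_smul, map_smul, hc' w hw,
          hd' w hw, smul_comm]
      rw [rep_mul_apply, e _ (hinv _ (inv_mem (mul_mem hhm hgm)) v hv), ← rep_mul_apply,
        mul_inv_cancel, rep_one_apply]
  rw [map_mul, map_inv, mul_inv_eq_one, map_mul, map_mul, hg, hh, ← map_mul, ← map_mul] at hcomm
  exact absurd (emb_injective ι hcomm) (by decide)

include hπ hp0 in
/-- Lines attached equivariantly to the pairs of points force the bound. -/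
theorem pair_bound {p : ℕ} [CharP k p] {n : ℕ} (h9 : 9 ≤ Fintype.card X) (hirr : Irr ρ)
    (hn : finrank k V = n) (L : X → X → Submodule k V)
    (hequiv : ∀ g a b, a ≠ b → ∀ v ∈ L a b, ρ g v ∈ L (π g a) (π g b))
    (hline : ∀ a b, a ≠ b → finrank k (L a b) ≤ 1) (hne : ∃ a b, a ≠ b ∧ L a b ≠ ⊥)
    (hneg : ∀ a b, a ≠ b → ∃ g, π g a = b ∧ π g b = a ∧ ∀ v ∈ L a b, ρ g v = -v)
    (hsum : ∀ u : X → X → V, (∀ a b, a ≠ b → u a b ∈ L a b) →
      (∀ g a b, ρ g (u a b) = u (π g a) (π g b)) → (∀ a b, u b a = -u a b) →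
      ∀ a b c, a ≠ b → b ≠ c → c ≠ a → u a b + u b c + u c a = 0) :
    bnd p (Fintype.card X) ≤ n := by
  classical
  obtain ⟨a₀, b₀, h0, hL⟩ := hne
  obtain ⟨u₀, hu₀, hu0⟩ := (Submodule.ne_bot_iff _).1 hL
  have hmove : ∀ a b, a ≠ b → ∃ g, π g a₀ = a ∧ π g b₀ = b := by
    intro a b hab
    obtain ⟨σ, hσ, hσι⟩ := exists_even_map (pairEmb h0) (pairEmb hab) (by omega)
    obtain ⟨g, hg⟩ := exists_preimage hπ hσ
    exact ⟨g, by rw [hg]; exact hσι 0, by rw [hg]; exact hσι 1⟩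
  choose G hG1 hG2 using hmove
  let u : X → X → V := fun a b => if h : a = b then 0 else ρ (G a b h) u₀
  have hu : ∀ a b (h : a ≠ b), u a b = ρ (G a b h) u₀ := fun a b h => dif_neg h
  have hfix := stab_fix ρ hπ hp0 h9 (L a₀ b₀) (hline _ _ h0) a₀ b₀ fun g hg v hv => by
    have := hequiv g a₀ b₀ h0 v hv
    rwa [hg.2 a₀ (by simp), hg.2 b₀ (by simp)] at this
  have heq : ∀ g a b, ρ g (u a b) = u (π g a) (π g b) := by
    intro g a b
    by_cases hab : a = b
    · subst hab; simp [u]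
    have hab' : π g a ≠ π g b := (π g).injective.ne hab
    rw [hu a b hab, hu _ _ hab', ← rep_mul_apply]
    set y := (G _ _ hab')⁻¹ * (g * G a b hab) with hy
    have hym : y ∈ fixPre π {a₀, b₀} := by
      have hs : ∀ x, Perm.sign (π x) = 1 := fun x => Perm.mem_alternatingGroup.1 (hπ ▸ ⟨x, rfl⟩)
      refine ⟨hs _, ?_⟩
      intro x hx
      rw [hy, map_mul, map_mul, map_inv, Perm.mul_apply, Perm.mul_apply, Perm.inv_eq_iff_eq]
      simp only [Finset.mem_insert, Finset.mem_singleton] at hx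
      rcases hx with rfl | rfl
      · rw [hG1, hG1]
      · rw [hG2, hG2]
    rw [show g * G a b hab = G _ _ hab' * y by rw [hy, mul_inv_cancel_left], rep_mul_apply,
      hfix y hym u₀ hu₀]
  have hmem : ∀ a b, a ≠ b → u a b ∈ L a b := by
    intro a b h
    have := hequiv (G a b h) a₀ b₀ h0 u₀ hu₀
    rwa [hG1, hG2, ← hu a b h] at this
  have hanti : ∀ a b, u b a = -u a b := by
    intro a b
    by_cases h : a = b
    · subst h; simp [u]
    obtain ⟨g, ga, gb, hg⟩ := hneg a b h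
    rw [← hg _ (hmem a b h), heq, ga, gb]
  refine perm_module_bound ρ hπ h9 hirr hn u (fun a => dif_pos rfl) hanti
    (hsum u hmem heq hanti) heq ⟨a₀, b₀, fun e => hu0 (rep_inj ρ (G a₀ b₀ h0) ?_)⟩
  rw [← hu, e, map_zero]

end CfsgLib.AltGL
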