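/-
Representations of alternating groups of small degree in odd or zero characteristic.
-/
import Mathlib
import Cfsg.Agent.Lib.Known.AltGL.Plain

set_option autoImplicit false
set_option linter.unusedSectionVars false

namespace CfsgLib.AltGL

open Equiv Module

variable {k : Type} [Field k] [IsAlgClosed k] {V : Type} [AddCommGroup V] [Module k V]
  [FiniteDimensional k V] {Γ : Type} [Group Γ] [Finite Γ] (ρ : Representation k Γ V)
  {X : Type} [Fintype X] [DecidableEq X] {π : Γ →* Perm X}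

/-- The first involution of four points. -/
abbrev ta : Perm (Fin 4) := swap 0 1 * swap 2 3

/-- The second involution of four points. -/
abbrev tb : Perm (Fin 4) := swap 0 2 * swap 1 3

/-- A three-cycle of four points permuting the three involutions. -/
abbrev tc : Perm (Fin 4) := swap 1 2 * swap 2 3

theorem quad_tables : (Perm.sign ta = 1 ∧ Perm.sign tb = 1 ∧ Perm.sign (ta * tb) = 1 ∧
    Perm.sign tc = 1 ∧ ta * ta = 1 ∧ tb * tb = 1 ∧ ta * tb = tb * ta) ∧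
    tc * ta * tc⁻¹ = tb ∧ tc * tb * tc⁻¹ = ta * tb ∧
    (tc * tc) * ta * (tc * tc)⁻¹ = ta * tb ∧ (tc * tc) * tb * (tc * tc)⁻¹ = ta ∧
    swap 0 1 * ta * swap 0 1 = ta ∧ swap 0 1 * tb * swap 0 1 = ta * tb ∧
    swap 0 1 * (ta * tb) * swap 0 1 = tb := by
  decide +kernel

/-- The line space of a quad. -/
noncomputable abbrev qW (π : Γ →* Perm X) (ι : Fin 4 ↪ X) : Submodule k V :=
  peig ρ π (emb ι ta) 1 ⊓ peig ρ π (emb ι tb) (-1)

/-- The fixed space of a quad. -/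
noncomputable abbrev qF (π : Γ →* Perm X) (ι : Fin 4 ↪ X) : Submodule k V :=
  peig ρ π (emb ι ta) 1 ⊓ peig ρ π (emb ι tb) 1

variable (hπ : π.range = alternatingGroup X) (hp0 : ∀ g, π g = 1 → ρ g = 1) (h2 : (2 : k) ≠ 0)
  (hker : ∀ g, ρ g = 1 → π g = 1) (h9 : 9 ≤ Fintype.card X)

include hπ hp0 in
theorem op_ab (ι : Fin 4 ↪ X) (v : V) :
    op ρ π (emb ι (ta * tb)) v = op ρ π (emb ι ta) (op ρ π (emb ι tb) v) := by
  obtain ⟨⟨sa, sb, -⟩, -⟩ := quad_tables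
  rw [map_mul]
  exact op_mul_apply ρ hπ hp0 ((sign_emb ι _).trans sa) ((sign_emb ι _).trans sb) v

include hπ hp0 in
theorem op_ba (ι : Fin 4 ↪ X) (v : V) :
    op ρ π (emb ι ta) (op ρ π (emb ι tb) v) = op ρ π (emb ι tb) (op ρ π (emb ι ta) v) := by
  obtain ⟨⟨sa, sb, -, -, -, -, e⟩, -⟩ := quad_tables
  rw [← op_ab ρ hπ hp0, e, map_mul]
  exact op_mul_apply ρ hπ hp0 ((sign_emb ι _).trans sb) ((sign_emb ι _).trans sa) v

include hπ hp0 in
theorem op_sq {σ : Perm X} (hσ : Perm.sign σ = 1) (h : σ * σ = 1) (v : V) :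
    op ρ π σ (op ρ π σ v) = v := by
  rw [← op_mul_apply ρ hπ hp0 hσ hσ, h, op_one ρ hp0]; rfl

include hπ hp0 in
theorem qW_one {ι : Fin 4 ↪ X} {v : V} :
    v ∈ qW ρ π (rl ι tc) ↔ op ρ π (emb ι tb) v = v ∧ op ρ π (emb ι ta) v = -v := by
  obtain ⟨-, e1, e2, -⟩ := quad_tables
  rw [Submodule.mem_inf, mem_peig, mem_peig, emb_rl, emb_rl, e1, e2, one_smul, neg_one_smul,
    op_ab ρ hπ hp0]
  constructor
  · rintro ⟨h, h'⟩; exact ⟨h, by rwa [h] at h'⟩
  · rintro ⟨h, h'⟩; exact ⟨h, by rw [h, h']⟩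

include hπ hp0 in
theorem qW_two {ι : Fin 4 ↪ X} {v : V} :
    v ∈ qW ρ π (rl ι (tc * tc)) ↔ op ρ π (emb ι tb) v = -v ∧ op ρ π (emb ι ta) v = -v := by
  obtain ⟨-, -, -, e1, e2, -⟩ := quad_tables
  rw [Submodule.mem_inf, mem_peig, mem_peig, emb_rl, emb_rl, e1, e2, one_smul, neg_one_smul,
    op_ab ρ hπ hp0, op_ba ρ hπ hp0]
  constructor
  · rintro ⟨h, h'⟩
    refine ⟨?_, h'⟩
    rw [h', map_neg] at h
    exact neg_eq_iff_eq_neg.1 h
  · rintro ⟨h, h'⟩
    exact ⟨by rw [h', map_neg, h, neg_neg], h'⟩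

include hπ hp0 h2 in
/-- The negated vectors of the first involution split. -/
theorem qneg_split (ι : Fin 4 ↪ X) {v : V} (hv : op ρ π (emb ι ta) v = -v) :
    ∃ x ∈ qW ρ π (rl ι tc), ∃ y ∈ qW ρ π (rl ι (tc * tc)), x + y = v ∧
      x = (2 : k)⁻¹ • (v + op ρ π (emb ι tb) v) := by
  obtain ⟨⟨sa, sb, -, -, -, hbb, -⟩, -⟩ := quad_tables
  have hb2 : ∀ w, op ρ π (emb ι tb) (op ρ π (emb ι tb) w) = w :=
    op_sq ρ hπ hp0 ((sign_emb ι _).trans sb) (by rw [← map_mul, hbb, map_one])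
  refine ⟨(2 : k)⁻¹ • (v + op ρ π (emb ι tb) v), (qW_one ρ hπ hp0).2 ⟨?_, ?_⟩,
    (2 : k)⁻¹ • (v - op ρ π (emb ι tb) v), (qW_two ρ hπ hp0).2 ⟨?_, ?_⟩, ?_, rfl⟩
  · rw [map_smul, map_add, hb2, add_comm]
  · rw [map_smul, map_add, op_ba ρ hπ hp0, hv, map_neg, ← smul_neg, neg_add]
  · rw [map_smul, map_sub, hb2, ← smul_neg, neg_sub]
  · rw [map_smul, map_sub, op_ba ρ hπ hp0, hv, map_neg, ← smul_neg]; congr 1; abel
  · rw [← smul_add, show v + op ρ π (emb ι tb) v + (v - op ρ π (emb ι tb) v) = (2 : k) • v by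
      rw [two_smul]; abel, smul_smul, inv_mul_cancel₀ h2, one_smul]

include hπ hp0 h2 in
/-- Every vector splits along a quad. -/
theorem qsplit (ι : Fin 4 ↪ X) (v : V) : ∃ f ∈ qF ρ π ι, ∃ a ∈ qW ρ π ι,
    ∃ x ∈ qW ρ π (rl ι tc), ∃ y ∈ qW ρ π (rl ι (tc * tc)), f + a + (x + y) = v := by
  obtain ⟨⟨sa, sb, -, -, haa, hbb, -⟩, -⟩ := quad_tables
  have ha2 : ∀ w, op ρ π (emb ι ta) (op ρ π (emb ι ta) w) = w :=
    op_sq ρ hπ hp0 ((sign_emb ι _).trans sa) (by rw [← map_mul, haa, map_one])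
  have hb2 : ∀ w, op ρ π (emb ι tb) (op ρ π (emb ι tb) w) = w :=
    op_sq ρ hπ hp0 ((sign_emb ι _).trans sb) (by rw [← map_mul, hbb, map_one])
  set A := op ρ π (emb ι ta)
  set B := op ρ π (emb ι tb)
  have hAB : ∀ w, A (B w) = B (A w) := op_ba ρ hπ hp0 ι
  obtain ⟨x, hx, y, hy, e, -⟩ := qneg_split ρ hπ hp0 h2 ι (v := (2 : k)⁻¹ • (v - A v))
    (by rw [map_smul, map_sub, ha2, ← smul_neg, neg_sub])
  set p := (2 : k)⁻¹ • (v + A v) with hp
  have hAp : A p = p := by rw [hp, map_smul, map_add, ha2, add_comm]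
  refine ⟨(2 : k)⁻¹ • (p + B p), ⟨?_, ?_⟩, (2 : k)⁻¹ • (p - B p), ⟨?_, ?_⟩, x, hx, y, hy, ?_⟩
  · refine (mem_peig ρ).2 ?_
    rw [one_smul, map_smul, map_add, hAB, hAp]
  · refine (mem_peig ρ).2 ?_
    rw [one_smul, map_smul, map_add, hb2, add_comm]
  · refine (mem_peig ρ).2 ?_
    rw [one_smul, map_smul, map_sub, hAB, hAp]
  · refine (mem_peig ρ).2 ?_
    rw [neg_one_smul, map_smul, map_sub, hb2, ← smul_neg, neg_sub]
  · rw [e, ← smul_add, show p + B p + (p - B p) = (2 : k) • p by rw [two_smul]; abel, smul_smul,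
      inv_mul_cancel₀ h2, one_smul, hp, ← smul_add,
      show v + A v + (v - A v) = (2 : k) • v by rw [two_smul]; abel, smul_smul,
      inv_mul_cancel₀ h2, one_smul]

include hπ hp0 h9 in
/-- All line spaces have the same dimension. -/
theorem qW_dim (ι ι' : Fin 4 ↪ X) : finrank k (qW ρ π ι) = finrank k (qW ρ π ι') := by
  obtain ⟨⟨sa, sb, -⟩, -⟩ := quad_tables
  suffices ∀ ι ι' : Fin 4 ↪ X, finrank k (qW ρ π ι) ≤ finrank k (qW ρ π ι') from
    le_antisymm (this _ _) (this _ _)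
  intro ι ι'
  obtain ⟨σ, hσ, hσι⟩ := exists_even_map ι ι' (by omega)
  exact LinearMap.finrank_le_finrank_of_injective
    (f := (op ρ π σ).restrict (p := qW ρ π ι) (q := qW ρ π ι') fun v hv =>
      ⟨op_peig ρ hπ hp0 hσ ((sign_emb ι _).trans sa) (emb_conj hσι _) hv.1,
        op_peig ρ hπ hp0 hσ ((sign_emb ι _).trans sb) (emb_conj hσι _) hv.2⟩)
    fun v w hvw => Subtype.ext (op_inj ρ hπ hp0 hσ (congrArg Subtype.val hvw))

theorem eq_zero_of_neg (h2 : (2 : k) ≠ 0) {v : V} (h : v = -v) : v = 0 :=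
  (smul_eq_zero.1 (show (2 : k) • v = 0 by rw [two_smul]; exact add_eq_zero_iff_eq_neg.2 h)
    ).resolve_left h2

include hπ hp0 h2 h9 in
/-- The counting bound for a quad. -/
theorem qcount (ι : Fin 4 ↪ X) :
    finrank k (qF ρ π ι) + 3 * finrank k (qW ρ π ι) ≤ finrank k V := by
  set A := peig ρ π (emb ι ta) (1 : k)
  set B := peig ρ π (emb ι ta) (-1 : k)
  have h1 : finrank k (qF ρ π ι) + finrank k (qW ρ π ι) ≤ finrank k A :=
    disjoint_finrank_add inf_le_left inf_le_left fun v hv hv' => by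
      have e := (mem_peig ρ).1 hv.2
      have e' := (mem_peig ρ).1 hv'.2
      rw [e, one_smul, neg_one_smul] at e'
      exact eq_zero_of_neg h2 e'
  have h3 : finrank k (qW ρ π (rl ι tc)) + finrank k (qW ρ π (rl ι (tc * tc))) ≤ finrank k B :=
    disjoint_finrank_add (fun v hv => (mem_peig ρ).2 (by
        rw [neg_one_smul]; exact ((qW_one ρ hπ hp0).1 hv).2))
      (fun v hv => (mem_peig ρ).2 (by rw [neg_one_smul]; exact ((qW_two ρ hπ hp0).1 hv).2))
      fun v hv hv' => by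
        have e := ((qW_one ρ hπ hp0).1 hv).1
        have e' := ((qW_two ρ hπ hp0).1 hv').1
        rw [e] at e'
        exact eq_zero_of_neg h2 e'
  rw [qW_dim ρ hπ hp0 h9 (rl ι tc) ι, qW_dim ρ hπ hp0 h9 (rl ι (tc * tc)) ι] at h3
  have h4 : finrank k A + finrank k B ≤ finrank k (⊤ : Submodule k V) :=
    disjoint_finrank_add le_top le_top fun v hv hv' => by
      have e := (mem_peig ρ).1 hv
      have e' := (mem_peig ρ).1 hv'
      rw [e, one_smul, neg_one_smul] at e'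
      exact eq_zero_of_neg h2 e'
  rw [finrank_top] at h4
  omega

include hπ hp0 h2 hker h9 in
theorem qW_pos (ι : Fin 4 ↪ X) : 0 < finrank k (qW ρ π ι) := by
  rw [Nat.pos_iff_ne_zero]
  intro h0
  obtain ⟨⟨sa, -, -, -, haa, -⟩, -⟩ := quad_tables
  obtain ⟨g, hg⟩ := exists_preimage hπ ((sign_emb ι _).trans sa)
  have hbot : ∀ ι' : Fin 4 ↪ X, qW ρ π ι' = ⊥ := fun ι' =>
    Submodule.finrank_eq_zero.1 ((qW_dim ρ hπ hp0 h9 ι' ι).trans h0)
  have h1 : ρ g = 1 := by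
    ext v
    obtain ⟨f, hf, a, ha, x, hx, y, hy, e⟩ := qsplit ρ hπ hp0 h2 ι v
    rw [hbot, Submodule.mem_bot] at ha hx hy
    rw [ha, hx, hy, add_zero, add_zero, add_zero] at e
    rw [← op_eq ρ hp0 hg, ← e, Module.End.one_apply]
    exact ((mem_peig ρ).1 hf.1).trans (one_smul k f)
  have := hker g h1
  rw [hg] at this
  exact absurd (emb_injective ι (this.trans (map_one _).symm)) (by decide)

include hπ hp0 in
theorem qW_invariant (ι : Fin 4 ↪ X) :
    ∀ g ∈ fixPre π (pts ι), ∀ v ∈ qW ρ π ι, ρ g v ∈ qW ρ π ι := by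
  obtain ⟨⟨sa, sb, -⟩, -⟩ := quad_tables
  intro g hg v hv
  rw [← op_eq ρ hp0 (rfl : π g = π g)]
  exact ⟨op_peig ρ hπ hp0 hg.1 ((sign_emb ι _).trans sa)
      (fix_comm hg.2 fun x hx => emb_fix_pts ι _ hx) hv.1,
    op_peig ρ hπ hp0 hg.1 ((sign_emb ι _).trans sb)
      (fix_comm hg.2 fun x hx => emb_fix_pts ι _ hx) hv.2⟩

include hπ hp0 h2 in
/-- A quad acting nontrivially on an invariant subspace gives three dimensions. -/
theorem qthree {S : Finset X} (U : Submodule k V)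
    (hU : ∀ g ∈ fixPre π S, ∀ v ∈ U, ρ g v ∈ U) (ι : Fin 4 ↪ X) (hι : ∀ i, ι i ∉ S)
    (hne : ∃ v ∈ U, op ρ π (emb ι ta) v ≠ v) : 3 ≤ finrank k U := by
  obtain ⟨⟨sa, sb, -, sc, haa, -⟩, -⟩ := quad_tables
  have hUop : ∀ p : Perm (Fin 4), Perm.sign p = 1 → ∀ v ∈ U, op ρ π (emb ι p) v ∈ U := by
    intro p hp v hv
    obtain ⟨g, hg⟩ := exists_preimage hπ ((sign_emb ι p).trans hp)
    rw [op_eq ρ hp0 hg]
    exact hU g (by rw [fixPre_mem, hg]; exact emb_mem_fixGrp hp hι) v hv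
  obtain ⟨v, hv, hv1⟩ := hne
  set w := v - op ρ π (emb ι ta) v with hw
  have hwU : w ∈ U := U.sub_mem hv (hUop _ sa v hv)
  have hw0 : w ≠ 0 := sub_ne_zero.2 (Ne.symm hv1)
  obtain ⟨x, hx, y, hy, e, ex⟩ := qneg_split ρ hπ hp0 h2 ι (v := w) (by
    rw [hw, map_sub, op_sq ρ hπ hp0 ((sign_emb ι _).trans sa) (by rw [← map_mul, haa, map_one]),
      neg_sub])
  have hxU : x ∈ U := ex ▸ U.smul_mem _ (U.add_mem hwU (hUop _ sb w hwU))
  have hyU : y ∈ U := by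
    have := U.sub_mem hwU hxU
    rwa [← e, add_sub_cancel_left] at this
  -- a nonzero vector in one of the three spaces gives one in each
  let P : Perm (Fin 4) → Prop := fun c => ∃ z ∈ U, z ≠ 0 ∧ z ∈ qW ρ π (rl ι c)
  have hstep : ∀ c c', tc * c = c' → P c → P c' := by
    rintro c _ rfl ⟨z, hzU, hz0, hz⟩
    refine ⟨op ρ π (emb ι tc) z, hUop _ sc z hzU,
      fun h => hz0 (op_inj ρ hπ hp0 ((sign_emb ι _).trans sc) (h.trans (map_zero _).symm)), ?_⟩
    have e : ∀ i, emb ι tc (rl ι c i) = rl ι (tc * c) i := fun i => emb_apply ι tc (c i)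
    exact ⟨op_peig ρ hπ hp0 ((sign_emb ι _).trans sc) ((sign_emb _ _).trans sa) (emb_conj e _) hz.1,
      op_peig ρ hπ hp0 ((sign_emb ι _).trans sc) ((sign_emb _ _).trans sb) (emb_conj e _) hz.2⟩
  obtain ⟨h1, h2', h3⟩ : P 1 ∧ P tc ∧ P (tc * tc) := by
    have key : P tc ∨ P (tc * tc) := by
      by_cases hx0 : x = 0
      · refine Or.inr ⟨y, hyU, ?_, hy⟩
        rintro rfl
        exact hw0 (by rw [← e, hx0, add_zero])
      · exact Or.inl ⟨x, hxU, hx0, hx⟩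
    rcases key with h | h
    · exact ⟨hstep (tc * tc) 1 (by decide) (hstep _ _ rfl h), h, hstep _ _ rfl h⟩
    · have h0 := hstep (tc * tc) 1 (by decide) h
      exact ⟨h0, hstep 1 tc (by decide) h0, h⟩
  have hrl1 : rl ι 1 = ι := by ext i; rfl
  have hpos : ∀ c, P c → 1 ≤ finrank k (U ⊓ qW ρ π (rl ι c) : Submodule k V) := fun c hc => by
    obtain ⟨z, hzU, hz0, hz⟩ := hc
    exact Submodule.one_le_finrank_iff.2 ((Submodule.ne_bot_iff _).2 ⟨z, ⟨hzU, hz⟩, hz0⟩)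
  have e1 := hpos _ h1
  rw [hrl1] at e1
  have e23 : finrank k (U ⊓ qW ρ π (rl ι tc) : Submodule k V) +
      finrank k (U ⊓ qW ρ π (rl ι (tc * tc)) : Submodule k V) ≤
      finrank k (U ⊓ peig ρ π (emb ι ta) (-1) : Submodule k V) :=
    disjoint_finrank_add (fun z hz => ⟨hz.1, (mem_peig ρ).2 (by
        rw [neg_one_smul]; exact ((qW_one ρ hπ hp0).1 hz.2).2)⟩)
      (fun z hz => ⟨hz.1, (mem_peig ρ).2 (by
        rw [neg_one_smul]; exact ((qW_two ρ hπ hp0).1 hz.2).2)⟩)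
      fun z hz hz' => by
        have a := ((qW_one ρ hπ hp0).1 hz.2).1
        have b := ((qW_two ρ hπ hp0).1 hz'.2).1
        rw [a] at b
        exact eq_zero_of_neg h2 b
  have e4 : finrank k (U ⊓ qW ρ π ι : Submodule k V) +
      finrank k (U ⊓ peig ρ π (emb ι ta) (-1) : Submodule k V) ≤ finrank k U :=
    disjoint_finrank_add inf_le_left inf_le_left fun z hz hz' => by
      have a := (mem_peig ρ).1 hz.2.1
      have b := (mem_peig ρ).1 hz'.2
      rw [a, one_smul, neg_one_smul] at b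
      exact eq_zero_of_neg h2 b
  have := hpos _ h2'
  have := hpos _ h3
  omega

end CfsgLib.AltGL
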