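/-
Alternating groups in odd or zero characteristic: triviality outside a quad and lines of pairs.
-/
import Mathlib
import Cfsg.Agent.Lib.Known.AltGL.Quads

set_option autoImplicit false
set_option linter.unusedSectionVars false

namespace CfsgLib.AltGL

open Equiv Module

variable {k : Type} [Field k] [IsAlgClosed k] {V : Type} [AddCommGroup V] [Module k V]
  [FiniteDimensional k V] {Γ : Type} [Group Γ] [Finite Γ] (ρ : Representation k Γ V)
  {X : Type} [Fintype X] [DecidableEq X] {π : Γ →* Perm X} {p n : ℕ} [CharP k p]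

variable (hπ : π.range = alternatingGroup X) (hp0 : ∀ g, π g = 1 → ρ g = 1) (h2 : (2 : k) ≠ 0)
  (hker : ∀ g, ρ g = 1 → π g = 1) (h9 : 9 ≤ Fintype.card X) (hp : p.Prime)
  (hrec : BoundBelow n) (hn : finrank k V = n) (hsmall : n + 2 ≤ Fintype.card X)

include hπ hp0 h2 hker h9 hp hrec hn hsmall in
/-- The fixer of a quad fixes its line space. -/
theorem qtriv (ι : Fin 4 ↪ X) :
    ∀ σ ∈ fixGrp (pts ι), ∀ v ∈ qW ρ π ι, op ρ π σ v = v := by
  have hcS := card_pts ι
  have hcnt := qcount ρ hπ hp0 h2 h9 ι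
  have hpos := qW_pos ρ hπ hp0 h2 hker h9 ι
  have hU := qW_invariant ρ hπ hp0 ι
  set U := qW ρ π ι
  rcases dichotomy ρ π hπ (pts ι) (by omega) U hU with hl | hr
  swap
  · intro σ hσ v hv
    obtain ⟨g, hg, hgv⟩ := hr σ hσ
    rw [op_eq ρ hp0 hg]
    exact hgv v hv
  exfalso
  by_cases h13 : 13 ≤ Fintype.card X
  · have := sub_bound ρ π hp hrec hπ (pts ι) (by omega) U hU (by omega) hl
    have := bnd_bounds p (Fintype.card X - (pts ι).card)
    omega
  by_cases h11 : 11 ≤ Fintype.card X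
  · have hs : Sgn ρ π := fun g hg => Or.inl (hp0 g hg)
    obtain ⟨ι', hι'⟩ := exists_pts (pts ι) 7 (by omega)
    by_cases h5 : p = 5
    · have h3 : ((3 : ℕ) : k) ≠ 0 := fun e => by
        have := (Nat.prime_dvd_prime_iff_eq hp Nat.prime_three).1 ((CharP.cast_eq_zero_iff k p 3).1 e)
        omega
      set ι6 : Fin 6 ↪ X := (Fin.castLEEmb (by norm_num : 6 ≤ 7)).trans ι'
      obtain ⟨g, hg⟩ := exists_lift ρ hπ hs (l := 3) ⟨1, rfl⟩
        (σ := emb ι6 (swap 0 1 * swap 1 2)) ((sign_emb _ _).trans (by decide)) (by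
          rw [← map_pow, show (swap 0 1 * swap 1 2 : Perm (Fin 6)) ^ (2 * 1 + 1) = 1 by
            decide +kernel, map_one])
      have h6 : ∀ i, ι6 i ∉ pts ι := fun i => hι' _
      have := six_bound ρ hπ hs h3 ι6 h6 U hU hg (by
        by_contra hcon
        push Not at hcon
        have := hl g (by rw [fixPre_mem, hg.map]; exact emb_mem_fixGrp (by decide) h6) hcon
        rw [hg.map] at this
        exact absurd (emb_injective ι6 (this.trans (map_one _).symm)) (by decide))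
      omega
    · have h5' : ((5 : ℕ) : k) ≠ 0 := fun e =>
        h5 ((Nat.prime_dvd_prime_iff_eq hp (by norm_num)).1 ((CharP.cast_eq_zero_iff k p 5).1 e))
      haveI : Fact (Nat.Prime 5) := ⟨by norm_num⟩
      obtain ⟨⟨g, hg⟩, ⟨h, hh⟩⟩ := exists_lift ρ hπ hs (l := 5) ⟨2, rfl⟩ (σ := emb ι' s5)
          ((sign_emb _ _).trans cyc5.sgn) (by rw [← map_pow, cyc5.pow, map_one]),
        exists_preimage hπ (σ := emb ι' (swap 1 2 * swap 2 4 * swap 4 3 * swap 5 6))
          ((sign_emb _ _).trans cyc5.sgnq)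
      have hgm : g ∈ fixPre π (pts ι) := by
        rw [fixPre_mem, hg.map]; exact emb_mem_fixGrp cyc5.sgn hι'
      have hhm : h ∈ fixPre π (pts ι) := by
        rw [fixPre_mem, hh]; exact emb_mem_fixGrp cyc5.sgnq hι'
      let ρU := subRep ρ _ U hU
      have hsU : Sgn ρU (π.comp (fixPre π (pts ι)).subtype) := fun x hx => Or.inl (by
        ext v
        exact LinearMap.congr_fun (hp0 x.1 hx) v.1)
      have hgU : IsLift ρU (π.comp (fixPre π (pts ι)).subtype) 5 (emb ι' s5) ⟨g, hgm⟩ :=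
        ⟨hg.map, by ext v; exact LinearMap.congr_fun hg.pow v.1⟩
      obtain ⟨lam, hlam, h1, he⟩ := exists_eig_top ρU h5' hgU.pow (fun e => by
        have := hl g hgm fun v hv => congrArg Subtype.val (LinearMap.congr_fun e ⟨v, hv⟩)
        rw [hg.map] at this
        exact absurd (emb_injective ι' (this.trans (map_one _).symm)) cyc5.ne)
      obtain ⟨b, -, hb⟩ := cyc5.inv
      have := count_eig ρU hsU ⟨2, rfl⟩ hgU (h := ⟨h, hhm⟩)
        (show π h * emb ι' s5 * (π h)⁻¹ = emb ι' s5 ^ 2 by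
          rw [hh, ← map_inv, ← map_mul, ← map_mul, cyc5.conj, map_pow]) cyc5.gen ⟨b, hb⟩ hlam h1
      have : 0 < finrank k (eig ρU ⟨g, hgm⟩ lam) := Submodule.one_le_finrank_iff.2 he
      omega
  · obtain ⟨ι', hι'⟩ := exists_pts (pts ι) 4 (by omega)
    obtain ⟨g, hg⟩ := exists_preimage hπ (σ := emb ι' ta) ((sign_emb _ _).trans (by decide))
    have := qthree ρ hπ hp0 h2 U hU ι' hι' (by
      by_contra hcon
      push Not at hcon
      have := hl g (by rw [fixPre_mem, hg]; exact emb_mem_fixGrp (by decide) hι') (fun v hv => by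
        rw [← op_eq ρ hp0 hg]; exact hcon v hv)
      rw [hg] at this
      exact absurd (emb_injective ι' (this.trans (map_one _).symm)) (by decide))
    omega

include hπ hp0 h2 hker h9 hp hrec hn hsmall in
/-- The fixer of a quad fixes the vectors negated by an involution of the quad. -/
theorem qtriv_neg (ι : Fin 4 ↪ X) {σ : Perm X} (hσ : σ ∈ fixGrp (pts ι)) {v : V}
    (hv : op ρ π (emb ι ta) v = -v) : op ρ π σ v = v := by
  have hpts : ∀ c : Perm (Fin 4), σ ∈ fixGrp (pts (rl ι c)) := fun c =>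
    fixGrp_mono (fun x hx => by
      obtain ⟨i, -, rfl⟩ := Finset.mem_image.1 hx; exact mem_pts (c i)) hσ
  obtain ⟨x, hx, y, hy, e, -⟩ := qneg_split ρ hπ hp0 h2 ι hv
  rw [← e, map_add, qtriv ρ hπ hp0 h2 hker h9 hp hrec hn hsmall _ σ (hpts _) x hx,
    qtriv ρ hπ hp0 h2 hker h9 hp hrec hn hsmall _ σ (hpts _) y hy]

include hπ hp0 h2 hker h9 hp hrec hn hsmall in
/-- The line spaces are lines. -/
theorem qW_one_dim (ι : Fin 4 ↪ X) : finrank k (qW ρ π ι) = 1 := by
  have hcS := card_pts ι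
  have hpos := qW_pos ρ hπ hp0 h2 hker h9 ι
  have hcnt := qcount ρ hπ hp0 h2 h9 ι
  suffices finrank k (qW ρ π ι) ≤ 1 by omega
  obtain ⟨⟨sa, sb, -⟩, -⟩ := quad_tables
  by_cases h13 : 13 ≤ Fintype.card X
  · set F := qF ρ π ι
    have hF : ∀ g ∈ fixPre π (pts ι), ∀ v ∈ F, ρ g v ∈ F := by
      intro g hg v hv
      rw [← op_eq ρ hp0 (rfl : π g = π g)]
      exact ⟨op_peig ρ hπ hp0 hg.1 ((sign_emb ι _).trans sa)
          (fix_comm hg.2 fun x hx => emb_fix_pts ι _ hx) hv.1,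
        op_peig ρ hπ hp0 hg.1 ((sign_emb ι _).trans sb)
          (fix_comm hg.2 fun x hx => emb_fix_pts ι _ hx) hv.2⟩
    have hl : ∀ g ∈ fixPre π (pts ι), (∀ v ∈ F, ρ g v = v) → π g = 1 := by
      intro g hg hgF
      refine hker g (LinearMap.ext fun v => ?_)
      have hpts : ∀ c : Perm (Fin 4), π g ∈ fixGrp (pts (rl ι c)) := fun c =>
        fixGrp_mono (fun x hx => by
          obtain ⟨i, -, rfl⟩ := Finset.mem_image.1 hx; exact mem_pts (c i)) hg
      have hq : ∀ ι' : Fin 4 ↪ X, π g ∈ fixGrp (pts ι') → ∀ w ∈ qW ρ π ι', ρ g w = w := by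
        intro ι' hm w hw
        rw [← op_eq ρ hp0 (rfl : π g = π g)]
        exact qtriv ρ hπ hp0 h2 hker h9 hp hrec hn hsmall ι' _ hm w hw
      obtain ⟨f, hf, a, ha, x, hx, y, hy, e⟩ := qsplit ρ hπ hp0 h2 ι v
      rw [← e, Module.End.one_apply, map_add, map_add, map_add, hgF f hf, hq ι hg a ha,
        hq _ (hpts _) x hx, hq _ (hpts _) y hy]
    have := sub_bound ρ π hp hrec hπ (pts ι) (by omega) F hF (by omega) hl
    have := bnd_bounds p (Fintype.card X - (pts ι).card)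
    omega
  · obtain ⟨ι', hι'⟩ := exists_pts (pts ι) 4 (by omega)
    have hm : ∀ p : Perm (Fin 4), Perm.sign p = 1 → emb ι p ∈ fixGrp (pts ι') := fun p hp =>
      emb_mem_fixGrp hp fun i hi => by
        obtain ⟨j, -, e⟩ := Finset.mem_image.1 hi
        exact hι' j (e ▸ mem_pts i)
    have hin : ∀ c, ∀ v ∈ qW ρ π (rl ι' c), v ∈ qF ρ π ι := by
      intro c v hv
      have hm' : ∀ p : Perm (Fin 4), Perm.sign p = 1 → emb ι p ∈ fixGrp (pts (rl ι' c)) := fun p hp =>
        fixGrp_mono (fun x hx => by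
          obtain ⟨i, -, rfl⟩ := Finset.mem_image.1 hx; exact mem_pts (c i)) (hm p hp)
      exact ⟨(mem_peig ρ).2 ((qtriv ρ hπ hp0 h2 hker h9 hp hrec hn hsmall _ _ (hm' _ sa) v hv).trans
          (one_smul k v).symm),
        (mem_peig ρ).2 ((qtriv ρ hπ hp0 h2 hker h9 hp hrec hn hsmall _ _ (hm' _ sb) v hv).trans
          (one_smul k v).symm)⟩
    have hrl1 : rl ι' 1 = ι' := by ext i; rfl
    have a1 : finrank k (qW ρ π (rl ι' tc)) + finrank k (qW ρ π (rl ι' (tc * tc))) ≤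
        finrank k (qF ρ π ι ⊓ peig ρ π (emb ι' ta) (-1) : Submodule k V) :=
      disjoint_finrank_add (fun v hv => ⟨hin _ v hv, (mem_peig ρ).2 (by
          rw [neg_one_smul]; exact ((qW_one ρ hπ hp0).1 hv).2)⟩)
        (fun v hv => ⟨hin _ v hv, (mem_peig ρ).2 (by
          rw [neg_one_smul]; exact ((qW_two ρ hπ hp0).1 hv).2)⟩)
        fun v hv hv' => by
          have a := ((qW_one ρ hπ hp0).1 hv).1
          have b := ((qW_two ρ hπ hp0).1 hv').1
          rw [a] at b
          exact eq_zero_of_neg h2 b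
    have a2 : finrank k (qW ρ π ι') +
        finrank k (qF ρ π ι ⊓ peig ρ π (emb ι' ta) (-1) : Submodule k V) ≤
        finrank k (qF ρ π ι) :=
      disjoint_finrank_add (fun v hv => hin 1 v (hrl1.symm ▸ hv)) inf_le_left fun v hv hv' => by
        have a := (mem_peig ρ).1 hv.1
        have b := (mem_peig ρ).1 hv'.2
        rw [a, one_smul, neg_one_smul] at b
        exact eq_zero_of_neg h2 b
    rw [qW_dim ρ hπ hp0 h9 ι' ι] at a2
    rw [qW_dim ρ hπ hp0 h9 (rl ι' tc) ι, qW_dim ρ hπ hp0 h9 (rl ι' (tc * tc)) ι] at a1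
    omega

/-- The vectors negated by all involutions exchanging two given points. -/
noncomputable def qNeg (π : Γ →* Perm X) (a b : X) : Submodule k V :=
  ⨅ (x : X) (y : X) (_ : x ≠ y ∧ x ∉ ({a, b} : Finset X) ∧ y ∉ ({a, b} : Finset X)),
    peig ρ π (swap a b * swap x y) (-1)

theorem mem_qNeg {a b : X} {v : V} : v ∈ qNeg ρ π a b ↔ ∀ x y, x ≠ y →
    x ∉ ({a, b} : Finset X) → y ∉ ({a, b} : Finset X) →
      op ρ π (swap a b * swap x y) v = -v := by
  simp [qNeg, Submodule.mem_iInf, neg_one_smul, and_imp]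

theorem quad_emb (ι : Fin 4 ↪ X) : emb ι ta = swap (ι 0) (ι 1) * swap (ι 2) (ι 3) := by
  rw [map_mul, emb_swap, emb_swap]

theorem sign_two {a b x y : X} (h : a ≠ b) (h' : x ≠ y) :
    Perm.sign (swap a b * swap x y) = 1 := by
  rw [map_mul, Perm.sign_swap h, Perm.sign_swap h']; rfl

include hπ hp0 in
theorem op_conj_neg {σ τ τ' : Perm X} (hσ : Perm.sign σ = 1) (hτ : Perm.sign τ = 1)
    (e : σ * τ * σ⁻¹ = τ') {v : V} (h : op ρ π σ v = v) (hv : op ρ π τ v = -v) :
    op ρ π τ' v = -v := by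
  have := (mem_peig ρ).1 (op_peig ρ hπ hp0 hσ hτ e (c := -1) ((mem_peig ρ).2 (hv.trans
    (neg_one_smul k v).symm)))
  rwa [h, neg_one_smul] at this

set_option maxHeartbeats 400000 in
include hπ hp0 h2 hker h9 hp hrec hn hsmall in
/-- Two negations spread to all pairs of further points. -/
theorem mem_qNeg_of (ι : Fin 6 ↪ X) {v : V}
    (h1 : op ρ π (swap (ι 0) (ι 1) * swap (ι 2) (ι 3)) v = -v)
    (h3 : op ρ π (swap (ι 0) (ι 1) * swap (ι 4) (ι 5)) v = -v) :
    v ∈ qNeg ρ π (ι 0) (ι 1) := by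
  have hfix : ∀ (j : Fin 4 ↪ Fin 6), op ρ π (swap (ι (j 0)) (ι (j 1)) * swap (ι (j 2)) (ι (j 3))) v
      = -v → ∀ σ : Perm X, Perm.sign σ = 1 → (∀ i, σ (ι (j i)) = ι (j i)) → op ρ π σ v = v := by
    intro j hj σ hσ hσf
    refine qtriv_neg ρ hπ hp0 h2 hker h9 hp hrec hn hsmall (j.trans ι) ⟨hσ, fun x hx => ?_⟩ ?_
    · obtain ⟨i, -, rfl⟩ := Finset.mem_image.1 hx; exact hσf i
    · rw [quad_emb]; exact hj
  let jA : Fin 4 ↪ Fin 6 := ⟨![0, 1, 4, 5], by decide⟩
  let jB : Fin 4 ↪ Fin 6 := ⟨![0, 1, 2, 3], by decide⟩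
  have hA := hfix jA h3
  have hB := hfix jB h1
  rw [mem_qNeg]
  intro x y hxy hx hy
  simp only [Finset.mem_insert, Finset.mem_singleton, not_or] at hx hy
  have hne : ι 0 ≠ ι 1 := ι.injective.ne (by decide)
  -- moving one pair, fixing the other
  have caseA : ∀ x y, x ≠ y → x ∉ pts (jA.trans ι) → y ∉ pts (jA.trans ι) →
      op ρ π (swap (ι 0) (ι 1) * swap x y) v = -v := by
    intro x y hxy hx hy
    simp only [pts, Finset.mem_image, Finset.mem_univ, true_and, not_exists,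
      Function.Embedding.trans_apply] at hx hy
    let t : Fin 6 ↪ X := ⟨![ι 0, ι 1, x, y, ι 4, ι 5], by
      simp only [jA, Fin.forall_fin_succ, Function.Embedding.coeFn_mk, Matrix.cons_val_zero,
        Matrix.cons_val_succ, Matrix.cons_val_fin_one] at hx hy
      obtain ⟨x0, x1, x2, x3, -⟩ := hx
      obtain ⟨y0, y1, y2, y3, -⟩ := hy
      intro a b
      fin_cases a <;> fin_cases b <;>
        simp [ι.injective.eq_iff, x0, x1, x2, x3, y0, y1, y2, y3, hxy, Ne.symm x0, Ne.symm x1,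
          Ne.symm x2, Ne.symm x3, Ne.symm y0, Ne.symm y1, Ne.symm y2, Ne.symm y3, Ne.symm hxy]⟩
    obtain ⟨σ, hσ, hσt⟩ := exists_even_map ι t (by omega)
    refine op_conj_neg ρ hπ hp0 hσ (sign_two hne (ι.injective.ne (by decide))) ?_
      (hA σ hσ fun i => by fin_cases i <;> [exact hσt 0; exact hσt 1; exact hσt 4; exact hσt 5]) h1
    calc σ * (swap (ι 0) (ι 1) * swap (ι 2) (ι 3)) * σ⁻¹
        = (σ * swap (ι 0) (ι 1) * σ⁻¹) * (σ * swap (ι 2) (ι 3) * σ⁻¹) := by group
      _ = _ := by rw [← swap_apply_apply, ← swap_apply_apply, hσt 0, hσt 1, hσt 2, hσt 3]; rfl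
  have caseB : ∀ x y, x ≠ y → x ∉ pts (jB.trans ι) → y ∉ pts (jB.trans ι) →
      op ρ π (swap (ι 0) (ι 1) * swap x y) v = -v := by
    intro x y hxy hx hy
    simp only [pts, Finset.mem_image, Finset.mem_univ, true_and, not_exists,
      Function.Embedding.trans_apply] at hx hy
    let t : Fin 6 ↪ X := ⟨![ι 0, ι 1, ι 2, ι 3, x, y], by
      simp only [jB, Fin.forall_fin_succ, Function.Embedding.coeFn_mk, Matrix.cons_val_zero,
        Matrix.cons_val_succ, Matrix.cons_val_fin_one] at hx hy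
      obtain ⟨x0, x1, x2, x3, -⟩ := hx
      obtain ⟨y0, y1, y2, y3, -⟩ := hy
      intro a b
      fin_cases a <;> fin_cases b <;>
        simp [ι.injective.eq_iff, x0, x1, x2, x3, y0, y1, y2, y3, hxy, Ne.symm x0, Ne.symm x1,
          Ne.symm x2, Ne.symm x3, Ne.symm y0, Ne.symm y1, Ne.symm y2, Ne.symm y3, Ne.symm hxy]⟩
    obtain ⟨σ, hσ, hσt⟩ := exists_even_map ι t (by omega)
    refine op_conj_neg ρ hπ hp0 hσ (sign_two hne (ι.injective.ne (by decide))) ?_
      (hB σ hσ fun i => by fin_cases i <;> [exact hσt 0; exact hσt 1; exact hσt 2; exact hσt 3]) h3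
    calc σ * (swap (ι 0) (ι 1) * swap (ι 4) (ι 5)) * σ⁻¹
        = (σ * swap (ι 0) (ι 1) * σ⁻¹) * (σ * swap (ι 4) (ι 5) * σ⁻¹) := by group
      _ = _ := by rw [← swap_apply_apply, ← swap_apply_apply, hσt 0, hσt 1, hσt 4, hσt 5]; rfl
  -- the mixed pairs
  have mixed : ∀ x y, (x = ι 2 ∨ x = ι 3) → (y = ι 4 ∨ y = ι 5) →
      op ρ π (swap (ι 0) (ι 1) * swap x y) v = -v := by
    intro x y hx hy
    obtain ⟨z, hz⟩ := exists_pts (pts ι) 1 (by rw [card_pts]; omega)
    have hzi : ∀ i, z 0 ≠ ι i := fun i e => hz 0 (e ▸ mem_pts i)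
    have hxn : x ∉ pts (jA.trans ι) := by
      rcases hx with rfl | rfl <;> simp [pts, Fin.exists_fin_succ, jA, ι.injective.eq_iff]
    have hxz : x ≠ z 0 := by rcases hx with rfl | rfl <;> exact (hzi _).symm
    have hzn : z 0 ∉ pts (jA.trans ι) := fun h => by
      obtain ⟨i, -, e⟩ := Finset.mem_image.1 h; exact hzi _ e.symm
    let s : Fin 5 ↪ X := ⟨![ι 0, ι 1, ι 2, ι 3, z 0], by
      have := hzi 0; have := hzi 1; have := hzi 2; have := hzi 3
      intro a b
      fin_cases a <;> fin_cases b <;>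
        simp [ι.injective.eq_iff, hzi, fun i => (hzi i).symm]⟩
    have hyi : ∀ i : Fin 6, i.val < 4 → y ≠ ι i := fun i hi => by
      rcases hy with rfl | rfl <;> refine ι.injective.ne ?_ <;> rintro rfl <;> simp at hi
    let t : Fin 5 ↪ X := ⟨![ι 0, ι 1, ι 2, ι 3, y], by
      intro a b
      fin_cases a <;> fin_cases b <;>
        simp [ι.injective.eq_iff, hyi 0 (by decide), hyi 1 (by decide), hyi 2 (by decide),
          hyi 3 (by decide), (hyi 0 (by decide)).symm, (hyi 1 (by decide)).symm,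
          (hyi 2 (by decide)).symm, (hyi 3 (by decide)).symm]⟩
    obtain ⟨σ, hσ, hσt⟩ := exists_even_map s t (by omega)
    have hsx : σ x = x := by rcases hx with rfl | rfl <;> [exact hσt 2; exact hσt 3]
    refine op_conj_neg ρ hπ hp0 hσ (sign_two hne hxz) ?_
      (hB σ hσ fun i => by fin_cases i <;> [exact hσt 0; exact hσt 1; exact hσt 2; exact hσt 3])
      (caseA x (z 0) hxz hxn hzn)
    calc σ * (swap (ι 0) (ι 1) * swap x (z 0)) * σ⁻¹
        = (σ * swap (ι 0) (ι 1) * σ⁻¹) * (σ * swap x (z 0) * σ⁻¹) := by group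
      _ = _ := by
        rw [← swap_apply_apply, ← swap_apply_apply, show σ (ι 0) = ι 0 from hσt 0,
          show σ (ι 1) = ι 1 from hσt 1, hsx, show σ (z 0) = y from hσt 4]
  by_cases hAA : x ∉ pts (jA.trans ι) ∧ y ∉ pts (jA.trans ι)
  · exact caseA x y hxy hAA.1 hAA.2
  by_cases hBB : x ∉ pts (jB.trans ι) ∧ y ∉ pts (jB.trans ι)
  · exact caseB x y hxy hBB.1 hBB.2
  have hAp : ∀ z, z ≠ ι 0 → z ≠ ι 1 → z ∈ pts (jA.trans ι) → z = ι 4 ∨ z = ι 5 := by
    intro z h0 h1 hz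
    obtain ⟨i, -, rfl⟩ := Finset.mem_image.1 hz
    fin_cases i
    · exact absurd rfl h0
    · exact absurd rfl h1
    · exact Or.inl rfl
    · exact Or.inr rfl
  have hBp : ∀ z, z ≠ ι 0 → z ≠ ι 1 → z ∈ pts (jB.trans ι) → z = ι 2 ∨ z = ι 3 := by
    intro z h0 h1 hz
    obtain ⟨i, -, rfl⟩ := Finset.mem_image.1 hz
    fin_cases i
    · exact absurd rfl h0
    · exact absurd rfl h1
    · exact Or.inl rfl
    · exact Or.inr rfl
  rw [not_and_or, not_not, not_not] at hAA hBB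
  rcases hAA with ha | ha <;> rcases hBB with hb | hb
  · rcases hAp x hx.1 hx.2 ha with h | h <;> rcases hBp x hx.1 hx.2 hb with h' | h' <;>
      exact absurd (h.symm.trans h') (ι.injective.ne (by decide))
  · rw [swap_comm x y]; exact mixed y x (hBp y hy.1 hy.2 hb) (hAp x hx.1 hx.2 ha)
  · exact mixed x y (hBp x hx.1 hx.2 hb) (hAp y hy.1 hy.2 ha)
  · rcases hAp y hy.1 hy.2 ha with h | h <;> rcases hBp y hy.1 hy.2 hb with h' | h' <;>
      exact absurd (h.symm.trans h') (ι.injective.ne (by decide))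

theorem six_of {a b : X} (hab : a ≠ b) (h : 6 ≤ Fintype.card X) :
    ∃ ι : Fin 6 ↪ X, ι 0 = a ∧ ι 1 = b := by
  obtain ⟨g, hg⟩ := exists_extend (pairEmb hab) (show 2 ≤ 6 by norm_num) h
  exact ⟨g, hg 0, hg 1⟩

include hπ hp0 h2 hker h9 hp hrec hn hsmall in
/-- The negated vectors form lines. -/
theorem qNeg_line {a b : X} (hab : a ≠ b) :
    finrank k (qNeg ρ π a b) = 1 := by
  obtain ⟨⟨sa, sb, -⟩, -, -, -, -, ca, cb, cab⟩ := quad_tables
  obtain ⟨ι, rfl, rfl⟩ := six_of hab (by omega)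
  set q : Fin 4 ↪ X := (Fin.castLEEmb (by norm_num : 4 ≤ 6)).trans ι
  set σ := swap (ι 0) (ι 1) * swap (ι 4) (ι 5) with hσdef
  have hσ : Perm.sign σ = 1 := sign_two (ι.injective.ne (by decide)) (ι.injective.ne (by decide))
  have hqa : emb q ta = swap (ι 0) (ι 1) * swap (ι 2) (ι 3) := quad_emb q
  have hσq : ∀ i, σ (q i) = rl q (swap 0 1) i := by
    intro i
    fin_cases i <;> simp [σ, q, swap_apply_def, ι.injective.eq_iff]
  have hconj : ∀ p, σ * emb q p * σ⁻¹ = emb q (swap 0 1 * p * swap 0 1) := fun p => by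
    rw [emb_conj hσq, emb_rl, swap_inv]
  have hdim := qW_one_dim ρ hπ hp0 h2 hker h9 hp hrec hn hsmall
  refine le_antisymm ?_ ?_
  · have hin : ∀ v ∈ qNeg ρ π (ι 0) (ι 1),
        op ρ π (emb q ta) v = -v ∧ op ρ π σ v = -v := by
      intro v hv
      rw [mem_qNeg] at hv
      refine ⟨?_, ?_⟩
      · rw [hqa]; exact hv _ _ (ι.injective.ne (by decide)) (by simp) (by simp)
      · exact hv _ _ (ι.injective.ne (by decide)) (by simp) (by simp)
    let φ : qNeg ρ π (ι 0) (ι 1) →ₗ[k] qW ρ π (rl q tc) :=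
      LinearMap.codRestrict _ ((2 : k)⁻¹ • ((1 + op ρ π (emb q tb)).comp (Submodule.subtype _)))
        fun v => by
          obtain ⟨x, hx, -, -, -, rfl⟩ := qneg_split ρ hπ hp0 h2 q (hin v v.2).1
          exact hx
    have hinj : Function.Injective φ := by
      rw [← LinearMap.ker_eq_bot]
      refine (Submodule.eq_bot_iff _).2 fun v hv => Subtype.ext ?_
      have h0 : (2 : k)⁻¹ • ((v : V) + op ρ π (emb q tb) v) = 0 :=
        congrArg Subtype.val (LinearMap.mem_ker.1 hv)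
      have hb : op ρ π (emb q tb) (v : V) = -v :=
        eq_neg_of_add_eq_zero_right ((smul_eq_zero.1 h0).resolve_left (inv_ne_zero h2))
      obtain ⟨ha, hs⟩ := hin v v.2
      have hab' : op ρ π (emb q (ta * tb)) (v : V) = v := by
        rw [op_ab ρ hπ hp0, hb, map_neg, ha, neg_neg]
      have := (mem_peig ρ).1 (op_peig ρ hπ hp0 hσ
        ((sign_emb q _).trans (by decide : Perm.sign (ta * tb) = 1))
        ((hconj _).trans (by rw [cab])) ((mem_peig ρ).2 (hab'.trans (one_smul k (v : V)).symm)))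
      rw [hs, one_smul, map_neg, hb, neg_neg] at this
      exact eq_zero_of_neg h2 this
    exact (LinearMap.finrank_le_finrank_of_injective hinj).trans (hdim _).le
  · obtain ⟨w, hw, hw0⟩ := (Submodule.ne_bot_iff _).1
      (Submodule.one_le_finrank_iff.1 (hdim (rl q tc)).ge)
    obtain ⟨hwb, hwa⟩ := (qW_one ρ hπ hp0).1 hw
    have h1 := (mem_peig ρ).1 (op_peig ρ hπ hp0 hσ ((sign_emb q _).trans sa)
      ((hconj _).trans (by rw [ca])) ((mem_peig ρ).2 (hwa.trans (neg_one_smul k w).symm)))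
    rw [neg_one_smul] at h1
    have h3 := (mem_peig ρ).1 (op_peig ρ hπ hp0 hσ ((sign_emb q _).trans sb)
      ((hconj _).trans (by rw [cb])) ((mem_peig ρ).2 (hwb.trans (one_smul k w).symm)))
    rw [one_smul, op_ab ρ hπ hp0] at h3
    refine Submodule.one_le_finrank_iff.2 ((Submodule.ne_bot_iff _).2
      ⟨w - op ρ π σ w, mem_qNeg_of ρ hπ hp0 h2 hker h9 hp hrec hn hsmall ι ?_ ?_, ?_⟩)
    · rw [← hqa, map_sub, hwa, h1, neg_sub_neg, neg_sub]
    · rw [map_sub, op_sq ρ hπ hp0 hσ (by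
        have : σ = emb ((⟨![0, 1, 4, 5], by decide⟩ : Fin 4 ↪ Fin 6).trans ι) ta := by
          rw [quad_emb]; rfl
        rw [this, ← map_mul, show ta * ta = 1 by decide, map_one]), neg_sub]
    · intro e
      rw [sub_eq_zero] at e
      rw [← e, hwb, hwa] at h3
      exact hw0 (eq_zero_of_neg h2 h3.symm)

end CfsgLib.AltGL
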