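/-
Alternating groups in odd or zero characteristic: the permutation module.
-/
import Mathlib
import Cfsg.Agent.Lib.Known.AltGL.Quads2

set_option autoImplicit false
set_option linter.unusedSectionVars false

namespace CfsgLib.AltGL

open Equiv Module

variable {k : Type} [Field k] [IsAlgClosed k] {V : Type} [AddCommGroup V] [Module k V]
  [FiniteDimensional k V] {Γ : Type} [Group Γ] [Finite Γ] (ρ : Representation k Γ V)
  {X : Type} [Fintype X] [DecidableEq X] {π : Γ →* Perm X} {p n : ℕ} [CharP k p]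

variable (hπ : π.range = alternatingGroup X) (hp0 : ∀ g, π g = 1 → ρ g = 1) (h2 : (2 : k) ≠ 0)
  (hker : ∀ g, ρ g = 1 → π g = 1) (h9 : 9 ≤ Fintype.card X) (hp : p.Prime)
  (hrec : BoundBelow n) (hn : finrank k V = n) (hsmall : n + 2 ≤ Fintype.card X)

include hπ hp0 h2 hker h9 hp hrec hn hsmall in
/-- In odd or zero characteristic the bound holds for alternating groups. -/
theorem plain_odd (hirr : Irr ρ) : bnd p (Fintype.card X) ≤ n := by
  have hsgn : ∀ g, Perm.sign (π g) = 1 := fun g => Perm.mem_alternatingGroup.1 (hπ ▸ ⟨g, rfl⟩)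
  have hLine : ∀ {a b : X}, a ≠ b → finrank k (qNeg ρ π a b) = 1 := fun h =>
    qNeg_line ρ hπ hp0 h2 hker h9 hp hrec hn hsmall h
  refine pair_bound ρ hπ hp0 h9 hirr hn (qNeg ρ π) ?_ (fun a b h => (hLine h).le) ?_ ?_ ?_
  · intro g a b hab v hv
    rw [mem_qNeg] at hv ⊢
    intro x y hxy hx hy
    have hout : ∀ z, z ∉ ({π g a, π g b} : Finset X) → (π g)⁻¹ z ∉ ({a, b} : Finset X) := by
      intro z hz h
      simp only [Finset.mem_insert, Finset.mem_singleton, Perm.inv_eq_iff_eq] at h hz
      exact hz (h.imp (fun e => e) fun e => e)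
    have h1 := hv _ _ ((π g)⁻¹.injective.ne hxy) (hout x hx) (hout y hy)
    rw [← op_eq ρ hp0 (rfl : π g = π g)]
    have e : π g * (swap a b * swap ((π g)⁻¹ x) ((π g)⁻¹ y)) * (π g)⁻¹ =
        swap (π g a) (π g b) * swap x y := by
      calc π g * (swap a b * swap ((π g)⁻¹ x) ((π g)⁻¹ y)) * (π g)⁻¹
          = (π g * swap a b * (π g)⁻¹) *
            (π g * swap ((π g)⁻¹ x) ((π g)⁻¹ y) * (π g)⁻¹) := by group
        _ = _ := by
          rw [← swap_apply_apply, ← swap_apply_apply, Perm.inv_def, Equiv.apply_symm_apply,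
            Equiv.apply_symm_apply]
    have := (mem_peig ρ).1 (op_peig ρ hπ hp0 (hsgn g)
      (sign_two hab ((π g)⁻¹.injective.ne hxy)) e
      ((mem_peig ρ).2 (h1.trans (neg_one_smul k v).symm)))
    rwa [neg_one_smul] at this
  · obtain ⟨a, b, hab⟩ := Fintype.exists_pair_of_one_lt_card (show 1 < Fintype.card X by omega)
    exact ⟨a, b, hab, Submodule.one_le_finrank_iff.1 (hLine hab).ge⟩
  · intro a b hab
    obtain ⟨ι, hι⟩ := exists_pts {a, b} 2 (by
      have : ({a, b} : Finset X).card ≤ 2 := Finset.card_le_two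
      omega)
    have hxy : ι 0 ≠ ι 1 := ι.injective.ne (by decide)
    obtain ⟨g, hg⟩ := exists_preimage hπ (sign_two hab hxy)
    have h0 := hι 0; have h1 := hι 1
    simp only [Finset.mem_insert, Finset.mem_singleton, not_or] at h0 h1
    refine ⟨g, ?_, ?_, fun v hv => ?_⟩
    · rw [hg, Perm.mul_apply, swap_apply_of_ne_of_ne (Ne.symm h0.1) (Ne.symm h1.1), swap_apply_left]
    · rw [hg, Perm.mul_apply, swap_apply_of_ne_of_ne (Ne.symm h0.2) (Ne.symm h1.2),
        swap_apply_right]
    · rw [← op_eq ρ hp0 hg]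
      exact (mem_qNeg ρ).1 hv _ _ hxy (hι 0) (hι 1)
  · intro u hmem heq hanti a b c hab hbc hca
    by_cases hu0 : u a b = 0
    · have h3 : ∀ x y, x ≠ y → u x y = 0 := by
        intro x y hxy
        obtain ⟨σ, hσ, hσι⟩ := exists_even_map (pairEmb hab) (pairEmb hxy) (by omega)
        obtain ⟨g, hg⟩ := exists_preimage hπ hσ
        have := heq g a b
        rw [hu0, map_zero, hg, show σ a = x from hσι 0, show σ b = y from hσι 1] at this
        exact this.symm
      rw [hu0, h3 b c hbc, h3 c a hca, add_zero, add_zero]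
    set S := u a b + u b c + u c a with hS
    let tri : Fin 3 ↪ X := triEmb hab hbc hca
    -- the sum is negated
    have hnegS : ∀ x y, x ≠ y → x ∉ pts tri → y ∉ pts tri →
        op ρ π (swap a b * swap x y) S = -S := by
      intro x y hxy hx hy
      have hxn : ∀ i, tri i ≠ x := fun i e => hx (e ▸ mem_pts i)
      have hyn : ∀ i, tri i ≠ y := fun i e => hy (e ▸ mem_pts i)
      obtain ⟨g, hg⟩ := exists_preimage hπ (sign_two hab hxy)
      have ga : π g a = b := by
        rw [hg, Perm.mul_apply, swap_apply_of_ne_of_ne (show a ≠ x from hxn 0) (show a ≠ y from hyn 0), swap_apply_left]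
      have gb : π g b = a := by
        rw [hg, Perm.mul_apply, swap_apply_of_ne_of_ne (show b ≠ x from hxn 1) (show b ≠ y from hyn 1), swap_apply_right]
      have gc : π g c = c := by
        rw [hg, Perm.mul_apply, swap_apply_of_ne_of_ne (show c ≠ x from hxn 2) (show c ≠ y from hyn 2),
          swap_apply_of_ne_of_ne hca hbc.symm]
      rw [op_eq ρ hp0 hg, hS, map_add, map_add, heq, heq, heq, ga, gb, gc, hanti a b, hanti c a,
        hanti b c]
      abel
    have hSmem : S ∈ qNeg ρ π a b := by
      obtain ⟨t, ht⟩ := exists_pts (pts tri) 4 (by rw [card_pts]; omega)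
      have htn : ∀ i j, t i ≠ tri j := fun i j e => ht i (e ▸ mem_pts j)
      let ι : Fin 6 ↪ X := ⟨![a, b, t 0, t 1, t 2, t 3], by
        intro i j
        fin_cases i <;> fin_cases j <;>
          simp [hab, hab.symm, t.injective.eq_iff, show ∀ i, t i ≠ a from fun i => htn i 0,
            show ∀ i, t i ≠ b from fun i => htn i 1, show ∀ i, a ≠ t i from fun i => (htn i 0).symm,
            show ∀ i, b ≠ t i from fun i => (htn i 1).symm]⟩
      exact mem_qNeg_of ρ hπ hp0 h2 hker h9 hp hrec hn hsmall ι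
        (hnegS _ _ (t.injective.ne (by decide)) (ht 0) (ht 1))
        (hnegS _ _ (t.injective.ne (by decide)) (ht 2) (ht 3))
    obtain ⟨d, hd⟩ := (finrank_eq_one_iff_of_nonzero' (⟨u a b, hmem a b hab⟩ : qNeg ρ π a b)
      (fun e => hu0 (congrArg Subtype.val e))).1 (hLine hab) ⟨S, hSmem⟩
    have hdS : d • u a b = S := congrArg Subtype.val hd
    obtain ⟨g, hg⟩ := exists_preimage hπ (σ := swap a b * swap b c) (sign_two hab hbc)
    have ga : π g a = b := by
      rw [hg, Perm.mul_apply, swap_apply_of_ne_of_ne hab hca.symm, swap_apply_left]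
    have gb : π g b = c := by
      rw [hg, Perm.mul_apply, swap_apply_left, swap_apply_of_ne_of_ne hca hbc.symm]
    have gc : π g c = a := by
      rw [hg, Perm.mul_apply, swap_apply_right, swap_apply_right]
    have hgS : ρ g S = S := by
      rw [hS, map_add, map_add, heq, heq, heq, ga, gb, gc]; abel
    rw [← hdS, map_smul, heq, ga, gb] at hgS
    by_cases hd0 : d = 0
    · rw [← hdS, hd0, zero_smul]
    exfalso
    have e1 : u b c = u a b := smul_right_injective V hd0 hgS
    -- move the third point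
    obtain ⟨t, ht⟩ := exists_pts (pts tri) 1 (by rw [card_pts]; omega)
    have htn : ∀ j, t 0 ≠ tri j := fun j e => ht 0 (e ▸ mem_pts j)
    let tri1 : Fin 3 ↪ X := ⟨![a, b, t 0], by
      intro i j
      fin_cases i <;> fin_cases j <;>
        simp [hab, hab.symm, show t 0 ≠ a from htn 0, show t 0 ≠ b from htn 1,
          show a ≠ t 0 from (htn 0).symm, show b ≠ t 0 from (htn 1).symm]⟩
    let tri2 : Fin 3 ↪ X := ⟨![t 0, b, c], by
      intro i j
      fin_cases i <;> fin_cases j <;>
        simp [hbc, hbc.symm, show t 0 ≠ b from htn 1, show t 0 ≠ c from htn 2,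
          show b ≠ t 0 from (htn 1).symm, show c ≠ t 0 from (htn 2).symm]⟩
    obtain ⟨σ, hσ, hσt⟩ := exists_even_map tri tri1 (by omega)
    obtain ⟨σ', hσ', hσt'⟩ := exists_even_map tri tri2 (by omega)
    obtain ⟨g1, hg1⟩ := exists_preimage hπ hσ
    obtain ⟨g2, hg2⟩ := exists_preimage hπ hσ'
    have a1 : u a b = u b (t 0) := by
      have := congrArg (ρ g1) e1.symm
      rwa [heq, heq, hg1, show σ a = a from hσt 0, show σ b = b from hσt 1,
        show σ c = t 0 from hσt 2] at this
    have a2 : u (t 0) b = u b c := by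
      have := congrArg (ρ g2) e1.symm
      rwa [heq, heq, hg2, show σ' a = t 0 from hσt' 0, show σ' b = b from hσt' 1,
        show σ' c = c from hσt' 2] at this
    rw [hanti b (t 0), e1, ← a1] at a2
    exact hu0 (eq_zero_of_neg h2 a2.symm)

end CfsgLib.AltGL
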