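/-
Representations of alternating groups of small degree in characteristic two: three-cycles.
-/
import Mathlib
import Cfsg.Agent.Lib.Known.AltGL.Plain

set_option autoImplicit false
set_option linter.unusedSectionVars false

namespace CfsgLib.AltGL

open Equiv Module

variable {k : Type} [Field k] [IsAlgClosed k] {V : Type} [AddCommGroup V] [Module k V]
  [FiniteDimensional k V] {Γ : Type} [Group Γ] [Finite Γ] (ρ : Representation k Γ V)
  {X : Type} [Fintype X] [DecidableEq X] {π : Γ →* Perm X}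

/-- A three-cycle of three points. -/
abbrev tt : Perm (Fin 3) := swap 0 1 * swap 1 2

theorem tt_conj : ∀ c : Perm (Fin 3), c * tt * c⁻¹ = tt ∨ c * tt * c⁻¹ = tt * tt := by
  decide +kernel

theorem tt_facts : Perm.sign tt = 1 ∧ tt ^ 3 = 1 ∧ tt ≠ 1 ∧
    swap 0 1 * tt * (swap (0 : Fin 3) 1)⁻¹ = tt * tt := by
  decide +kernel

/-- An eigenspace of the three-cycle of a triple. -/
noncomputable abbrev tE (π : Γ →* Perm X) (ι : Fin 3 ↪ X) (μ : k) : Submodule k V :=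
  peig ρ π (emb ι tt) μ

/-- The moved space of a triple. -/
noncomputable abbrev tP (π : Γ →* Perm X) (ω : k) (ι : Fin 3 ↪ X) : Submodule k V :=
  tE ρ π ι ω ⊔ tE ρ π ι (ω ^ 2)

variable (hπ : π.range = alternatingGroup X) (hp0 : ∀ g, π g = 1 → ρ g = 1) (h2 : (2 : k) = 0)
  (hker : ∀ g, ρ g = 1 → π g = 1) (h9 : 9 ≤ Fintype.card X) {ω : k} (hω : ω ^ 2 + ω + 1 = 0)

include hω in
theorem omega_pow : ω ^ 3 = 1 := by linear_combination (ω - 1) * hω

include h2 hω in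
theorem omega_ne : ω ≠ 1 ∧ ω ^ 2 ≠ 1 ∧ ω ^ 2 ≠ ω := by
  have h1 : ω ≠ 1 := fun e => by
    subst e
    exact one_ne_zero (α := k) (by linear_combination hω - h2)
  have h3 := omega_pow hω
  refine ⟨h1, fun e => h1 ?_, fun e => h1 ?_⟩
  · rw [pow_succ, e, one_mul] at h3; exact h3
  · rw [pow_succ, e, ← sq, e] at h3; exact h3

include hπ hp0 in
theorem op_cube (ι : Fin 3 ↪ X) (v : V) :
    op ρ π (emb ι tt) (op ρ π (emb ι tt) (op ρ π (emb ι tt) v)) = v := by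
  obtain ⟨hs, hc, -⟩ := tt_facts
  have hσ : Perm.sign (emb ι tt) = 1 := (sign_emb ι _).trans hs
  rw [← op_mul_apply ρ hπ hp0 hσ hσ, ← op_mul_apply ρ hπ hp0 (by rw [map_mul, hσ, one_mul]) hσ,
    ← pow_two, ← pow_succ, ← map_pow, hc, map_one, op_one ρ hp0]
  rfl

include hπ hp0 in
theorem tE_sq (ι : Fin 3 ↪ X) {μ : k} (hμ : μ ^ 3 = 1) :
    peig ρ π (emb ι (tt * tt)) (μ ^ 2) = tE ρ π ι μ := by
  obtain ⟨hs, -⟩ := tt_facts
  ext v
  rw [mem_peig, mem_peig, map_mul, op_mul_apply ρ hπ hp0 ((sign_emb ι _).trans hs)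
    ((sign_emb ι _).trans hs)]
  constructor
  · intro h
    have h4 : op ρ π (emb ι tt) v = (μ ^ 2 * μ ^ 2) • v := by
      conv_lhs => rw [← op_cube ρ hπ hp0 ι v]
      rw [h, map_smul, map_smul, h, smul_smul]
    rw [h4, show μ ^ 2 * μ ^ 2 = μ by linear_combination μ * hμ]
  · intro h
    rw [h, map_smul, h, smul_smul, sq]

include hπ hp0 hω in
theorem tP_rl (ι : Fin 3 ↪ X) (c : Perm (Fin 3)) : tP ρ π ω (rl ι c) = tP ρ π ω ι := by
  have h3 := omega_pow hω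
  have h4 : (ω ^ 2) ^ 2 = ω := by linear_combination ω * h3
  rcases tt_conj c with e | e <;> simp only [tP, tE, emb_rl, e]
  have a := tE_sq ρ hπ hp0 ι (μ := ω ^ 2) (by linear_combination (ω ^ 3 + 1) * h3)
  have b := tE_sq ρ hπ hp0 ι h3
  rw [h4] at a
  rw [a, b, sup_comm]

include hπ hp0 hω in
theorem tE_swap (ι : Fin 3 ↪ X) : tE ρ π (rl ι (swap 0 1)) ω = tE ρ π ι (ω ^ 2) := by
  have h3 := omega_pow hω
  have a := tE_sq ρ hπ hp0 ι (μ := ω ^ 2) (by linear_combination (ω ^ 3 + 1) * h3)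
  rw [show (ω ^ 2) ^ 2 = ω by linear_combination ω * h3] at a
  rw [← a, tE, emb_rl, tt_facts.2.2.2]

include hπ hp0 in
theorem tE_map {ι ι' : Fin 3 ↪ X} {σ : Perm X} (hσ : Perm.sign σ = 1) (h : ∀ i, σ (ι i) = ι' i)
    {μ : k} {v : V} (hv : v ∈ tE ρ π ι μ) : op ρ π σ v ∈ tE ρ π ι' μ :=
  op_peig ρ hπ hp0 hσ ((sign_emb ι _).trans tt_facts.1) (emb_conj h _) hv

include hπ hp0 in
theorem tP_map {ι ι' : Fin 3 ↪ X} {σ : Perm X} (hσ : Perm.sign σ = 1) (h : ∀ i, σ (ι i) = ι' i)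
    {v : V} (hv : v ∈ tP ρ π ω ι) : op ρ π σ v ∈ tP ρ π ω ι' := by
  obtain ⟨x, hx, y, hy, rfl⟩ := Submodule.mem_sup.1 hv
  rw [map_add]
  exact Submodule.add_mem_sup (tE_map ρ hπ hp0 hσ h hx) (tE_map ρ hπ hp0 hσ h hy)

include hπ hp0 hω h9 in
theorem tE_dim (ι ι' : Fin 3 ↪ X) :
    finrank k (tE ρ π ι ω) = finrank k (tE ρ π ι' ω) ∧
      finrank k (tE ρ π ι (ω ^ 2)) = finrank k (tE ρ π ι' ω) := by
  have key : ∀ ι ι' : Fin 3 ↪ X, finrank k (tE ρ π ι ω) ≤ finrank k (tE ρ π ι' ω) := by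
    intro ι ι'
    obtain ⟨σ, hσ, hσι⟩ := exists_even_map ι ι' (by omega)
    exact LinearMap.finrank_le_finrank_of_injective
      (f := (op ρ π σ).restrict fun v hv => tE_map ρ hπ hp0 hσ hσι hv)
      fun v w hvw => Subtype.ext (op_inj ρ hπ hp0 hσ (congrArg Subtype.val hvw))
  refine ⟨le_antisymm (key _ _) (key _ _), ?_⟩
  rw [← tE_swap ρ hπ hp0 hω]
  exact le_antisymm (key _ _) (key _ _)

include hπ hp0 h2 hω in
/-- Every vector splits along a triple. -/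
theorem tsplit (ι : Fin 3 ↪ X) (v : V) :
    ∃ f ∈ tE ρ π ι (1 : k), ∃ x ∈ tE ρ π ι ω, ∃ y ∈ tE ρ π ι (ω ^ 2), f + (x + y) = v := by
  have h3 := omega_pow hω
  have hc := op_cube ρ hπ hp0 ι v
  set C := op ρ π (emb ι tt)
  refine ⟨v + C v + C (C v), ?_, v + ω ^ 2 • C v + ω • C (C v), ?_,
    v + ω • C v + ω ^ 2 • C (C v), ?_, ?_⟩
  · refine (mem_peig ρ).2 ?_
    rw [one_smul, map_add, map_add, hc]
    abel
  · refine (mem_peig ρ).2 ?_
    rw [map_add, map_add, map_smul, map_smul, hc]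
    linear_combination (norm := module) (-h3) • C v
  · refine (mem_peig ρ).2 ?_
    rw [map_add, map_add, map_smul, map_smul, hc]
    linear_combination (norm := module) (-h3) • C v + (-(h3) * ω) • C (C v)
  · linear_combination (norm := module) h2 • v + hω • C v + hω • C (C v)

include hπ hp0 h2 hω in
theorem tP_fixed (ι : Fin 3 ↪ X) {v : V} (hv : v ∈ tP ρ π ω ι)
    (h : op ρ π (emb ι tt) v = v) : v = 0 := by
  obtain ⟨h1, h1', hne⟩ := omega_ne h2 hω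
  obtain ⟨x, hx, y, hy, rfl⟩ := Submodule.mem_sup.1 hv
  rw [mem_peig] at hx hy
  have e1 := h
  rw [map_add, hx, hy] at e1
  have e2 := congrArg (op ρ π (emb ι tt)) e1
  rw [map_add, map_add, map_smul, map_smul, hx, hy] at e2
  have hy0 : ((ω ^ 2 - ω) * (ω ^ 2 - 1)) • y = 0 := by
    linear_combination (norm := module) e2 - ω • e1
  have hy0' : y = 0 := (smul_eq_zero.1 hy0).resolve_left
    (mul_ne_zero (sub_ne_zero.2 hne) (sub_ne_zero.2 h1'))
  rw [hy0', add_zero, smul_zero, add_zero] at e1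
  have hx0 : (ω - 1) • x = 0 := by rw [sub_smul, one_smul, e1, sub_self]
  rw [hy0', (smul_eq_zero.1 hx0).resolve_left (sub_ne_zero.2 h1), add_zero]

include hπ hp0 h2 hω h9 in
theorem tP_dim (ι : Fin 3 ↪ X) : 2 * finrank k (tE ρ π ι ω) ≤ finrank k (tP ρ π ω ι) := by
  rw [two_mul]
  nth_rw 2 [← (tE_dim ρ hπ hp0 h9 hω ι ι).2]
  refine disjoint_finrank_add le_sup_left le_sup_right fun v hv hv' => ?_
  rw [mem_peig] at hv hv'
  rw [hv] at hv'
  have : (ω ^ 2 - ω) • v = 0 := by rw [sub_smul, ← hv', sub_self]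
  exact (smul_eq_zero.1 this).resolve_left (sub_ne_zero.2 (omega_ne h2 hω).2.2)

include hπ hp0 h2 hω h9 in
theorem tcount (ι : Fin 3 ↪ X) :
    finrank k (tE ρ π ι (1 : k)) + 2 * finrank k (tE ρ π ι ω) ≤ finrank k V := by
  have h1 := tP_dim ρ hπ hp0 h2 h9 hω ι
  have h3 : finrank k (tP ρ π ω ι) + finrank k (tE ρ π ι (1 : k)) ≤ finrank k (⊤ : Submodule k V) :=
    disjoint_finrank_add le_top le_top fun v hv hv' => tP_fixed ρ hπ hp0 h2 hω ι hv (by
      rw [mem_peig, one_smul] at hv'; exact hv')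
  rw [finrank_top] at h3
  omega

include hπ hp0 h2 hker hω h9 in
theorem tE_pos (ι : Fin 3 ↪ X) : 0 < finrank k (tE ρ π ι ω) := by
  rw [Nat.pos_iff_ne_zero]
  intro h0
  obtain ⟨hs, -, hne, -⟩ := tt_facts
  obtain ⟨g, hg⟩ := exists_preimage hπ ((sign_emb ι _).trans hs)
  have hb : tE ρ π ι ω = ⊥ := Submodule.finrank_eq_zero.1 h0
  have hb' : tE ρ π ι (ω ^ 2) = ⊥ :=
    Submodule.finrank_eq_zero.1 ((tE_dim ρ hπ hp0 h9 hω ι ι).2.trans h0)
  have h1 : ρ g = 1 := by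
    ext v
    obtain ⟨f, hf, x, hx, y, hy, e⟩ := tsplit ρ hπ hp0 h2 hω ι v
    rw [hb, Submodule.mem_bot] at hx
    rw [hb', Submodule.mem_bot] at hy
    rw [hx, hy, add_zero, add_zero] at e
    rw [← op_eq ρ hp0 hg, ← e, Module.End.one_apply]
    exact ((mem_peig ρ).1 hf).trans (one_smul k f)
  exact hne (emb_injective ι ((hg.symm.trans (hker g h1)).trans (map_one _).symm))

include hπ hp0 in
theorem tE_invariant (ι : Fin 3 ↪ X) (μ : k) :
    ∀ g ∈ fixPre π (pts ι), ∀ v ∈ tE ρ π ι μ, ρ g v ∈ tE ρ π ι μ := by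
  intro g hg v hv
  rw [← op_eq ρ hp0 (rfl : π g = π g)]
  exact op_peig ρ hπ hp0 hg.1 ((sign_emb ι _).trans tt_facts.1)
    (fix_comm hg.2 fun x hx => emb_fix_pts ι _ hx) hv

variable {n : ℕ} [CharP k 2] (hrec : BoundBelow n) (hn : finrank k V = n)
  (hsmall : n < bnd 2 (Fintype.card X))

include hπ hp0 h2 hker h9 hω hrec hn hsmall in
/-- The fixer of a triple fixes its eigenvectors. -/
theorem ttriv_aux (ι : Fin 3 ↪ X) :
    ∀ σ ∈ fixGrp (pts ι), ∀ v ∈ tE ρ π ι ω, op ρ π σ v = v := by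
  have hcS := card_pts ι
  have hcnt := tcount ρ hπ hp0 h2 h9 hω ι
  have hdim := (tE_dim ρ hπ hp0 h9 hω ι ι).2
  have hU := tE_invariant ρ hπ hp0 ι ω
  have hs : Sgn ρ π := fun g hg => Or.inl (hp0 g hg)
  have h3 : ((3 : ℕ) : k) ≠ 0 := fun e => by
    have := (CharP.cast_eq_zero_iff k 2 3).1 e
    omega
  rcases dichotomy ρ π hπ (pts ι) (by omega) (tE ρ π ι ω) hU with hl | hr
  swap
  · intro σ hσ v hv
    obtain ⟨g, hg, hgv⟩ := hr σ hσ
    rw [op_eq ρ hp0 hg]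
    exact hgv v hv
  exfalso
  have hb := bnd_bounds 2 (Fintype.card X)
  by_cases h12 : 12 ≤ Fintype.card X
  · have := tE_pos ρ hπ hp0 h2 hker h9 hω ι
    have := sub_bound ρ π Nat.prime_two hrec hπ (pts ι) (by omega) _ hU (by omega) hl
    have := bnd_bounds 2 (Fintype.card X - (pts ι).card)
    omega
  have six : ∀ (S : Finset X) (U : Submodule k V), S.card + 6 ≤ Fintype.card X →
      (∀ g ∈ fixPre π S, ∀ v ∈ U, ρ g v ∈ U) →
      (∀ g ∈ fixPre π S, (∀ v ∈ U, ρ g v = v) → π g = 1) → 4 ≤ finrank k U := by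
    intro S U hS hU hl
    obtain ⟨ι6, h6⟩ := exists_pts S 6 hS
    obtain ⟨g, hg⟩ := exists_lift ρ hπ hs (l := 3) ⟨1, rfl⟩
      (σ := emb ι6 (swap 0 1 * swap 1 2)) ((sign_emb _ _).trans (by decide)) (by
        rw [← map_pow, show (swap 0 1 * swap 1 2 : Perm (Fin 6)) ^ (2 * 1 + 1) = 1 by
          decide +kernel, map_one])
    refine six_bound ρ hπ hs h3 ι6 h6 U hU hg ?_
    by_contra hcon
    push Not at hcon
    have := hl g (by rw [fixPre_mem, hg.map]; exact emb_mem_fixGrp (by decide) h6) hcon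
    rw [hg.map] at this
    exact absurd (emb_injective ι6 (this.trans (map_one _).symm)) (by decide)
  have he := six (pts ι) _ (by omega) hU hl
  by_cases h11 : Fintype.card X = 11
  swap
  · obtain h | h : Fintype.card X = 9 ∨ Fintype.card X = 10 := by omega
    all_goals rw [h] at hsmall; norm_num [bnd] at hsmall; omega
  have hn9 : n ≤ 9 := by rw [h11] at hsmall; norm_num [bnd] at hsmall; omega
  haveI : Fact (Nat.Prime 5) := ⟨by norm_num⟩
  have h5 : ((5 : ℕ) : k) ≠ 0 := fun e => by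
    have := (CharP.cast_eq_zero_iff k 2 5).1 e
    omega
  obtain ⟨ι7, h7⟩ := exists_pts (pts ι) 7 (by omega)
  obtain ⟨g, hg⟩ := exists_lift ρ hπ hs (l := 5) ⟨2, rfl⟩ (σ := emb ι7 s5)
    ((sign_emb _ _).trans cyc5.sgn) (by rw [← map_pow, cyc5.pow, map_one])
  obtain ⟨h, hh⟩ := exists_preimage hπ
    (σ := emb ι7 (swap 1 2 * swap 2 4 * swap 4 3 * swap 5 6)) ((sign_emb _ _).trans cyc5.sgnq)
  set ι5 : Fin 5 ↪ X := (Fin.castLEEmb (by norm_num : 5 ≤ 7)).trans ι7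
  have hS5 : ∀ x ∉ pts ι5, emb ι7 s5 x = x := by
    intro x hx
    by_cases hr : x ∈ Set.range ι7
    · obtain ⟨i, rfl⟩ := hr
      rw [emb_apply]
      congr 1
      refine cyc5.fix i ?_
      by_contra hi
      exact hx (Finset.mem_image.2 ⟨⟨i, by omega⟩, Finset.mem_univ _, rfl⟩)
    · exact emb_fix ι7 s5 hr
  have hιS5 : ∀ i, ι i ∉ pts ι5 := fun i hi => by
    obtain ⟨j, -, e⟩ := Finset.mem_image.1 hi
    exact h7 (Fin.castLE (by norm_num) j) (e ▸ mem_pts i :)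
  obtain ⟨b, -, hb5⟩ := cyc5.inv
  have hcount : ∀ lam : k, lam ^ 5 = 1 → lam ≠ 1 →
      4 * finrank k (eig ρ g lam) + finrank k (eig ρ g 1) ≤ finrank k V := fun lam hl h1 =>
    count_eig ρ hs ⟨2, rfl⟩ hg (h := h)
      (by rw [hh, ← map_inv, ← map_mul, ← map_mul, cyc5.conj, map_pow]) cyc5.gen ⟨b, hb5⟩ hl h1
  have hfixY : ∀ lam : k, lam ^ 5 = 1 → lam ≠ 1 → ∀ v ∈ eig ρ g lam,
      op ρ π (emb ι tt) v = v := by
    intro lam hlam h1
    have hY := fix_invariant ρ hs ⟨2, rfl⟩ hg hS5 lam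
    rcases dichotomy ρ π hπ (pts ι5) (by rw [card_pts]; omega) _ hY with hl' | hr'
    · have := six _ _ (by rw [card_pts]; omega) hY hl'
      have := hcount lam hlam h1
      omega
    · obtain ⟨c, hc, hcv⟩ := hr' _ (emb_mem_fixGrp (p := tt) tt_facts.1 hιS5)
      intro v hv
      rw [op_eq ρ hp0 hc]
      exact hcv v hv
  have hgm : g ∈ fixPre π (pts ι) := by
    rw [fixPre_mem, hg.map]; exact emb_mem_fixGrp cyc5.sgn h7
  have hsub : ∀ μ : k, μ ≠ 1 → tE ρ π ι μ ≤ eig ρ g 1 := by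
    intro μ hμ v hv
    by_contra hv1
    obtain ⟨lam, hlam, h1, hne⟩ := exists_eig ρ h5 hg.pow (tE ρ π ι μ)
      (tE_invariant ρ hπ hp0 ι μ g hgm) ⟨v, hv, fun e => hv1 ((mem_eig ρ).2 (by rw [one_smul, e]))⟩
    obtain ⟨w, hw, hw0⟩ := (Submodule.ne_bot_iff _).1 hne
    have e := (mem_peig ρ).1 hw.1
    rw [hfixY lam hlam h1 w hw.2] at e
    refine hw0 ((smul_eq_zero.1 (show (μ - 1) • w = 0 by rw [sub_smul, one_smul, ← e, sub_self])
      ).resolve_left (sub_ne_zero.2 hμ))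
  obtain ⟨o1, o2, -⟩ := omega_ne h2 hω
  have hle : tP ρ π ω ι ≤ eig ρ g 1 := sup_le (hsub ω o1) (hsub _ o2)
  have := Submodule.finrank_mono hle
  have := tP_dim ρ hπ hp0 h2 h9 hω ι
  have hne : ρ g ≠ 1 := fun e => cyc5.ne (emb_injective ι7 (by rw [← hg.map, hker g e, map_one]))
  obtain ⟨lam, hlam, h1, hlam0⟩ := exists_eig_top ρ h5 hg.pow hne
  have := hcount lam hlam h1
  have : 0 < finrank k (eig ρ g lam) := Submodule.one_le_finrank_iff.2 hlam0
  omega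

theorem pts_rl {m : ℕ} (ι : Fin m ↪ X) (c : Perm (Fin m)) : pts (rl ι c) ⊆ pts ι := fun x hx => by
  obtain ⟨i, -, rfl⟩ := Finset.mem_image.1 hx; exact mem_pts (c i)

include hπ hp0 h2 hker h9 hω hrec hn hsmall in
/-- The fixer of a triple fixes its moved space. -/
theorem ttriv {ι : Fin 3 ↪ X} {σ : Perm X} (hσ : σ ∈ fixGrp (pts ι)) {v : V}
    (hv : v ∈ tP ρ π ω ι) : op ρ π σ v = v := by
  obtain ⟨x, hx, y, hy, rfl⟩ := Submodule.mem_sup.1 hv
  rw [← tE_swap ρ hπ hp0 hω] at hy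
  rw [map_add, ttriv_aux ρ hπ hp0 h2 hker h9 hω hrec hn hsmall ι σ hσ x hx,
    ttriv_aux ρ hπ hp0 h2 hker h9 hω hrec hn hsmall _ σ (fixGrp_mono (pts_rl ι _) hσ) y hy]

include hπ hp0 h2 hker h9 hω hrec hn hsmall in
/-- The eigenspaces are lines. -/
theorem tE_one_dim (ι : Fin 3 ↪ X) : finrank k (tE ρ π ι ω) = 1 := by
  have hcS := card_pts ι
  have hpos := tE_pos ρ hπ hp0 h2 hker h9 hω ι
  have hcnt := tcount ρ hπ hp0 h2 h9 hω ι
  have hb := bnd_bounds 2 (Fintype.card X)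
  suffices finrank k (tE ρ π ι ω) ≤ 1 by omega
  by_cases h12 : 12 ≤ Fintype.card X
  · have hF := tE_invariant ρ hπ hp0 ι (1 : k)
    have hl : ∀ g ∈ fixPre π (pts ι), (∀ v ∈ tE ρ π ι (1 : k), ρ g v = v) → π g = 1 := by
      intro g hg hgF
      refine hker g (LinearMap.ext fun v => ?_)
      obtain ⟨f, hf, x, hx, y, hy, e⟩ := tsplit ρ hπ hp0 h2 hω ι v
      rw [← e, Module.End.one_apply, map_add, hgF f hf, ← op_eq ρ hp0 (rfl : π g = π g),
        ttriv ρ hπ hp0 h2 hker h9 hω hrec hn hsmall hg (Submodule.add_mem_sup hx hy)]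
    have := sub_bound ρ π Nat.prime_two hrec hπ (pts ι) (by omega) _ hF (by omega) hl
    have := bnd_bounds 2 (Fintype.card X - (pts ι).card)
    omega
  · obtain ⟨ι', hι'⟩ := exists_pts (pts ι) 3 (by omega)
    obtain ⟨ι'', hι''⟩ := exists_pts (pts ι ∪ pts ι') 3 (by
      have := Finset.card_union_le (pts ι) (pts ι')
      have := card_pts ι'
      omega)
    have hm : ∀ κ κ' : Fin 3 ↪ X, (∀ i, κ i ∉ pts κ') → emb κ tt ∈ fixGrp (pts κ') := fun κ κ' h =>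
      emb_mem_fixGrp tt_facts.1 h
    have hout : ∀ i, ι i ∉ pts ι' := fun i hi => by
      obtain ⟨j, -, e⟩ := Finset.mem_image.1 hi; exact hι' j (e ▸ mem_pts i)
    have hout2 : ∀ i, ι i ∉ pts ι'' := fun i hi => by
      obtain ⟨j, -, e⟩ := Finset.mem_image.1 hi
      exact hι'' j (Finset.mem_union_left _ (e ▸ mem_pts i))
    have hout3 : ∀ i, ι' i ∉ pts ι'' := fun i hi => by
      obtain ⟨j, -, e⟩ := Finset.mem_image.1 hi
      exact hι'' j (Finset.mem_union_right _ (e ▸ mem_pts i))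
    have hfix : ∀ κ, (∀ i, ι i ∉ pts κ) → tP ρ π ω κ ≤ tE ρ π ι (1 : k) := fun κ h v hv =>
      (mem_peig ρ).2 ((ttriv ρ hπ hp0 h2 hker h9 hω hrec hn hsmall (hm ι κ h) hv).trans
        (one_smul k v).symm)
    have := disjoint_finrank_add (hfix ι' hout) (hfix ι'' hout2) fun v hv hv' =>
      tP_fixed ρ hπ hp0 h2 hω ι' hv (ttriv ρ hπ hp0 h2 hker h9 hω hrec hn hsmall (hm ι' ι'' hout3) hv')
    have a1 := tP_dim ρ hπ hp0 h2 h9 hω ι'
    have a2 := tP_dim ρ hπ hp0 h2 h9 hω ι''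
    rw [(tE_dim ρ hπ hp0 h9 hω ι' ι).1] at a1
    rw [(tE_dim ρ hπ hp0 h9 hω ι'' ι).1] at a2
    omega

end CfsgLib.AltGL
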