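/-
Alternating groups in characteristic two: lines of pairs and the permutation module.
-/
import Mathlib
import Cfsg.Agent.Lib.Known.AltGL.Triples
import Cfsg.Agent.Lib.Presentations.AltCarmichael

set_option autoImplicit false
set_option linter.unusedSectionVars false

namespace CfsgLib.AltGL

open Equiv Module

variable {k : Type} [Field k] [IsAlgClosed k] {V : Type} [AddCommGroup V] [Module k V]
  [FiniteDimensional k V] {Γ : Type} [Group Γ] [Finite Γ] (ρ : Representation k Γ V)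
  {X : Type} [Fintype X] [DecidableEq X] {π : Γ →* Perm X}

theorem triEmb_emb {a b c : X} (hab : a ≠ b) (hbc : b ≠ c) (hca : c ≠ a) :
    emb (triEmb hab hbc hca) tt = swap a b * swap b c := by
  rw [map_mul, emb_swap, emb_swap]; rfl

theorem cyc_mem {S : Finset X} {a b c : X} (hab : a ≠ b) (hbc : b ≠ c) (hca : c ≠ a)
    (ha : a ∉ S) (hb : b ∉ S) (hc : c ∉ S) : swap a b * swap b c ∈ fixGrp S := by
  rw [← triEmb_emb hab hbc hca]
  refine emb_mem_fixGrp tt_facts.1 fun i => ?_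
  fin_cases i <;> assumption

/-- The sum of the moved spaces of the triples in a set. -/
noncomputable def tM (π : Γ →* Perm X) (ω : k) (S : Finset X) : Submodule k V :=
  ⨆ (ι : Fin 3 ↪ X) (_ : pts ι ⊆ S), tP ρ π ω ι

theorem tP_le_tM {ω : k} {ι : Fin 3 ↪ X} {S : Finset X} (h : pts ι ⊆ S) :
    tP ρ π ω ι ≤ tM ρ π ω S :=
  le_iSup₂_of_le (f := fun (κ : Fin 3 ↪ X) (_ : pts κ ⊆ S) => tP ρ π ω κ) ι h le_rfl

theorem tM_mono {ω : k} {S T : Finset X} (h : S ⊆ T) : tM ρ π ω S ≤ tM ρ π ω T :=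
  iSup₂_le fun _ hι => tP_le_tM ρ (hι.trans h)

variable (hπ : π.range = alternatingGroup X) (hp0 : ∀ g, π g = 1 → ρ g = 1) (h2 : (2 : k) = 0)
  (hker : ∀ g, ρ g = 1 → π g = 1) (h9 : 9 ≤ Fintype.card X) {ω : k} (hω : ω ^ 2 + ω + 1 = 0)
  {n : ℕ} [CharP k 2] (hrec : BoundBelow n) (hn : finrank k V = n)
  (hsmall : n < bnd 2 (Fintype.card X)) (hirr : Irr ρ)

include hπ hp0 h2 hker h9 hω hrec hn hsmall in
theorem tM_fixed {S : Finset X} {σ : Perm X} (hσ : σ ∈ fixGrp S) {v : V}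
    (hv : v ∈ tM ρ π ω S) : op ρ π σ v = v := by
  have : tM ρ π ω S ≤ peig ρ π σ (1 : k) := iSup₂_le fun ι hι w hw => (mem_peig ρ).2
    ((ttriv ρ hπ hp0 h2 hker h9 hω hrec hn hsmall (fixGrp_mono hι hσ) hw).trans (one_smul k w).symm)
  exact ((mem_peig ρ).1 (this hv)).trans (one_smul k v)

theorem five_comm : (swap 0 1 * swap 1 2 : Perm (Fin 5)) * (swap 0 3 * swap 3 4) *
    (swap 0 1 * swap 1 2)⁻¹ * (swap 0 3 * swap 3 4)⁻¹ = swap 0 1 * swap 1 3 := by
  decide +kernel

include hπ hp0 hker hirr in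
/-- A vector fixed outside each of two disjoint small sets is zero. -/
theorem fix_two {S₁ S₂ : Finset X} (hd : Disjoint S₁ S₂) {o : X} (ho₁ : o ∉ S₁) (ho₂ : o ∉ S₂)
    (h₁ : 2 ≤ S₁.card) (h₂ : 2 ≤ S₂.card) {v : V}
    (hv₁ : ∀ σ ∈ fixGrp S₁, op ρ π σ v = v) (hv₂ : ∀ σ ∈ fixGrp S₂, op ρ π σ v = v) : v = 0 := by
  let H : Subgroup (Perm X) :=
    { carrier := {σ | Perm.sign σ = 1 ∧ op ρ π σ v = v}
      one_mem' := ⟨map_one _, by rw [op_one ρ hp0]; rfl⟩
      mul_mem' := fun {a b} ha hb => ⟨by rw [map_mul, ha.1, hb.1, one_mul],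
        by rw [op_mul_apply ρ hπ hp0 ha.1 hb.1, hb.2, ha.2]⟩
      inv_mem' := fun {a} ha => ⟨by rw [map_inv, ha.1, inv_one],
        op_inj ρ hπ hp0 ha.1 (by
          rw [← op_mul_apply ρ hπ hp0 ha.1 (by rw [map_inv, ha.1, inv_one]), mul_inv_cancel,
            op_one ρ hp0, ha.2]
          rfl)⟩ }
  have hH₁ : fixGrp S₁ ≤ H := fun σ hσ => ⟨hσ.1, hv₁ σ hσ⟩
  have hH₂ : fixGrp S₂ ≤ H := fun σ hσ => ⟨hσ.1, hv₂ σ hσ⟩
  have key : ∀ (A B : Finset X), Disjoint A B → o ∉ A → o ∉ B → 2 ≤ A.card → 2 ≤ B.card →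
      fixGrp A ≤ H → fixGrp B ≤ H → ∀ y ∈ A, ∀ z ∈ B, swap o y * swap y z ∈ H := by
    intro A B hAB hoA hoB hA hB hHA hHB y hy z hz
    obtain ⟨y', hy', hyy⟩ := Finset.exists_mem_ne hA y
    obtain ⟨z', hz', hzz⟩ := Finset.exists_mem_ne hB z
    have dis : ∀ {p q : X}, p ∈ A → q ∈ B → p ≠ q := fun hp hq e =>
      Finset.disjoint_left.1 hAB hp (e ▸ hq)
    have noA : ∀ {p : X}, p ∈ A → o ≠ p := fun hp e => hoA (e ▸ hp)
    have noB : ∀ {p : X}, p ∈ B → o ≠ p := fun hp e => hoB (e ▸ hp)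
    have hh : swap o y * swap y y' ∈ H := hHB (cyc_mem (noA hy) hyy.symm (noA hy').symm hoB
      (fun h => dis hy h rfl) (fun h => dis hy' h rfl))
    have hk : swap o z * swap z z' ∈ H := hHA (cyc_mem (noB hz) hzz.symm (noB hz').symm hoA
      (fun h => dis h hz rfl) (fun h => dis h hz' rfl))
    let ι5 : Fin 5 ↪ X := ⟨![o, y, y', z, z'], by
      intro a b
      fin_cases a <;> fin_cases b <;>
        simp [noA hy, noA hy', noB hz, noB hz', hyy, hzz, dis hy hz, dis hy hz', dis hy' hz,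
          dis hy' hz', (noA hy).symm, (noA hy').symm, (noB hz).symm, (noB hz').symm, hyy.symm,
          hzz.symm, (dis hy hz).symm, (dis hy hz').symm, (dis hy' hz).symm, (dis hy' hz').symm]⟩
    have e := congrArg (emb ι5) five_comm
    simp only [map_mul, map_inv, emb_swap] at e
    have hin := mul_mem (mul_mem (mul_mem hh hk) (inv_mem hh)) (inv_mem hk)
    have e' : (swap o y * swap y y') * (swap o z * swap z z') * (swap o y * swap y y')⁻¹ *
        (swap o z * swap z z')⁻¹ = swap o y * swap y z := by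
      exact e
    rwa [e'] at hin
  have hthree : ∀ y z, o ≠ y → y ≠ z → z ≠ o → swap o y * swap y z ∈ H := by
    intro y z hy hyz hz
    by_cases h1 : y ∉ S₁ ∧ z ∉ S₁
    · exact hH₁ (cyc_mem hy hyz hz ho₁ h1.1 h1.2)
    by_cases h2' : y ∉ S₂ ∧ z ∉ S₂
    · exact hH₂ (cyc_mem hy hyz hz ho₂ h2'.1 h2'.2)
    rw [not_and_or, not_not, not_not] at h1 h2'
    rcases h1 with a | a <;> rcases h2' with b | b
    · exact absurd b (Finset.disjoint_left.1 hd a)
    · exact key S₁ S₂ hd ho₁ ho₂ h₁ h₂ hH₁ hH₂ y a z b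
    · exact key S₂ S₁ hd.symm ho₂ ho₁ h₂ h₁ hH₂ hH₁ y b z a
    · exact absurd b (Finset.disjoint_left.1 hd a)
  have hall : ∀ σ : Perm X, Perm.sign σ = 1 → σ ∈ H := by
    obtain ⟨c, hc⟩ : ∃ c, c ∈ S₁ := Finset.card_pos.1 (by omega)
    have hoc : o ≠ c := fun e => ho₁ (e ▸ hc)
    have hle : Subgroup.closure (Set.range (Presentations.Carmichael.gen hoc)) ≤
        H.comap (alternatingGroup X).subtype := by
      rw [Subgroup.closure_le]
      rintro _ ⟨i, rfl⟩
      show Presentations.Carmichael.cyc o c i.1 ∈ H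
      have e : Presentations.Carmichael.cyc o c i.1 = swap o c * swap c i.1 := by
        have e0 := congrArg (emb (triEmb hoc (Ne.symm i.2.2) i.2.1))
          (show (swap 0 2 * swap 0 1 : Perm (Fin 3)) = tt by decide)
        rw [triEmb_emb, map_mul, emb_swap, emb_swap] at e0
        exact e0
      rw [e]
      exact hthree c i.1 hoc (Ne.symm i.2.2) i.2.1
    rw [Presentations.Carmichael.gen_closure hoc] at hle
    intro σ hσ
    exact hle (Subgroup.mem_top (⟨σ, Perm.mem_alternatingGroup.2 hσ⟩ : alternatingGroup X))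
  have hfix : ∀ g, ρ g v = v := fun g => by
    rw [← op_eq ρ hp0 (rfl : π g = π g)]
    exact (hall _ (Perm.mem_alternatingGroup.1 (hπ ▸ ⟨g, rfl⟩))).2
  rcases hirr (Submodule.span k {v}) (fun g w hw => by
      obtain ⟨c, rfl⟩ := Submodule.mem_span_singleton.1 hw
      rw [map_smul, hfix]; exact hw) with h | h
  · exact (Submodule.span_singleton_eq_bot).1 h
  · exfalso
    obtain ⟨y, hy⟩ : ∃ y, y ∈ S₁ := Finset.card_pos.1 (by omega)
    obtain ⟨z, hz⟩ : ∃ z, z ∈ S₂ := Finset.card_pos.1 (by omega)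
    have hoy : o ≠ y := fun e => ho₁ (e ▸ hy)
    have hyz : y ≠ z := fun e => Finset.disjoint_left.1 hd hy (e ▸ hz)
    obtain ⟨g, hg⟩ := exists_preimage hπ (σ := swap o y * swap y z)
      (by rw [map_mul, Perm.sign_swap hoy, Perm.sign_swap hyz]; rfl)
    have h1 : ρ g = 1 := by
      ext w
      obtain ⟨c, rfl⟩ := Submodule.mem_span_singleton.1 (h.ge (Submodule.mem_top : w ∈ ⊤))
      rw [map_smul, hfix]; rfl
    have := congrArg (fun σ : Perm X => σ z) (hg.symm.trans (hker g h1))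
    simp only [Perm.mul_apply, swap_apply_right, Perm.one_apply] at this
    exact absurd this (fun e => ho₂ (e ▸ hz))

/-- Two adjacent triples of a quad. -/
abbrev jt : Fin 3 ↪ Fin 4 := ⟨![0, 1, 2], by decide⟩

/-- Two adjacent triples of a quad. -/
abbrev jt' : Fin 3 ↪ Fin 4 := ⟨![0, 1, 3], by decide⟩

include hπ hp0 h2 hker h9 hω hrec hn hsmall hirr in
/-- Adjacent triples have a common moved vector. -/
theorem tP_meet (q : Fin 4 ↪ X) :
    ∃ v ∈ tP ρ π ω (jt.trans q), v ∈ tP ρ π ω (jt'.trans q) ∧ v ≠ 0 := by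
  by_contra hcon
  push Not at hcon
  have hall : ∀ q' : Fin 4 ↪ X, ∀ v ∈ tP ρ π ω (jt.trans q'),
      v ∈ tP ρ π ω (jt'.trans q') → v = 0 := by
    intro q' v hv hv'
    obtain ⟨σ, hσ, hσq⟩ := exists_even_map q' q (by omega)
    refine op_inj ρ hπ hp0 hσ ?_
    rw [map_zero]
    exact hcon _ (tP_map ρ hπ hp0 hσ (fun i => hσq _) hv) (tP_map ρ hπ hp0 hσ (fun i => hσq _) hv')
  have hone := tE_one_dim ρ hπ hp0 h2 hker h9 hω hrec hn hsmall
  have hP2 : ∀ ι, 2 ≤ finrank k (tP ρ π ω ι) := fun ι => by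
    have := tP_dim ρ hπ hp0 h2 h9 hω ι
    rw [hone] at this
    omega
  set r := Fintype.card X
  let e := (Fintype.equivFin X).symm
  let S : ℕ → Finset X := fun j => (Finset.univ.filter fun i : Fin r => i.val < 4 * j).image e
  have hmemS : ∀ j (i : Fin r), e i ∈ S j ↔ i.val < 4 * j := fun j i => by
    simp [S, e.injective.eq_iff]
  have hSc : ∀ j, 4 * j ≤ r → (S j).card = 4 * j := fun j hj => by
    rw [Finset.card_image_of_injective _ e.injective, Fin.card_filter_val_lt, min_eq_right hj]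
  have step : ∀ j, 4 * j < r → 4 * j ≤ finrank k (tM ρ π ω (S j)) := by
    intro j
    induction j with
    | zero => intro _; simp
    | succ j ih =>
      intro hj
      let Q : Fin 4 ↪ X := ⟨fun i => e ⟨4 * j + i.val, by omega⟩, fun a b h => by
        have := congrArg Fin.val (e.injective h)
        exact Fin.ext (by simp only at this; omega)⟩
      have hQS : pts Q ⊆ S (j + 1) := fun x hx => by
        obtain ⟨i, -, rfl⟩ := Finset.mem_image.1 hx
        exact (hmemS _ _).2 (by show 4 * j + i.val < _; omega)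
      have hQ : 4 ≤ finrank k (tM ρ π ω (pts Q)) := by
        have := disjoint_finrank_add (tP_le_tM ρ (π := π) (ω := ω) (S := pts Q) (ι := jt.trans Q)
            (fun x hx => by obtain ⟨i, -, rfl⟩ := Finset.mem_image.1 hx; exact mem_pts _))
          (tP_le_tM ρ (π := π) (ω := ω) (S := pts Q) (ι := jt'.trans Q)
            (fun x hx => by obtain ⟨i, -, rfl⟩ := Finset.mem_image.1 hx; exact mem_pts _))
          (hall Q)
        have := hP2 (jt.trans Q)
        have := hP2 (jt'.trans Q)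
        omega
      by_cases hj0 : j = 0
      · subst hj0
        exact le_trans hQ (Submodule.finrank_mono (tM_mono ρ hQS))
      have hSj : S j ⊆ S (j + 1) := fun x hx => by
        obtain ⟨i, rfl⟩ := e.surjective x
        exact (hmemS _ _).2 (by have := (hmemS _ _).1 hx; omega)
      have hdisj : Disjoint (S j) (pts Q) := Finset.disjoint_right.2 fun x hx hxS => by
        obtain ⟨i, -, rfl⟩ := Finset.mem_image.1 hx
        have : 4 * j + i.val < 4 * j := (hmemS _ _).1 hxS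
        omega
      have := disjoint_finrank_add (tM_mono ρ (π := π) (ω := ω) hSj)
        (tM_mono ρ (π := π) (ω := ω) hQS) fun v hv hv' =>
        fix_two ρ hπ hp0 hker hirr hdisj (o := e ⟨4 * (j + 1), hj⟩)
          (fun h => by have : 4 * (j + 1) < 4 * j := (hmemS _ _).1 h; omega)
          (fun h => by
            obtain ⟨i, -, hi⟩ := Finset.mem_image.1 h
            have : 4 * j + i.val = 4 * (j + 1) := congrArg Fin.val (e.injective hi)
            omega)
          (by rw [hSc j (by omega)]; omega) (by rw [card_pts]; omega)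
          (fun σ hσ => tM_fixed ρ hπ hp0 h2 hker h9 hω hrec hn hsmall hσ hv)
          (fun σ hσ => tM_fixed ρ hπ hp0 h2 hker h9 hω hrec hn hsmall hσ hv')
      have := ih (by omega)
      omega
  set j := (r - 1) / 4 with hj
  have h1 := step j (by omega)
  have h2' := Submodule.finrank_le (tM ρ π ω (S j))
  have hb := bnd_bounds 2 r
  by_cases h3 : r ≤ 4 * j + 2
  · by_cases hpar : 2 ∣ r
    · rw [bnd_of_dvd hpar] at hsmall; omega
    · rw [bnd_of_not_dvd hpar] at hsmall; omega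
  · let T : Fin 3 ↪ X := ⟨fun i => e ⟨4 * j + i.val, by omega⟩, fun a b h => by
      have := congrArg Fin.val (e.injective h)
      exact Fin.ext (by simp only at this; omega)⟩
    have hT : emb T tt ∈ fixGrp (S j) := emb_mem_fixGrp tt_facts.1 fun i h => by
      have : 4 * j + i.val < 4 * j := (hmemS _ _).1 h
      omega
    have := disjoint_finrank_add (le_top : tM ρ π ω (S j) ≤ ⊤) (le_top : tP ρ π ω T ≤ ⊤)
      fun v hv hv' => tP_fixed ρ hπ hp0 h2 hω T hv'
        (tM_fixed ρ hπ hp0 h2 hker h9 hω hrec hn hsmall hT hv)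
    rw [finrank_top] at this
    have := hP2 T
    by_cases hpar : 2 ∣ r
    · rw [bnd_of_dvd hpar] at hsmall; omega
    · rw [bnd_of_not_dvd hpar] at hsmall; omega

include hπ hp0 h2 hker h9 hω hrec hn hsmall in
/-- Adjacent triples have different moved spaces. -/
theorem tP_ne (q : Fin 4 ↪ X) : tP ρ π ω (jt.trans q) ≠ tP ρ π ω (jt'.trans q) := by
  intro heq
  have hall : ∀ q' : Fin 4 ↪ X, tP ρ π ω (jt.trans q') = tP ρ π ω (jt'.trans q') := by
    intro q'
    obtain ⟨σ, hσ, hσq⟩ := exists_even_map q q' (by omega)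
    obtain ⟨g, hg⟩ := exists_preimage hπ hσ
    have h1 : ∀ (j : Fin 3 ↪ Fin 4),
        (tP ρ π ω (j.trans q)).map (ρ g) = tP ρ π ω (j.trans q') := by
      intro j
      refine le_antisymm ?_ fun w hw => ?_
      · rintro _ ⟨w, hw, rfl⟩
        rw [← op_eq ρ hp0 hg]
        exact tP_map ρ hπ hp0 hσ (fun i => hσq _) hw
      · have hinv : Perm.sign σ⁻¹ = 1 := by rw [map_inv, hσ, inv_one]
        refine ⟨op ρ π σ⁻¹ w, tP_map ρ hπ hp0 hinv (fun i => ?_) hw, ?_⟩
        · show σ⁻¹ (q' (j i)) = q (j i)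
          rw [← hσq, Perm.inv_def, Equiv.symm_apply_apply]
        · rw [← op_eq ρ hp0 hg, ← op_mul_apply ρ hπ hp0 hσ hinv, mul_inv_cancel, op_one ρ hp0]
          rfl
    rw [← h1, ← h1, heq]
  obtain ⟨ι, -⟩ := exists_pts (∅ : Finset X) 6 (by simp; omega)
  let m : (Fin 3 ↪ Fin 6) → Submodule k V := fun j => tP ρ π ω (j.trans ι)
  have hrl : ∀ (j j' : Fin 3 ↪ Fin 6) (c : Perm (Fin 3)), (∀ i, j' i = j (c i)) → m j' = m j := by
    intro j j' c h
    have : j'.trans ι = rl (j.trans ι) c := Function.Embedding.ext fun i => congrArg ι (h i)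
    show tP ρ π ω (j'.trans ι) = _
    rw [this, tP_rl ρ hπ hp0 hω]
  have hq : ∀ q6 : Fin 4 ↪ Fin 6, m (jt.trans q6) = m (jt'.trans q6) := fun q6 => hall (q6.trans ι)
  let a0 : Fin 3 ↪ Fin 6 := ⟨![0, 1, 2], by decide⟩
  let a1 : Fin 3 ↪ Fin 6 := ⟨![3, 4, 5], by decide⟩
  have hq1 := hq ⟨![0, 1, 2, 3], by decide⟩
  have hq2 := hq ⟨![0, 3, 1, 4], by decide⟩
  have hq3 := hq ⟨![3, 4, 0, 5], by decide⟩
  rw [hrl (jt'.trans ⟨![0, 1, 2, 3], by decide⟩) (jt.trans ⟨![0, 3, 1, 4], by decide⟩)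
    (swap 1 2) (by decide)] at hq2
  rw [hrl (jt'.trans ⟨![0, 3, 1, 4], by decide⟩) (jt.trans ⟨![3, 4, 0, 5], by decide⟩)
    (swap 0 1 * swap 1 2) (by decide)] at hq3
  have e01 : m a0 = m a1 := by
    rw [hrl (jt.trans ⟨![0, 1, 2, 3], by decide⟩) a0 1 (by decide),
      hrl (jt'.trans ⟨![3, 4, 0, 5], by decide⟩) a1 1 (by decide)]
    exact hq1.trans (hq2.trans hq3)
  have hpos := tE_pos ρ hπ hp0 h2 hker h9 hω (a1.trans ι)
  obtain ⟨v, hv, hv0⟩ := (Submodule.ne_bot_iff _).1 (Submodule.one_le_finrank_iff.1 hpos)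
  have hv1 : v ∈ m a1 := Submodule.mem_sup_left hv
  refine hv0 (tP_fixed ρ hπ hp0 h2 hω (a0.trans ι) (e01 ▸ hv1 : v ∈ m a0) ?_)
  refine ttriv ρ hπ hp0 h2 hker h9 hω hrec hn hsmall (ι := a1.trans ι)
    (emb_mem_fixGrp tt_facts.1 fun i h => ?_) hv1
  obtain ⟨j, -, e⟩ := Finset.mem_image.1 h
  exact (by decide : ∀ i j, a1 j ≠ a0 i) i j (ι.injective e)

end CfsgLib.AltGL
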