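/-
Alternating groups in characteristic two: the permutation module.
-/
import Mathlib
import Cfsg.Agent.Lib.Known.AltGL.Triples2

set_option autoImplicit false
set_option linter.unusedSectionVars false

namespace CfsgLib.AltGL

open Equiv Module

variable {k : Type} [Field k] [IsAlgClosed k] {V : Type} [AddCommGroup V] [Module k V]
  [FiniteDimensional k V] {Γ : Type} [Group Γ] [Finite Γ] (ρ : Representation k Γ V)
  {X : Type} [Fintype X] [DecidableEq X] {π : Γ →* Perm X}

/-- The vectors moved by all triples through two points. -/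
noncomputable def tL (π : Γ →* Perm X) (ω : k) (a b : X) : Submodule k V :=
  ⨅ (c : X) (h : a ≠ b ∧ b ≠ c ∧ c ≠ a), tP ρ π ω (triEmb h.1 h.2.1 h.2.2)

theorem mem_tL {ω : k} {a b : X} {v : V} : v ∈ tL ρ π ω a b ↔
    ∀ c (hab : a ≠ b) (hbc : b ≠ c) (hca : c ≠ a), v ∈ tP ρ π ω (triEmb hab hbc hca) := by
  simp [tL, Submodule.mem_iInf]

variable (hπ : π.range = alternatingGroup X) (hp0 : ∀ g, π g = 1 → ρ g = 1) (h2 : (2 : k) = 0)
  (hker : ∀ g, ρ g = 1 → π g = 1) (h9 : 9 ≤ Fintype.card X) {ω : k} (hω : ω ^ 2 + ω + 1 = 0)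
  {n : ℕ} [CharP k 2] (hrec : BoundBelow n) (hn : finrank k V = n)
  (hsmall : n < bnd 2 (Fintype.card X)) (hirr : Irr ρ)

include hπ hp0 hω in
theorem tP_perm {a b c : X} (hab : a ≠ b) (hbc : b ≠ c) (hca : c ≠ a) :
    tP ρ π ω (triEmb hbc hca hab) = tP ρ π ω (triEmb hab hbc hca) ∧
      tP ρ π ω (triEmb hab.symm hca.symm hbc.symm) = tP ρ π ω (triEmb hab hbc hca) := by
  constructor
  · rw [← tP_rl ρ hπ hp0 hω (triEmb hab hbc hca) (swap 0 1 * swap 1 2)]
    congr 1
    exact Function.Embedding.ext fun i => by fin_cases i <;> rfl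
  · rw [← tP_rl ρ hπ hp0 hω (triEmb hab hbc hca) (swap 0 1)]
    congr 1
    exact Function.Embedding.ext fun i => by fin_cases i <;> rfl

include hπ hp0 h2 hker h9 hω hrec hn hsmall hirr in
/-- In characteristic two the bound holds for alternating groups. -/
theorem plain_two : bnd 2 (Fintype.card X) ≤ n := by
  have hsgn : ∀ g, Perm.sign (π g) = 1 := fun g => Perm.mem_alternatingGroup.1 (hπ ▸ ⟨g, rfl⟩)
  have hone := tE_one_dim ρ hπ hp0 h2 hker h9 hω hrec hn hsmall
  -- four points with a given start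
  have hquad : ∀ {a b c : X}, a ≠ b → b ≠ c → c ≠ a →
      ∃ q : Fin 4 ↪ X, q 0 = a ∧ q 1 = b ∧ q 2 = c := by
    intro a b c hab hbc hca
    obtain ⟨g, hg⟩ := exists_extend (triEmb hab hbc hca) (show 3 ≤ 4 by norm_num) (by omega)
    exact ⟨g, hg 0, hg 1, hg 2⟩
  have hjt : ∀ {q : Fin 4 ↪ X} {a b c : X} (hab : a ≠ b) (hbc : b ≠ c) (hca : c ≠ a),
      q 0 = a → q 1 = b → q 2 = c → jt.trans q = triEmb hab hbc hca := by
    intro q a b c hab hbc hca h0 h1 h2
    exact Function.Embedding.ext fun i => by fin_cases i <;> assumption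
  have hle : ∀ (q : Fin 4 ↪ X) v, v ∈ tP ρ π ω (jt.trans q) → v ∈ tP ρ π ω (jt'.trans q) →
      v ∈ tL ρ π ω (q 0) (q 1) := by
    intro q v hv hv'
    rw [mem_tL]
    intro c hab hbc hca
    by_cases h2c : c = q 2
    · subst h2c
      rwa [← hjt hab hbc hca rfl rfl rfl]
    let t : Fin 4 ↪ X := ⟨![q 0, q 1, q 2, c], by
      intro i j
      fin_cases i <;> fin_cases j <;>
        simp [q.injective.eq_iff, hbc, hbc.symm, hca, hca.symm, h2c, Ne.symm h2c]⟩
    obtain ⟨σ, hσ, hσt⟩ := exists_even_map q t (by omega)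
    have hfix : op ρ π σ v = v :=
      ttriv ρ hπ hp0 h2 hker h9 hω hrec hn hsmall (ι := jt.trans q) ⟨hσ, fun x hx => by
        obtain ⟨i, -, rfl⟩ := Finset.mem_image.1 hx
        fin_cases i <;> [exact hσt 0; exact hσt 1; exact hσt 2]⟩ hv
    rw [← hfix]
    refine tP_map ρ hπ hp0 hσ (fun i => ?_) hv'
    fin_cases i <;> [exact hσt 0; exact hσt 1; exact hσt 3]
  have hline : ∀ a b, a ≠ b → finrank k (tL ρ π ω a b) ≤ 1 := by
    intro a b hab
    obtain ⟨g, hg⟩ := exists_extend (pairEmb hab) (show 2 ≤ 4 by norm_num) (by omega)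
    have g0 : g 0 = a := hg 0
    have g1 : g 1 = b := hg 1
    subst g0 g1
    have h12 : g 1 ≠ g 2 := g.injective.ne (by decide)
    have h20 : g 2 ≠ g 0 := g.injective.ne (by decide)
    have h13 : g 1 ≠ g 3 := g.injective.ne (by decide)
    have h30 : g 3 ≠ g 0 := g.injective.ne (by decide)
    have l1 : tL ρ π ω (g 0) (g 1) ≤ tP ρ π ω (jt.trans g) := fun v hv => by
      rw [hjt hab h12 h20 rfl rfl rfl]
      exact (mem_tL ρ).1 hv _ _ _ _
    have l2 : tL ρ π ω (g 0) (g 1) ≤ tP ρ π ω (jt'.trans g) := fun v hv => by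
      have e : jt'.trans g = triEmb hab h13 h30 :=
        Function.Embedding.ext fun i => by fin_cases i <;> rfl
      rw [e]
      exact (mem_tL ρ).1 hv _ _ _ _
    have hP : ∀ ι, finrank k (tP ρ π ω ι) ≤ 2 := fun ι => by
      have := Submodule.finrank_sup_add_finrank_inf_eq (tE ρ π ι ω) (tE ρ π ι (ω ^ 2))
      rw [hone, (tE_dim ρ hπ hp0 h9 hω ι ι).2, hone] at this
      show finrank k (tE ρ π ι ω ⊔ tE ρ π ι (ω ^ 2) : Submodule k V) ≤ 2
      omega
    by_contra hlt
    have e1 := Submodule.eq_of_le_of_finrank_le l1 (by have := hP (jt.trans g); omega)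
    have e2 := Submodule.eq_of_le_of_finrank_le l2 (by have := hP (jt'.trans g); omega)
    exact tP_ne ρ hπ hp0 h2 hker h9 hω hrec hn hsmall g (e1.symm.trans e2)
  have hequiv : ∀ g a b, a ≠ b → ∀ v ∈ tL ρ π ω a b, ρ g v ∈ tL ρ π ω (π g a) (π g b) := by
    intro g a b hab v hv
    rw [mem_tL] at hv ⊢
    intro c h1 h2' h3
    have e : π g ((π g)⁻¹ c) = c := by rw [Perm.inv_def, Equiv.apply_symm_apply]
    have hbc : b ≠ (π g)⁻¹ c := fun h => h2' (by rw [h, e])
    have hca : (π g)⁻¹ c ≠ a := fun h => h3 (by rw [← h, e])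
    rw [← op_eq ρ hp0 (rfl : π g = π g)]
    refine tP_map ρ hπ hp0 (hsgn g) (fun i => ?_) (hv _ hab hbc hca)
    fin_cases i <;> [rfl; rfl; exact e]
  have hsymm : ∀ a b, a ≠ b → ∀ v ∈ tL ρ π ω a b, v ∈ tL ρ π ω b a := by
    intro a b hab v hv
    rw [mem_tL] at hv ⊢
    intro c hba hac hcb
    rw [(tP_perm ρ hπ hp0 hω hab hcb.symm hac.symm).2]
    exact hv c hab hcb.symm hac.symm
  refine pair_bound ρ hπ hp0 h9 hirr hn (tL ρ π ω) hequiv hline ?_ ?_ ?_
  · obtain ⟨q, -⟩ := exists_pts (∅ : Finset X) 4 (by simp; omega)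
    obtain ⟨v, hv, hv', hv0⟩ := tP_meet ρ hπ hp0 h2 hker h9 hω hrec hn hsmall hirr q
    exact ⟨q 0, q 1, q.injective.ne (by decide),
      (Submodule.ne_bot_iff _).2 ⟨v, hle q v hv hv', hv0⟩⟩
  · intro a b hab
    obtain ⟨ι, hι⟩ := exists_pts {a, b} 2 (by
      have : ({a, b} : Finset X).card ≤ 2 := Finset.card_le_two
      omega)
    have hxy : ι 0 ≠ ι 1 := ι.injective.ne (by decide)
    obtain ⟨g, hg⟩ := exists_preimage hπ (σ := swap a b * swap (ι 0) (ι 1))
      (by rw [map_mul, Perm.sign_swap hab, Perm.sign_swap hxy]; rfl)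
    have h0 := hι 0; have h1 := hι 1
    simp only [Finset.mem_insert, Finset.mem_singleton, not_or] at h0 h1
    have ga : π g a = b := by
      rw [hg, Perm.mul_apply, swap_apply_of_ne_of_ne (Ne.symm h0.1) (Ne.symm h1.1), swap_apply_left]
    have gb : π g b = a := by
      rw [hg, Perm.mul_apply, swap_apply_of_ne_of_ne (Ne.symm h0.2) (Ne.symm h1.2),
        swap_apply_right]
    refine ⟨g, ga, gb, fun v hv => ?_⟩
    have hw : ρ g v ∈ tL ρ π ω a b := by
      have := hequiv g a b hab v hv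
      rw [ga, gb] at this
      exact hsymm b a hab.symm _ this
    have hgg : ρ g (ρ g v) = v := by
      have hm : π (g * g) = 1 := by
        rw [map_mul, hg]
        have hc : Commute (swap a b) (swap (ι 0) (ι 1)) := by
          refine Perm.Disjoint.commute ?_
          intro x
          by_cases hx : x = a ∨ x = b
          · rcases hx with rfl | rfl
            · exact Or.inr (swap_apply_of_ne_of_ne (Ne.symm h0.1) (Ne.symm h1.1))
            · exact Or.inr (swap_apply_of_ne_of_ne (Ne.symm h0.2) (Ne.symm h1.2))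
          · rw [not_or] at hx
            exact Or.inl (swap_apply_of_ne_of_ne hx.1 hx.2)
        rw [← hc.mul_mul_mul_comm, swap_mul_self, swap_mul_self, one_mul]
      rw [← rep_mul_apply, hp0 _ hm]; rfl
    by_cases hv0 : v = 0
    · simp [hv0]
    obtain ⟨u, hu⟩ := finrank_le_one_iff.1 (hline a b hab)
    obtain ⟨s, hs⟩ := hu ⟨v, hv⟩
    obtain ⟨t, ht⟩ := hu ⟨_, hw⟩
    have hs' : s • (u : V) = v := congrArg Subtype.val hs
    have ht' : t • (u : V) = ρ g v := congrArg Subtype.val ht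
    have hs0 : s ≠ 0 := fun e => hv0 (by rw [← hs', e, zero_smul])
    have hc' : ρ g v = (t * s⁻¹) • v := by
      rw [← ht', ← hs', smul_smul, inv_mul_cancel_right₀ hs0]
    set c := t * s⁻¹
    rw [hc', map_smul, hc', smul_smul] at hgg
    have hcc : c * c = 1 := smul_left_injective k hv0 (hgg.trans (one_smul k v).symm)
    have hc0 : (c - 1) * (c - 1) = 0 := by linear_combination hcc - (c - 1) * h2
    rw [hc', sub_eq_zero.1 (mul_self_eq_zero.1 hc0), one_smul]
    exact eq_neg_of_add_eq_zero_left (by rw [← two_smul k v, h2, zero_smul])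
  · intro u hmem heq hanti a b c hab hbc hca
    have m1 := (mem_tL ρ).1 (hmem a b hab) c hab hbc hca
    have m2 := (mem_tL ρ).1 (hmem b c hbc) a hbc hca hab
    have m3 := (mem_tL ρ).1 (hmem c a hca) b hca hab hbc
    rw [(tP_perm ρ hπ hp0 hω hab hbc hca).1] at m2
    rw [(tP_perm ρ hπ hp0 hω hbc hca hab).1, (tP_perm ρ hπ hp0 hω hab hbc hca).1] at m3
    refine tP_fixed ρ hπ hp0 h2 hω _ (Submodule.add_mem _ (Submodule.add_mem _ m1 m2) m3) ?_
    obtain ⟨g, hg⟩ := exists_preimage hπ (σ := swap a b * swap b c)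
      (by rw [map_mul, Perm.sign_swap hab, Perm.sign_swap hbc]; rfl)
    have ga : π g a = b := by
      rw [hg, Perm.mul_apply, swap_apply_of_ne_of_ne hab hca.symm, swap_apply_left]
    have gb : π g b = c := by
      rw [hg, Perm.mul_apply, swap_apply_left, swap_apply_of_ne_of_ne hca hbc.symm]
    have gc : π g c = a := by
      rw [hg, Perm.mul_apply, swap_apply_right, swap_apply_right]
    rw [triEmb_emb, op_eq ρ hp0 hg, map_add, map_add, heq, heq, heq, ga, gb, gc]
    abel

end CfsgLib.AltGL
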