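/-
The degree bound for alternating sections of linear groups.
-/
import Mathlib
import Cfsg.Agent.Lib.Known.AltGL.Quads3
import Cfsg.Agent.Lib.Known.AltGL.Triples3

set_option autoImplicit false
set_option linter.unusedSectionVars false

namespace CfsgLib.AltGL

open Equiv Module

theorem plain_ok : PlainOK := by
  intro p n k V Γ X _ _ _ _ _ _ _ _ _ _ D
  obtain ⟨ρ, π, hp, hrec, hπ, h9, hker, hn, hn0, hirr, hsmall⟩ := D
  intro hp0
  have hb := bnd_bounds p (Fintype.card X)
  refine absurd ?_ (not_le.2 hsmall)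
  by_cases h : p = 2
  · subst h
    have h2 : (2 : k) = 0 := by exact_mod_cast CharP.cast_eq_zero k 2
    obtain ⟨ω, hω⟩ : ∃ ω : k, ω ^ 2 + ω + 1 = 0 := by
      obtain ⟨z, hz⟩ := IsAlgClosed.exists_root
        (Polynomial.X ^ 2 + Polynomial.X + 1 : Polynomial k) (by
          rw [show (Polynomial.X ^ 2 + Polynomial.X + 1 : Polynomial k) =
            Polynomial.C 1 * Polynomial.X ^ 2 + Polynomial.C 1 * Polynomial.X + Polynomial.C 1 by simp,
            Polynomial.degree_quadratic one_ne_zero]
          decide)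
      exact ⟨z, by simpa using hz⟩
    exact plain_two ρ hπ hp0 h2 hker h9 hω hrec hn hsmall hirr
  · have h2 : (2 : k) ≠ 0 := fun e => h ((Nat.prime_dvd_prime_iff_eq hp Nat.prime_two).1
      ((CharP.cast_eq_zero_iff k p 2).1 (by exact_mod_cast e)))
    exact plain_odd ρ hπ hp0 h2 hker h9 hp hrec hn (by omega) hirr

theorem bound_all : ∀ n p, p.Prime → BoundAt p n := reduce plain_ok double_ok

/-- Alternating sections of finite linear groups. -/
theorem section_bound {F : Type*} [Field F] [Fintype F] (p : ℕ) [Fact p.Prime] [CharP F p]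
    (n : ℕ) (r : ℕ) (H : Subgroup (GL (Fin n) F)) (K : Subgroup ↥H) [K.Normal]
    (h : Nonempty (↥H ⧸ K ≃* ↥(alternatingGroup (Fin r)))) (hr : 9 ≤ r) : bnd p r ≤ n := by
  classical
  obtain ⟨φ⟩ := h
  let k := AlgebraicClosure (ZMod p)
  letI := ZMod.algebra F p
  haveI : CharP k p := charP_of_injective_algebraMap (algebraMap (ZMod p) k).injective p
  let f : F →+* k := (IsAlgClosed.lift (R := ZMod p) (S := F) (M := k)).toRingHom
  let ι : GL (Fin n) F →* GL (Fin n) k := Units.map f.mapMatrix.toMonoidHom
  have hι : Function.Injective ι :=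
    Units.map_injective (fun A B e => Matrix.ext fun i j =>
      f.injective (congrFun (congrFun e i) j))
  let e := H.equivMapOfInjective ι hι
  haveI : Finite (H.map ι) := Finite.of_equiv _ e.toEquiv
  let ρ : Representation k (H.map ι) (Fin n → k) :=
    ((Matrix.toLinAlgEquiv' (R := k) (n := Fin n)).toMonoidHom.comp (Units.coeHom _)).comp
      (H.map ι).subtype
  let π : H.map ι →* Perm (Fin r) :=
    (alternatingGroup (Fin r)).subtype.comp
      (φ.toMonoidHom.comp ((QuotientGroup.mk' K).comp e.symm.toMonoidHom))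
  have hπ : π.range = alternatingGroup (Fin r) := by
    ext σ
    constructor
    · rintro ⟨g, rfl⟩; exact Subtype.coe_prop _
    · intro hσ
      obtain ⟨x, hx⟩ := QuotientGroup.mk'_surjective K (φ.symm ⟨σ, hσ⟩)
      refine ⟨e x, ?_⟩
      show ((φ (QuotientGroup.mk' K (e.symm (e x))) : alternatingGroup (Fin r)) : Perm (Fin r)) = σ
      rw [MulEquiv.symm_apply_apply, hx, MulEquiv.apply_symm_apply]
  have hker : ∀ g, ρ g = 1 → π g = 1 := by
    intro g hg
    have : g = 1 := by
      refine Subtype.ext (Units.ext ?_)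
      refine (Matrix.toLinAlgEquiv' (R := k) (n := Fin n)).injective ?_
      show ρ g = _
      rw [hg]
      exact (map_one _).symm
    rw [this, map_one]
  have := bound_all n p Fact.out k (Fin n → k) (H.map ι) ρ (Fin r) π hπ
    (by rwa [Fintype.card_fin]) hker (Module.finrank_fin_fun k)
  rwa [Fintype.card_fin] at this

end CfsgLib.AltGL
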